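import Cfsg.Prelude.Def_Transfer
import Cfsg.Agent.Lib.Helper33.NormalPComp
import Cfsg.Agent.Lib.Helper33.Conj
import Cfsg.Agent.Lib.Helper2.PComplement
import Mathlib

set_option autoImplicit false

/-!
# Normal `p`-complements: a normal form and transport lemmas
-/

namespace Cfsg.Agent.Lib.Helper51

open Cfsg

variable {G : Type*} [Group G]

/-- Normal form of `HasNormalPComplement`: a normal subgroup of order prime to `p` and index a
power of `p`. -/
def NPCn (p : ℕ) (G : Type*) [Group G] : Prop :=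
  ∃ N : Subgroup G, N.Normal ∧ (Nat.card N).Coprime p ∧ ∃ k : ℕ, N.index = p ^ k

theorem npcn_of_hnpc [Finite G] {p : ℕ} [hp : Fact p.Prime] (h : HasNormalPComplement p G) :
    NPCn p G := by
  obtain ⟨P, N, hN, hc⟩ := h
  refine ⟨N, hN, ?_, ?_⟩
  · have h1 : (P : Subgroup G).index = Nat.card N := hc.index_eq_card
    rw [← h1, Nat.coprime_comm, Nat.Prime.coprime_iff_not_dvd hp.out]
    exact P.not_dvd_index
  · have h1 : N.index = Nat.card (P : Subgroup G) := hc.symm.index_eq_card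
    obtain ⟨k, hk⟩ := P.2.exists_card_eq
    exact ⟨k, by rw [h1, hk]⟩

theorem hnpc_of_npcn [Finite G] {p : ℕ} [hp : Fact p.Prime] (h : NPCn p G) :
    HasNormalPComplement p G := by
  obtain ⟨N, hN, hcop, k, hk⟩ := h
  have := hN
  exact Cfsg.Agent.Lib.Helper33.hasNormalPComplement_of_coprime_elements N
    (fun x => Cfsg.Agent.Lib.Helper33.mem_iff_coprime_of_normal_hall N hcop hk x)

theorem hnpc_iff [Finite G] {p : ℕ} [hp : Fact p.Prime] :
    HasNormalPComplement p G ↔ NPCn p G := ⟨npcn_of_hnpc, hnpc_of_npcn⟩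

/-- a divisor of a prime power is a prime power -/
theorem exists_eq_pow_of_dvd_pow {p : ℕ} (hp : p.Prime) {m k : ℕ} (h : m ∣ p ^ k) :
    ∃ j : ℕ, m = p ^ j := by
  obtain ⟨j, _, hj⟩ := (Nat.dvd_prime_pow hp).1 h
  exact ⟨j, hj⟩

theorem npcn_of_surjective {G' : Type*} [Group G'] [Finite G] {p : ℕ} [hp : Fact p.Prime]
    (f : G →* G') (hf : Function.Surjective f) (h : NPCn p G) : NPCn p G' := by
  obtain ⟨N, hN, hcop, k, hk⟩ := h
  have := hN
  refine ⟨N.map f, Subgroup.Normal.map hN f hf, ?_, ?_⟩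
  · exact Nat.Coprime.coprime_dvd_left (Subgroup.card_map_dvd N f) hcop
  · have : (N.map f).index ∣ N.index := Subgroup.index_map_dvd N hf
    rw [hk] at this
    exact exists_eq_pow_of_dvd_pow hp.out this

theorem hnpc_of_surjective {G' : Type*} [Group G'] [Finite G] {p : ℕ} [hp : Fact p.Prime]
    (f : G →* G') (hf : Function.Surjective f) (h : HasNormalPComplement p G) :
    HasNormalPComplement p G' := by
  haveI : Finite G' := Finite.of_surjective f hf
  exact hnpc_of_npcn (npcn_of_surjective f hf (npcn_of_hnpc h))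

theorem hnpc_of_mulEquiv {G' : Type*} [Group G'] [Finite G] {p : ℕ} [hp : Fact p.Prime]
    (e : G ≃* G') (h : HasNormalPComplement p G) : HasNormalPComplement p G' :=
  hnpc_of_surjective e.toMonoidHom e.surjective h

theorem npcn_subgroup [Finite G] {p : ℕ} [hp : Fact p.Prime] (H : Subgroup G)
    (h : NPCn p G) : NPCn p H := by
  obtain ⟨N, hN, hcop, k, hk⟩ := h
  have := hN
  refine ⟨N.subgroupOf H, inferInstance, ?_, ?_⟩
  · have h1 : Nat.card (N.subgroupOf H) ∣ Nat.card N := by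
      have : Nat.card (N.subgroupOf H) = Nat.card ↥(H ⊓ N) := by
        rw [← Subgroup.inf_subgroupOf_left]
        exact Nat.card_congr (Subgroup.subgroupOfEquivOfLe (inf_le_left : H ⊓ N ≤ H)).toEquiv
      rw [this]
      exact Subgroup.card_dvd_of_le inf_le_right
    exact Nat.Coprime.coprime_dvd_left h1 hcop
  · have : (N.subgroupOf H).index ∣ N.index := Subgroup.relIndex_dvd_index_of_normal N H
    rw [hk] at this
    exact exists_eq_pow_of_dvd_pow hp.out this


theorem hnpc_subgroup [Finite G] {p : ℕ} [hp : Fact p.Prime] (H : Subgroup G)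
    (h : HasNormalPComplement p G) : HasNormalPComplement p H :=
  hnpc_of_npcn (npcn_subgroup H (npcn_of_hnpc h))

theorem hnpc_of_le [Finite G] {p : ℕ} [hp : Fact p.Prime] {H K : Subgroup G} (hHK : H ≤ K)
    (h : HasNormalPComplement p K) : HasNormalPComplement p H :=
  hnpc_of_mulEquiv (Subgroup.subgroupOfEquivOfLe hHK) (hnpc_subgroup (H.subgroupOf K) h)

theorem hnpc_top_iff [Finite G] {p : ℕ} [hp : Fact p.Prime] :
    HasNormalPComplement p (⊤ : Subgroup G) ↔ HasNormalPComplement p G :=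
  ⟨fun h => hnpc_of_mulEquiv Subgroup.topEquiv h,
    fun h => hnpc_of_mulEquiv Subgroup.topEquiv.symm h⟩

theorem hnpc_map_subgroup {G' : Type*} [Group G'] [Finite G] {p : ℕ} [hp : Fact p.Prime]
    (f : G →* G') (H : Subgroup G) (h : HasNormalPComplement p H) :
    HasNormalPComplement p (H.map f) :=
  hnpc_of_surjective (f.subgroupMap H) (f.subgroupMap_surjective H) h

theorem hnpc_cj [Finite G] {p : ℕ} [hp : Fact p.Prime] (g : G) (H : Subgroup G)
    (h : HasNormalPComplement p H) :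
    HasNormalPComplement p (Cfsg.Agent.Lib.Helper33.cj g H) :=
  hnpc_of_mulEquiv (Cfsg.Agent.Lib.Helper33.cjEquiv g H) h

/-- A `p`-group has a normal `p`-complement. -/
theorem hnpc_of_isPGroup [Finite G] {p : ℕ} [hp : Fact p.Prime] (h : IsPGroup p G) :
    HasNormalPComplement p G := by
  apply hnpc_of_npcn
  obtain ⟨k, hk⟩ := IsPGroup.iff_card.mp h
  refine ⟨⊥, inferInstance, by simp, k, ?_⟩
  rw [Subgroup.index_bot, hk]

/-- A group of order prime to `p` has a normal `p`-complement. -/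
theorem hnpc_of_coprime [Finite G] {p : ℕ} [hp : Fact p.Prime] (h : (Nat.card G).Coprime p) :
    HasNormalPComplement p G := by
  apply hnpc_of_npcn
  refine ⟨⊤, inferInstance, by rwa [Subgroup.card_top], 0, ?_⟩
  rw [Subgroup.index_top, pow_zero]

theorem card_comap_of_surjective {G' : Type*} [Group G'] [Finite G]
    (f : G →* G') (hf : Function.Surjective f) (N : Subgroup G') :
    Nat.card (N.comap f) = Nat.card N * Nat.card f.ker := by
  haveI : Finite G' := Finite.of_surjective f hf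
  have e1 : Nat.card (N.comap f) * (N.comap f).index = Nat.card G :=
    Subgroup.card_mul_index _
  have e2 : Nat.card N * N.index = Nat.card G' := Subgroup.card_mul_index _
  have e3 : Nat.card G = Nat.card (G ⧸ f.ker) * Nat.card f.ker :=
    Subgroup.card_eq_card_quotient_mul_card_subgroup f.ker
  have e4 : Nat.card (G ⧸ f.ker) = Nat.card G' :=
    Nat.card_congr (QuotientGroup.quotientKerEquivOfSurjective f hf).toEquiv
  rw [Subgroup.index_comap_of_surjective N hf] at e1
  have hpos : 0 < N.index := Nat.pos_of_ne_zero (Subgroup.index_ne_zero_of_finite)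
  have : Nat.card (N.comap f) * N.index = (Nat.card N * Nat.card f.ker) * N.index := by
    rw [e1, e3, e4, ← e2]; ring
  exact Nat.eq_of_mul_eq_mul_right hpos this

/-- Lifting a normal `p`-complement through a surjection with kernel of order prime to `p`. -/
theorem npcn_of_ker_coprime {G' : Type*} [Group G'] [Finite G] {p : ℕ}
    (f : G →* G') (hf : Function.Surjective f) (hker : (Nat.card f.ker).Coprime p)
    (h : NPCn p G') : NPCn p G := by
  obtain ⟨N, hN, hcop, k, hk⟩ := h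
  have := hN
  refine ⟨N.comap f, inferInstance, ?_, k, ?_⟩
  · rw [card_comap_of_surjective f hf N]
    exact Nat.Coprime.mul_left hcop hker
  · rw [Subgroup.index_comap_of_surjective N hf, hk]

theorem hnpc_of_ker_coprime {G' : Type*} [Group G'] [Finite G] {p : ℕ} [hp : Fact p.Prime]
    (f : G →* G') (hf : Function.Surjective f) (hker : (Nat.card f.ker).Coprime p)
    (h : HasNormalPComplement p G') : HasNormalPComplement p G := by
  haveI : Finite G' := Finite.of_surjective f hf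
  exact hnpc_of_npcn (npcn_of_ker_coprime f hf hker (npcn_of_hnpc h))

/-- Every element of a finite group is the product of a `p`-element and a `p'`-element, both
powers of it. -/
theorem exists_pow_decomp [Finite G] {p : ℕ} [hp : Fact p.Prime] (g : G) :
    ∃ i j : ℕ, g = g ^ i * g ^ j ∧ (∃ e : ℕ, (g ^ i) ^ (p ^ e) = 1) ∧
      (orderOf (g ^ j)).Coprime p := by
  have h0 : orderOf g ≠ 0 := (orderOf_pos g).ne'
  obtain ⟨e, m, hm, hem⟩ := Nat.exists_eq_pow_mul_and_not_dvd h0 p hp.out.ne_one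
  have hcop : Nat.Coprime (p ^ e) m :=
    Nat.Coprime.pow_left e ((Nat.Prime.coprime_iff_not_dvd hp.out).mpr hm)
  obtain ⟨i, hi1, hi2⟩ := Nat.chineseRemainder hcop 1 0
  obtain ⟨j, hj1, hj2⟩ := Nat.chineseRemainder hcop 0 1
  refine ⟨i, j, ?_, ⟨e, ?_⟩, ?_⟩
  · rw [← pow_add]
    nth_rewrite 1 [← pow_one g]
    rw [pow_eq_pow_iff_modEq, hem]
    apply (Nat.modEq_and_modEq_iff_modEq_mul hcop).1
    constructor
    · have := Nat.ModEq.add hi1 hj1
      simpa using this.symm
    · have := Nat.ModEq.add hi2 hj2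
      simpa using this.symm
  · -- m ∣ i
    have hmi : m ∣ i := (Nat.modEq_zero_iff_dvd).1 hi2
    obtain ⟨c, rfl⟩ := hmi
    rw [← pow_mul, mul_comm (m * c), ← mul_assoc, ← hem, pow_mul, pow_orderOf_eq_one, one_pow]
  · have hpj : p ^ e ∣ j := (Nat.modEq_zero_iff_dvd).1 hj1
    obtain ⟨c, rfl⟩ := hpj
    have h1 : (g ^ (p ^ e * c)) ^ m = 1 := by
      rw [← pow_mul, mul_comm (p ^ e) c, mul_assoc, ← hem, pow_mul', pow_orderOf_eq_one, one_pow]
    have h2 : orderOf (g ^ (p ^ e * c)) ∣ m := orderOf_dvd_of_pow_eq_one h1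
    have h3 : m.Coprime p := ((Nat.Prime.coprime_iff_not_dvd hp.out).mpr hm).symm
    exact Nat.Coprime.coprime_dvd_left h2 h3

theorem orderOf_conj' (g x : G) : orderOf (g * x * g⁻¹) = orderOf x := by
  have hsc : SemiconjBy g x (g * x * g⁻¹) := by
    unfold SemiconjBy; group
  exact hsc.orderOf_eq.symm

/-- A normal subgroup with a normal `p`-complement: the complement is normal in the whole
group. -/
theorem exists_normal_hall_of_normal [Finite G] {p : ℕ} [hp : Fact p.Prime] (X : Subgroup G)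
    [hX : X.Normal] (h : HasNormalPComplement p X) :
    ∃ M : Subgroup G, M ≤ X ∧ M.Normal ∧ (Nat.card M).Coprime p ∧
      ∃ k : ℕ, Nat.card X = Nat.card M * p ^ k := by
  obtain ⟨N, hN, hcop, k, hk⟩ := npcn_of_hnpc h
  have := hN
  have hmem := Cfsg.Agent.Lib.Helper33.mem_iff_coprime_of_normal_hall N hcop hk
  have hcard : Nat.card (N.map X.subtype) = Nat.card N :=
    Nat.card_congr (N.equivMapOfInjective _ (Subgroup.subtype_injective _)).symm.toEquiv
  refine ⟨N.map X.subtype, ?_, ?_, ?_, k, ?_⟩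
  · rintro _ ⟨n, _, rfl⟩
    exact n.2
  · constructor
    rintro _ ⟨n, hn, rfl⟩ g
    have hx : g * (n : G) * g⁻¹ ∈ X := hX.conj_mem _ n.2 g
    refine ⟨⟨g * (n : G) * g⁻¹, hx⟩, ?_, rfl⟩
    have hn : n ∈ N := hn
    change (⟨g * (n : G) * g⁻¹, hx⟩ : X) ∈ N
    rw [hmem] at hn ⊢
    have h1 : orderOf (⟨g * (n : G) * g⁻¹, hx⟩ : X) = orderOf (g * (n : G) * g⁻¹) := by
      rw [← Subgroup.orderOf_coe]
    have h2 : orderOf (n : X) = orderOf (n : G) := by rw [← Subgroup.orderOf_coe]
    rw [h1, orderOf_conj', ← h2]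
    exact hn
  · rw [hcard]; exact hcop
  · rw [hcard, ← hk, Subgroup.card_mul_index]

/-- In a group with a normal `p`-complement, `p'`-elements centralize the `p`-subgroups they
normalize. -/
theorem p'_centralizes [Finite G] {p : ℕ} [hp : Fact p.Prime] (X U : Subgroup G)
    (h : HasNormalPComplement p X) (hUX : U ≤ X) (hU : IsPGroup p U)
    (hXU : X ≤ Subgroup.normalizer (U : Set G)) {g : G} (hg : g ∈ X)
    (hgo : (orderOf g).Coprime p) : g ∈ Subgroup.centralizer (U : Set G) := by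
  obtain ⟨N, hN, hcop, k, hk⟩ := npcn_of_hnpc h
  have := hN
  have hmem := Cfsg.Agent.Lib.Helper33.mem_iff_coprime_of_normal_hall N hcop hk
  have hgN : (⟨g, hg⟩ : X) ∈ N := by
    rw [hmem]
    have : orderOf (⟨g, hg⟩ : X) = orderOf g := by rw [← Subgroup.orderOf_coe]
    rw [this]; exact hgo
  rw [Subgroup.mem_centralizer_iff]
  intro u hu
  have hu' : u ∈ U := hu
  have hguU : g * u * g⁻¹ ∈ U := ((Subgroup.mem_normalizer_iff.1 (hXU hg)) u).1 hu'
  have hcU : g * u * g⁻¹ * u⁻¹ ∈ U := U.mul_mem hguU (U.inv_mem hu')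
  have hcN : (⟨g, hg⟩ * (⟨u, hUX hu'⟩ * (⟨g, hg⟩ : X)⁻¹ * (⟨u, hUX hu'⟩ : X)⁻¹) : X) ∈ N :=
    N.mul_mem hgN (hN.conj_mem _ (N.inv_mem hgN) _)
  set c : X := ⟨g, hg⟩ * (⟨u, hUX hu'⟩ * (⟨g, hg⟩ : X)⁻¹ * (⟨u, hUX hu'⟩ : X)⁻¹) with hc
  have hcval : (c : G) = g * u * g⁻¹ * u⁻¹ := by
    simp [hc, mul_assoc]
  have h1 : orderOf (c : G) ∣ Nat.card N := by
    have : orderOf (⟨c, hcN⟩ : N) ∣ Nat.card N := orderOf_dvd_natCard _
    rwa [← Subgroup.orderOf_coe, ← Subgroup.orderOf_coe] at this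
  obtain ⟨j, hj⟩ := hU ⟨g * u * g⁻¹ * u⁻¹, hcU⟩
  have h2 : orderOf (c : G) ∣ p ^ j := by
    apply orderOf_dvd_of_pow_eq_one
    rw [hcval]
    have := congrArg Subtype.val hj
    simpa using this
  have h3 : (orderOf (c : G)).Coprime (p ^ j) :=
    Nat.Coprime.coprime_dvd_left h1 (Nat.Coprime.pow_right j hcop)
  have h4 : orderOf (c : G) = 1 := Nat.Coprime.eq_one_of_dvd h3 h2
  rw [orderOf_eq_one_iff, hcval] at h4
  have : g * u * g⁻¹ = u := by
    have := mul_inv_eq_one.1 h4
    exact this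
  calc u * g = (g * u * g⁻¹) * g := by rw [this]
    _ = g * u := by group


theorem hnpc_of_injective {G' : Type*} [Group G'] [Finite G'] {p : ℕ} [hp : Fact p.Prime]
    (f : G →* G') (hf : Function.Injective f) (h : HasNormalPComplement p G') :
    HasNormalPComplement p G :=
  hnpc_of_mulEquiv (MonoidHom.ofInjective hf).symm (hnpc_subgroup f.range h)


/-- Sylow's theorem inside a subgroup `H`, relative to a `p`-subgroup `Q` of `p'`-index in `H`. -/
theorem exists_cj_le [Finite G] {p : ℕ} [hp : Fact p.Prime] (H Q D : Subgroup G)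
    (_hQH : Q ≤ H) (hQ : IsPGroup p Q) (hidx : ¬ p ∣ Q.relIndex H) (hDH : D ≤ H)
    (hD : IsPGroup p D) :
    ∃ h ∈ H, D ≤ Cfsg.Agent.Lib.Helper33.cj h Q := by
  have hQ' : IsPGroup p (Q.subgroupOf H) := hQ.comap_subtype
  let P₀ : Sylow p H := hQ'.toSylow hidx
  have hD' : IsPGroup p (D.subgroupOf H) := hD.comap_subtype
  obtain ⟨P', hP'⟩ := hD'.exists_le_sylow
  obtain ⟨h, hh⟩ := MulAction.exists_smul_eq H P₀ P'
  refine ⟨h, h.2, ?_⟩
  intro d hd
  have h1 : (⟨d, hDH hd⟩ : H) ∈ (P' : Subgroup H) := hP' (Subgroup.mem_subgroupOf.2 hd)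
  rw [← hh, Sylow.coe_subgroup_smul, Subgroup.mem_pointwise_smul_iff_inv_smul_mem] at h1
  have h2 : (MulAut.conj h)⁻¹ • (⟨d, hDH hd⟩ : H) ∈ Q.subgroupOf H := h1
  rw [Subgroup.mem_subgroupOf] at h2
  rw [Cfsg.Agent.Lib.Helper33.mem_cj]
  have h3 : (((MulAut.conj h)⁻¹ • (⟨d, hDH hd⟩ : H) : H) : G) = (h : G)⁻¹ * d * (h : G) := by
    rw [← map_inv, MulAut.smul_def, MulAut.conj_apply]
    simp
  rw [h3] at h2
  exact h2

end Cfsg.Agent.Lib.Helper51
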