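import Cfsg.Agent.Lib.Helper88.Involves
import Mathlib

set_option autoImplicit false

/-!
# Transport of `Involves` along injective and surjective homomorphisms
-/

namespace Cfsg.Agent.Lib.Helper51

open Cfsg Cfsg.Agent.Lib.Helper88

universe u v

theorem involves_of_injective {H : Type v} [Group H] {X G : Type u} [Group X] [Group G]
    (f : X →* G) (hf : Function.Injective f) (h : Involves H X) : Involves H G := by
  obtain ⟨K, _, i, q, hi, hq⟩ := spans_of_involves h
  exact involves_of_spans ⟨K, inferInstance, f.comp i, q, hf.comp hi, hq⟩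

theorem involves_of_surjective {H : Type v} [Group H] {X G : Type u} [Group X] [Group G]
    (f : G →* X) (hf : Function.Surjective f) (h : Involves H X) : Involves H G := by
  obtain ⟨K, _, i, q, hi, hq⟩ := spans_of_involves h
  -- pullback of `f` and `i`
  let Pb : Subgroup (G × K) :=
    { carrier := {x | f x.1 = i x.2}
      mul_mem' := by
        intro a b ha hb
        simp only [Set.mem_ofPred_eq, Prod.fst_mul, Prod.snd_mul, map_mul] at ha hb ⊢
        rw [ha, hb]
      one_mem' := by simp
      inv_mem' := by
        intro a ha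
        simp only [Set.mem_ofPred_eq, Prod.fst_inv, Prod.snd_inv, map_inv] at ha ⊢
        rw [ha] }
  refine involves_of_spans ⟨Pb, inferInstance, (MonoidHom.fst G K).comp Pb.subtype,
    q.comp ((MonoidHom.snd G K).comp Pb.subtype), ?_, ?_⟩
  · intro a b hab
    have ha : f a.1.1 = i a.1.2 := a.2
    have hb : f b.1.1 = i b.1.2 := b.2
    have h1 : a.1.1 = b.1.1 := hab
    have h2 : a.1.2 = b.1.2 := by
      apply hi
      rw [← ha, ← hb, h1]
    exact Subtype.ext (Prod.ext h1 h2)
  · intro y
    obtain ⟨k, rfl⟩ := hq y
    obtain ⟨g, hg⟩ := hf (i k)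
    exact ⟨⟨(g, k), hg⟩, rfl⟩

end Cfsg.Agent.Lib.Helper51
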