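import Mathlib
import Cfsg.Agent.Lib.Helper88.Involves

set_option autoImplicit false

/-!
# A section isomorphic to `S₄` from a four-group whose normalizer induces `S₃`
-/

namespace Cfsg.Agent.Lib.Helper51

open Cfsg

section aut4
variable {X : Type*} [Group X] [Finite X]

/-- automorphisms embed in the permutations of the nonidentity elements -/
theorem card_mulAut_le (hX : Nat.card X = 4) : Nat.card (MulAut X) ≤ 6 := by
  classical
  let ρ : MulAut X → Equiv.Perm {x : X // x ≠ 1} := fun α =>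
    α.toEquiv.subtypeEquiv (fun x => by
      show x ≠ 1 ↔ α x ≠ 1
      rw [Ne, Ne, MulEquiv.map_eq_one_iff])
  have hρ : Function.Injective ρ := by
    intro α β h
    ext x
    by_cases hx : x = 1
    · rw [hx, map_one, map_one]
    · have := congrArg (fun e : Equiv.Perm {x : X // x ≠ 1} => ((e ⟨x, hx⟩ : {x : X // x ≠ 1}) : X)) h
      exact this
  have h1 := Nat.card_le_card_of_injective ρ hρ
  have h2 : Nat.card {x : X // x ≠ 1} = 3 := by
    have e := Equiv.optionSubtypeNe (1 : X)
    have h3 := Nat.card_congr e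
    rw [Finite.card_option, hX] at h3
    omega
  rw [Nat.card_perm, h2] at h1
  exact h1

/-- fixed points of a `p`-element acting on a finite group, modulo `p` -/
theorem card_fixed_modEq {p : ℕ} [hp : Fact p.Prime] (β : MulAut X)
    (hβ : IsPGroup p (Subgroup.zpowers β)) :
    Nat.card X ≡ Nat.card {x : X // β x = x} [MOD p] := by
  letI : MulAction (Subgroup.zpowers β) X :=
    { smul := fun z x => (z : MulAut X) x
      one_smul := fun x => rfl
      mul_smul := fun a b x => rfl }
  have h1 := hβ.card_modEq_card_fixedPoints X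
  have e : MulAction.fixedPoints (Subgroup.zpowers β) X ≃ {x : X // β x = x} :=
    { toFun := fun x => ⟨x.1, x.2 ⟨β, Subgroup.mem_zpowers β⟩⟩
      invFun := fun x => ⟨x.1, by
        rintro ⟨z, hz⟩
        obtain ⟨k, rfl⟩ := Subgroup.mem_zpowers_iff.1 hz
        show (β ^ k) x.1 = x.1
        have hfix : ∀ n : ℕ, (β ^ n) x.1 = x.1 := by
          intro n
          induction n with
          | zero => simp
          | succ n ih => rw [pow_succ, MulAut.mul_apply, x.2, ih]
        have hfixinv : ∀ n : ℕ, (β ^ n)⁻¹ x.1 = x.1 := by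
          intro n
          have := hfix n
          conv_lhs => rw [← this]
          simp
        rcases Int.eq_nat_or_neg k with ⟨n, rfl | rfl⟩
        · rw [zpow_natCast]; exact hfix n
        · rw [zpow_neg, zpow_natCast]; exact hfixinv n⟩
      left_inv := fun x => rfl
      right_inv := fun x => rfl }
  rw [Nat.card_congr e] at h1
  exact h1

end aut4


section s4
universe u
variable {G : Type u} [Group G] [Finite G]

/-- the structural part: a complement-like subgroup `M` of the normalizer inducing all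
automorphisms of `X` and meeting `X` trivially -/
theorem exists_complement_of_four (X : Subgroup G) (hX4 : Nat.card X = 4)
    (r t : G) (hr : r ∈ Subgroup.normalizer (X : Set G)) (ht : t ∈ Subgroup.normalizer (X : Set G))
    (hrodd : Odd (orderOf r)) (ht2 : ∃ k : ℕ, t ^ (2 ^ k) = 1)
    (hrX : ∃ x ∈ X, r * x * r⁻¹ ≠ x) (htX : ∃ x ∈ X, t * x * t⁻¹ ≠ x) :
    ∃ (M : Subgroup G) (hM : M ≤ Subgroup.normalizer (X : Set G)), X ⊓ M = ⊥ ∧
      Nat.card (MulAut X) = 6 ∧
      ∀ α : MulAut X, ∃ m : M, X.normalizerMonoidHom (Subgroup.inclusion hM m) = α := by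
  classical
  set N := Subgroup.normalizer (X : Set G) with hN
  set ψ := X.normalizerMonoidHom with hψ
  have hψapp : ∀ (g : N) (x : X), ((ψ g x : X) : G) = (g : G) * x * (g : G)⁻¹ := fun g x => rfl
  have hcard6 : Nat.card (MulAut X) ≤ 6 := card_mulAut_le hX4
  -- the images of r and t
  set r' : N := ⟨r, hr⟩ with hr'
  set t' : N := ⟨t, ht⟩ with ht'
  have hψr1 : ψ r' ≠ 1 := by
    obtain ⟨x, hx, hne⟩ := hrX
    intro h
    apply hne
    have := congrArg (fun α : MulAut X => ((α ⟨x, hx⟩ : X) : G)) h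
    simpa [hψapp] using this
  have hψt1 : ψ t' ≠ 1 := by
    obtain ⟨x, hx, hne⟩ := htX
    intro h
    apply hne
    have := congrArg (fun α : MulAut X => ((α ⟨x, hx⟩ : X) : G)) h
    simpa [hψapp] using this
  have hor_odd : Odd (orderOf (ψ r')) := by
    have h1 : orderOf (ψ r') ∣ orderOf r' := orderOf_map_dvd ψ r'
    rw [hr', Subgroup.orderOf_mk] at h1
    exact hrodd.of_dvd_nat h1
  have hor_ne : orderOf (ψ r') ≠ 1 := fun h => hψr1 (orderOf_eq_one_iff.1 h)
  obtain ⟨j, hj⟩ : ∃ j : ℕ, orderOf (ψ t') = 2 ^ j := by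
    obtain ⟨k, hk⟩ := ht2
    have h1 : (ψ t') ^ (2 ^ k) = 1 := by
      rw [← map_pow]
      have : t' ^ (2 ^ k) = 1 := Subtype.ext (by simpa using hk)
      rw [this, map_one]
    have h2 := orderOf_dvd_of_pow_eq_one h1
    obtain ⟨j, _, hj⟩ := (Nat.dvd_prime_pow Nat.prime_two).1 h2
    exact ⟨j, hj⟩
  have hj0 : j ≠ 0 := by
    intro h0
    rw [h0, pow_zero] at hj
    exact hψt1 (orderOf_eq_one_iff.1 hj)
  -- the order of Aut X is 6
  have hdvd_r : orderOf (ψ r') ∣ Nat.card (MulAut X) := orderOf_dvd_natCard _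
  have hdvd_t : orderOf (ψ t') ∣ Nat.card (MulAut X) := orderOf_dvd_natCard _
  have hcop : (orderOf (ψ r')).Coprime (orderOf (ψ t')) := by
    rw [hj]
    exact Nat.Coprime.pow_right j (Nat.coprime_two_right.2 hor_odd)
  have hmul : orderOf (ψ r') * orderOf (ψ t') ∣ Nat.card (MulAut X) :=
    Nat.Coprime.mul_dvd_of_dvd_of_dvd hcop hdvd_r hdvd_t
  have hor3 : 3 ≤ orderOf (ψ r') := by
    obtain ⟨k, hk⟩ := hor_odd
    have := orderOf_pos (ψ r')
    omega
  have hot2 : 2 ≤ orderOf (ψ t') := by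
    rw [hj]
    calc 2 = 2 ^ 1 := by norm_num
      _ ≤ 2 ^ j := Nat.pow_le_pow_right (by norm_num) (by omega)
  have hApos : 0 < Nat.card (MulAut X) := Nat.card_pos
  have hle := Nat.le_of_dvd hApos hmul
  have hA6 : Nat.card (MulAut X) = 6 := by nlinarith
  have hor : orderOf (ψ r') = 3 := by nlinarith
  have hot : orderOf (ψ t') = 2 := by nlinarith
  -- ψ is surjective
  have hrange : ψ.range = ⊤ := by
    apply Subgroup.eq_top_of_le_card
    rw [hA6]
    have hm1 : ψ r' ∈ ψ.range := ⟨r', rfl⟩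
    have hm2 : ψ t' ∈ ψ.range := ⟨t', rfl⟩
    have h1 : orderOf (⟨ψ r', hm1⟩ : ψ.range) ∣ Nat.card ψ.range := orderOf_dvd_natCard _
    have h2 : orderOf (⟨ψ t', hm2⟩ : ψ.range) ∣ Nat.card ψ.range := orderOf_dvd_natCard _
    rw [Subgroup.orderOf_mk, hor] at h1
    rw [Subgroup.orderOf_mk, hot] at h2
    have h3 : 3 * 2 ∣ Nat.card ψ.range :=
      Nat.Coprime.mul_dvd_of_dvd_of_dvd (by norm_num) h1 h2
    exact Nat.le_of_dvd Nat.card_pos h3
  have hsurj : Function.Surjective ψ := MonoidHom.range_eq_top.1 hrange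
  -- step C: a Sylow 3-subgroup and the Frattini argument
  haveI : Fact (Nat.Prime 3) := ⟨Nat.prime_three⟩
  obtain ⟨T₃⟩ := (inferInstance : Nonempty (Sylow 3 N))
  have hkeridx : ψ.ker.index = 6 := by
    rw [Subgroup.index_ker, hrange, Subgroup.card_top, hA6]
  obtain ⟨r₃, hr₃T, hr₃ne⟩ : ∃ g ∈ (T₃ : Subgroup N), ψ g ≠ 1 := by
    by_contra hcon
    have hle : (T₃ : Subgroup N) ≤ ψ.ker := by
      intro g hg
      by_contra h
      exact hcon ⟨g, hg, fun h' => h (MonoidHom.mem_ker.2 h')⟩
    have h1 := Subgroup.relIndex_mul_index hle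
    rw [hkeridx] at h1
    apply T₃.not_dvd_index
    rw [← h1]
    exact Dvd.dvd.mul_left (by norm_num) _
  set A₃ := (T₃ : Subgroup N).map ψ with hA₃
  have hA₃p : IsPGroup 3 A₃ := T₃.2.map ψ
  have hA₃card : Nat.card A₃ = 3 := by
    obtain ⟨k, hk⟩ := IsPGroup.iff_card.mp hA₃p
    have h1 : Nat.card A₃ ∣ 6 := hA6 ▸ Subgroup.card_subgroup_dvd_card A₃
    have hk0 : k ≠ 0 := by
      intro h0
      rw [h0, pow_zero] at hk
      have hbot := Subgroup.card_eq_one.1 hk
      apply hr₃ne
      have hm : ψ r₃ ∈ A₃ := ⟨r₃, hr₃T, rfl⟩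
      rw [hbot, Subgroup.mem_bot] at hm
      exact hm
    rw [hk] at h1 ⊢
    have hk1 : k < 2 := by
      by_contra h
      have h2 : 3 ^ 2 ∣ 3 ^ k := pow_dvd_pow 3 (by omega)
      have := Nat.le_of_dvd (by norm_num) (h2.trans h1)
      omega
    have : k = 1 := by omega
    rw [this]; norm_num
  have hA₃idx : A₃.index = 2 := by
    have := A₃.card_mul_index
    rw [hA₃card, hA6] at this
    omega
  have hA₃n : A₃.Normal := Subgroup.normal_of_index_eq_two hA₃idx
  set N₁ := A₃.comap ψ with hN₁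
  have hN₁n : N₁.Normal := hA₃n.comap ψ
  have hTN₁ : (T₃ : Subgroup N) ≤ N₁ := Subgroup.le_comap_map ψ _
  have hfrat := Sylow.normalizer_sup_eq_top' T₃ hTN₁
  set M' := Subgroup.normalizer ((T₃ : Subgroup N) : Set N) with hM'
  have hTM' : (T₃ : Subgroup N) ≤ M' := Subgroup.le_normalizer
  have hM'top : M'.map ψ = ⊤ := by
    have hA₃le : A₃ ≤ M'.map ψ := Subgroup.map_mono hTM'
    have hne : A₃ ≠ M'.map ψ := by
      intro heq
      have hM'N₁ : M' ≤ N₁ := by
        intro m hm
        show ψ m ∈ A₃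
        rw [heq]
        exact ⟨m, hm, rfl⟩
      have hfrat' : M' ⊔ N₁ = ⊤ := hfrat
      rw [sup_of_le_right hM'N₁] at hfrat'
      have hA₃top : A₃ = ⊤ := by
        rw [eq_top_iff]
        intro α _
        obtain ⟨g, rfl⟩ := hsurj α
        have : g ∈ N₁ := by rw [hfrat']; exact Subgroup.mem_top g
        exact this
      rw [hA₃top, Subgroup.card_top, hA6] at hA₃card
      omega
    have hlt : A₃ < M'.map ψ := lt_of_le_of_ne hA₃le hne
    have h1 : Nat.card A₃ < Nat.card (M'.map ψ) := Set.Finite.card_lt_card (Set.toFinite _) hlt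
    have h2 : Nat.card A₃ ∣ Nat.card (M'.map ψ) := Subgroup.card_dvd_of_le hA₃le
    apply Subgroup.eq_top_of_le_card
    rw [hA6]
    rw [hA₃card] at h1 h2
    obtain ⟨c, hc⟩ := h2
    omega
  -- step D: the subgroup M
  set M := M'.map N.subtype with hM
  have hMN : M ≤ N := Subgroup.map_subtype_le M'
  refine ⟨M, hMN, ?_, hA6, ?_⟩
  · rw [Subgroup.eq_bot_iff_forall]
    rintro g ⟨hgX, ⟨g', hg'M, hg'g⟩⟩
    have hg'g' : (g' : G) = g := hg'g
    have hc1 : g' * r₃ * g'⁻¹ * r₃⁻¹ ∈ (T₃ : Subgroup N) := by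
      have := (Subgroup.mem_normalizer_iff.1 hg'M r₃).1 hr₃T
      exact Subgroup.mul_mem _ this (Subgroup.inv_mem _ hr₃T)
    have hc2 : ((g' * r₃ * g'⁻¹ * r₃⁻¹ : N) : G) ∈ X := by
      have h1 : ((g' * r₃ * g'⁻¹ * r₃⁻¹ : N) : G) = g * ((r₃ : G) * g⁻¹ * (r₃ : G)⁻¹) := by
        simp only [Subgroup.coe_mul, Subgroup.coe_inv, hg'g']
        group
      rw [h1]
      apply X.mul_mem hgX
      exact (Subgroup.mem_normalizer_iff.1 r₃.2 g⁻¹).1 (X.inv_mem hgX)
    have hc3 : (g' * r₃ * g'⁻¹ * r₃⁻¹ : N) = 1 := by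
      set c := g' * r₃ * g'⁻¹ * r₃⁻¹ with hc
      obtain ⟨k, hk⟩ := T₃.2 ⟨c, hc1⟩
      have hk' : c ^ (3 ^ k) = 1 := by simpa using congrArg Subtype.val hk
      have h4 : (c : G) ^ 4 = 1 := by
        have : (⟨(c : G), hc2⟩ : X) ^ 4 = 1 := by rw [← hX4]; exact pow_card_eq_one'
        simpa using congrArg Subtype.val this
      have h4' : c ^ 4 = 1 := Subtype.ext (by simpa using h4)
      have ho1 : orderOf c ∣ 3 ^ k := orderOf_dvd_of_pow_eq_one hk'
      have ho2 : orderOf c ∣ 4 := orderOf_dvd_of_pow_eq_one h4'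
      have hcop34 : Nat.Coprime (3 ^ k) 4 := Nat.Coprime.pow_left k (by norm_num)
      have : orderOf c = 1 := Nat.eq_one_of_dvd_coprimes hcop34 ho1 ho2
      exact orderOf_eq_one_iff.1 this
    have hfix : ψ r₃ ⟨g, hgX⟩ = ⟨g, hgX⟩ := by
      apply Subtype.ext
      rw [hψapp]
      have h5 : g' * r₃ = r₃ * g' := by
        calc g' * r₃ = (g' * r₃ * g'⁻¹ * r₃⁻¹) * (r₃ * g') := by group
          _ = r₃ * g' := by rw [hc3, one_mul]
      have h6 := congrArg Subtype.val h5
      simp only [Subgroup.coe_mul, hg'g'] at h6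
      show (r₃ : G) * g * (r₃ : G)⁻¹ = g
      rw [← h6]; group
    -- fixed point count
    set β := ψ r₃ with hβ
    have hβp : IsPGroup 3 (Subgroup.zpowers β) := by
      apply hA₃p.to_le
      rw [Subgroup.zpowers_le]
      exact ⟨r₃, hr₃T, rfl⟩
    have hmod := card_fixed_modEq β hβp
    let F : Subgroup X :=
      { carrier := {x | β x = x}
        mul_mem' := by
          intro a b ha hb
          show β (a * b) = a * b
          rw [map_mul, ha, hb]
        one_mem' := map_one β
        inv_mem' := by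
          intro a ha
          show β a⁻¹ = a⁻¹
          rw [map_inv, ha] }
    have hFcard : Nat.card F = Nat.card {x : X // β x = x} := rfl
    rw [← hFcard, hX4] at hmod
    have hFdvd : Nat.card F ∣ 2 ^ 2 := by
      have := Subgroup.card_subgroup_dvd_card F
      rw [hX4] at this
      exact this
    obtain ⟨i, hi, hFi⟩ := (Nat.dvd_prime_pow Nat.prime_two).1 hFdvd
    have hF1 : Nat.card F = 1 := by
      unfold Nat.ModEq at hmod
      interval_cases i
      · simpa using hFi
      · rw [hFi] at hmod; norm_num at hmod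
      · exfalso
        have hFtop : F = ⊤ := Subgroup.eq_top_of_card_eq F (by rw [hFi, hX4]; norm_num)
        apply hr₃ne
        ext x
        have : x ∈ F := by rw [hFtop]; exact Subgroup.mem_top x
        have h7 : β x = x := this
        rw [MulAut.one_apply]
        exact congrArg Subtype.val h7
    have hFbot := Subgroup.card_eq_one.1 hF1
    have hgF : (⟨g, hgX⟩ : X) ∈ F := hfix
    rw [hFbot, Subgroup.mem_bot] at hgF
    exact congrArg Subtype.val hgF
  · intro α
    have hα : α ∈ M'.map ψ := by rw [hM'top]; exact Subgroup.mem_top α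
    obtain ⟨m', hm', rfl⟩ := hα
    refine ⟨⟨(m' : G), ⟨m', hm', rfl⟩⟩, ?_⟩
    congr 1

/-- A four-group whose normalizer induces on it both an automorphism of odd order and one of
order a power of `2` gives a section isomorphic to `S₄`. -/
theorem involves_S4_of_four (X : Subgroup G) (hX4 : Nat.card X = 4)
    (r t : G) (hr : r ∈ Subgroup.normalizer (X : Set G)) (ht : t ∈ Subgroup.normalizer (X : Set G))
    (hrodd : Odd (orderOf r)) (ht2 : ∃ k : ℕ, t ^ (2 ^ k) = 1)
    (hrX : ∃ x ∈ X, r * x * r⁻¹ ≠ x) (htX : ∃ x ∈ X, t * x * t⁻¹ ≠ x) :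
    Involves (Equiv.Perm (Fin 4)) G := by
  classical
  obtain ⟨M, hM, hXM, hA6, hMsurj⟩ :=
    exists_complement_of_four X hX4 r t hr ht hrodd ht2 hrX htX
  set φ : M →* MulAut X := X.normalizerMonoidHom.comp (Subgroup.inclusion hM) with hφ
  let i : X ⋊[φ] M →* G := SemidirectProduct.monoidHomSubgroup hM
  have hi : Function.Injective i := by
    rw [injective_iff_map_eq_one]
    intro a ha
    have h1 : (a.left : G) * (a.right : G) = 1 := ha
    have h2 : (a.left : G) = ((a.right : G))⁻¹ := eq_inv_of_mul_eq_one_left h1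
    have h3 : (a.left : G) ∈ X ⊓ M := ⟨a.left.2, by rw [h2]; exact M.inv_mem a.right.2⟩
    rw [hXM, Subgroup.mem_bot] at h3
    have h4 : (a.right : G) = 1 := by rw [h3, one_mul] at h1; exact h1
    apply SemidirectProduct.ext
    · exact Subtype.ext h3
    · exact Subtype.ext h4
  let f₁ : X →* Equiv.Perm X :=
    { toFun := fun x => Equiv.mulLeft x
      map_one' := by ext z; simp
      map_mul' := by intro a b; ext z; simp }
  let f₂ : M →* Equiv.Perm X := (MulAut.toPerm X).comp φ
  have hf₁ : ∀ x z : X, f₁ x z = x * z := fun x z => rfl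
  have hf₂ : ∀ (m : M) (z : X), f₂ m z = φ m z := fun m z => rfl
  have hcompat : ∀ g : M,
      f₁.comp (φ g).toMonoidHom = (MulAut.conj (f₂ g)).toMonoidHom.comp f₁ := by
    intro g
    ext x z
    simp only [MonoidHom.comp_apply, MulEquiv.coe_toMonoidHom, MulAut.conj_apply,
      Equiv.Perm.mul_apply, hf₁, hf₂]
    have : (f₂ g)⁻¹ z = (φ g)⁻¹ z := rfl
    rw [this, map_mul, MulAut.apply_inv_self]
  let f : X ⋊[φ] M →* Equiv.Perm X := SemidirectProduct.lift f₁ f₂ hcompat
  have hfapp : ∀ (x : X) (m : M), f ⟨x, m⟩ = f₁ x * f₂ m := fun x m => rfl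
  have hf : Function.Surjective f := by
    rw [← MonoidHom.range_eq_top]
    apply Subgroup.eq_top_of_le_card
    have hinj : Function.Injective
        (fun pr : X × MulAut X => (f₁ pr.1 * MulAut.toPerm X pr.2 : Equiv.Perm X)) := by
      rintro ⟨x, α⟩ ⟨x', α'⟩ h
      simp only at h
      have h1 : ∀ z : X, x * α z = x' * α' z := by
        intro z
        have := congrArg (fun e : Equiv.Perm X => e z) h
        exact this
      have hx : x = x' := by
        have := h1 1
        simpa using this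
      have hα : α = α' := by
        ext z
        have := h1 z
        rw [hx] at this
        exact congrArg Subtype.val (mul_left_cancel this)
      rw [hx, hα]
    have hmem : ∀ pr : X × MulAut X, (f₁ pr.1 * MulAut.toPerm X pr.2 : Equiv.Perm X) ∈ f.range := by
      rintro ⟨x, α⟩
      obtain ⟨m, hm⟩ := hMsurj α
      refine ⟨⟨x, m⟩, ?_⟩
      rw [hfapp]
      show f₁ x * MulAut.toPerm X (φ m) = f₁ x * MulAut.toPerm X α
      have : φ m = α := hm
      rw [this]
    have hle : Nat.card (X × MulAut X) ≤ Nat.card f.range := by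
      apply Nat.card_le_card_of_injective
        (fun pr : X × MulAut X => (⟨_, hmem pr⟩ : f.range))
      intro a b hab
      apply hinj
      exact congrArg Subtype.val hab
    rw [Nat.card_prod, hX4, hA6] at hle
    rw [Nat.card_perm, hX4]
    exact hle
  let e : Equiv.Perm X ≃* Equiv.Perm (Fin 4) := (Finite.equivFinOfCardEq hX4).permCongrHom
  exact Cfsg.Agent.Lib.Helper88.involves_of_spans
    ⟨X ⋊[φ] M, inferInstance, i, e.toMonoidHom.comp f, hi, e.surjective.comp hf⟩

end s4
end Cfsg.Agent.Lib.Helper51
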