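import Cfsg.Prelude.Def_PLocal
import Cfsg.Agent.Lib.Helper33.Conj
import Mathlib

set_option autoImplicit false

/-!
# The abelian-version Thompson subgroup `J(P)`: basic API
-/

namespace Cfsg.Agent.Lib.Helper51

open Cfsg

variable {G : Type*} [Group G]

/-- internal description of the abelian subgroups of `P` of largest order -/
def maxAbIn (P : Subgroup G) : Set (Subgroup G) :=
  {A | A ≤ P ∧ IsMulCommutative A ∧
    ∀ B : Subgroup G, B ≤ P → IsMulCommutative B → Nat.card B ≤ Nat.card A}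

theorem isMulComm_iff (A : Subgroup G) :
    IsMulCommutative A ↔ ∀ a ∈ A, ∀ b ∈ A, a * b = b * a := by
  constructor
  · intro h a ha b hb
    have := h.is_comm.comm (⟨a, ha⟩ : A) ⟨b, hb⟩
    exact congrArg Subtype.val this
  · intro h
    exact ⟨⟨fun a b => Subtype.ext (h a a.2 b b.2)⟩⟩

theorem isMulComm_of_le {A B : Subgroup G} (h : A ≤ B) (hB : IsMulCommutative B) :
    IsMulCommutative A := by
  rw [isMulComm_iff] at hB ⊢
  exact fun a ha b hb => hB a (h ha) b (h hb)

theorem isMulComm_map {G' : Type*} [Group G'] (f : G →* G') {A : Subgroup G}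
    (hA : IsMulCommutative A) : IsMulCommutative (A.map f) := by
  rw [isMulComm_iff] at hA ⊢
  rintro _ ⟨a, ha, rfl⟩ _ ⟨b, hb, rfl⟩
  rw [← map_mul, ← map_mul, hA a ha b hb]

theorem isMulComm_comap_of_injective {G' : Type*} [Group G'] (f : G →* G')
    (hf : Function.Injective f) {A : Subgroup G'}
    (hA : IsMulCommutative A) : IsMulCommutative (A.comap f) := by
  rw [isMulComm_iff] at hA ⊢
  intro a ha b hb
  apply hf
  rw [map_mul, map_mul]
  exact hA _ ha _ hb

theorem mem_image_maxAb_iff [Finite G] (P X : Subgroup G) :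
    X ∈ (Set.image (fun A : Subgroup ↥P => A.map P.subtype) (Cfsg.maxAbelianSubgroups ↥P)) ↔
      X ∈ maxAbIn P := by
  constructor
  · rintro ⟨A', ⟨hA'c, hA'max⟩, rfl⟩
    refine ⟨Subgroup.map_subtype_le A', isMulComm_map _ hA'c, ?_⟩
    intro Y hYP hYc
    have h1 : IsMulCommutative (Y.subgroupOf P) :=
      isMulComm_comap_of_injective _ P.subtype_injective hYc
    have h2 := hA'max _ h1
    have h3 : Nat.card (Y.subgroupOf P) = Nat.card Y :=
      Nat.card_congr (Subgroup.subgroupOfEquivOfLe hYP).toEquiv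
    have h4 : Nat.card (A'.map P.subtype) = Nat.card A' :=
      Subgroup.card_map_of_injective P.subtype_injective
    rw [h4, ← h3]; exact h2
  · rintro ⟨hXP, hXc, hXmax⟩
    refine ⟨X.subgroupOf P, ⟨?_, ?_⟩, Subgroup.map_subgroupOf_eq_of_le hXP⟩
    · exact isMulComm_comap_of_injective _ P.subtype_injective hXc
    · intro B' hB'c
      have h1 : IsMulCommutative (B'.map P.subtype) := isMulComm_map _ hB'c
      have h2 := hXmax _ (Subgroup.map_subtype_le B') h1
      have h3 : Nat.card (X.subgroupOf P) = Nat.card X :=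
        Nat.card_congr (Subgroup.subgroupOfEquivOfLe hXP).toEquiv
      have h4 : Nat.card (B'.map P.subtype) = Nat.card B' :=
        Subgroup.card_map_of_injective P.subtype_injective
      rw [h3, ← h4]; exact h2

theorem thompsonAOf_eq_sSup [Finite G] (P : Subgroup G) :
    thompsonSubgroupAOf P = sSup (maxAbIn P) := by
  unfold thompsonSubgroupAOf thompsonSubgroupA
  apply le_antisymm
  · rw [Subgroup.map_le_iff_le_comap]
    apply sSup_le
    intro A hA
    rw [← Subgroup.map_le_iff_le_comap]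
    apply le_sSup
    rw [← mem_image_maxAb_iff]
    exact ⟨A, hA, rfl⟩
  · apply sSup_le
    intro X hX
    rw [← mem_image_maxAb_iff] at hX
    obtain ⟨A, hA, rfl⟩ := hX
    exact Subgroup.map_mono (le_sSup hA)

theorem thompsonAOf_le (P : Subgroup G) : thompsonSubgroupAOf P ≤ P := by
  unfold thompsonSubgroupAOf
  exact Subgroup.map_subtype_le _

theorem le_thompsonAOf [Finite G] {P A : Subgroup G} (hA : A ∈ maxAbIn P) :
    A ≤ thompsonSubgroupAOf P := by
  rw [thompsonAOf_eq_sSup]
  exact le_sSup hA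

theorem isMulComm_bot : IsMulCommutative (⊥ : Subgroup G) := by
  rw [isMulComm_iff]
  intro a ha b hb
  rw [Subgroup.mem_bot] at ha hb
  rw [ha, hb]

theorem exists_maxAbIn [Finite G] (P : Subgroup G) : ∃ A, A ∈ maxAbIn P := by
  haveI : Nonempty {B : Subgroup G // B ≤ P ∧ IsMulCommutative B} :=
    ⟨⟨⊥, bot_le, isMulComm_bot⟩⟩
  obtain ⟨A, hA⟩ := Finite.exists_max
    (fun B : {B : Subgroup G // B ≤ P ∧ IsMulCommutative B} => Nat.card B.1)
  exact ⟨A.1, A.2.1, A.2.2, fun B hBP hB => hA ⟨B, hBP, hB⟩⟩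

/-- Iso-invariance of the family of largest abelian subgroups. -/
theorem map_mem_maxAbelian {H H' : Type*} [Group H] [Group H'] (e : H ≃* H') {A : Subgroup H}
    (hA : A ∈ maxAbelianSubgroups H) : A.map e.toMonoidHom ∈ maxAbelianSubgroups H' := by
  obtain ⟨hAc, hAmax⟩ := hA
  refine ⟨isMulComm_map _ hAc, ?_⟩
  intro B hB
  have h1 : IsMulCommutative (B.map e.symm.toMonoidHom) := isMulComm_map _ hB
  have h2 := hAmax _ h1
  have h3 : Nat.card (B.map e.symm.toMonoidHom) = Nat.card B :=
    Subgroup.card_map_of_injective e.symm.injective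
  have h4 : Nat.card (A.map e.toMonoidHom) = Nat.card A :=
    Subgroup.card_map_of_injective e.injective
  rw [h4, ← h3]; exact h2

theorem thompsonA_map_equiv {H H' : Type*} [Group H] [Group H'] (e : H ≃* H') :
    (thompsonSubgroupA H).map e.toMonoidHom = thompsonSubgroupA H' := by
  unfold thompsonSubgroupA
  apply le_antisymm
  · rw [Subgroup.map_le_iff_le_comap]
    apply sSup_le
    intro A hA
    rw [← Subgroup.map_le_iff_le_comap]
    exact le_sSup (map_mem_maxAbelian e hA)
  · apply sSup_le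
    intro B hB
    have h1 := map_mem_maxAbelian e.symm hB
    have h2 : B = (B.map e.symm.toMonoidHom).map e.toMonoidHom := by
      rw [Subgroup.map_map]
      have : e.toMonoidHom.comp e.symm.toMonoidHom = MonoidHom.id H' := by
        ext x; simp
      rw [this, Subgroup.map_id]
    rw [h2]
    exact Subgroup.map_mono (le_sSup h1)

/-- `J` of the range of an injective homomorphism. -/
theorem thompsonA_map_range {H G' : Type*} [Group H] [Group G'] (φ : H →* G')
    (hφ : Function.Injective φ) :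
    (thompsonSubgroupA H).map φ = thompsonSubgroupAOf φ.range := by
  unfold thompsonSubgroupAOf
  rw [← thompsonA_map_equiv (MonoidHom.ofInjective hφ), Subgroup.map_map]
  congr 1

/-- `J(f(P)) = f(J(P))` when `f` is injective on `P`. -/
theorem thompsonAOf_map {G' : Type*} [Group G'] (f : G →* G') (P : Subgroup G)
    (hinj : ∀ x ∈ P, f x = 1 → x = 1) :
    (thompsonSubgroupAOf P).map f = thompsonSubgroupAOf (P.map f) := by
  have hφ : Function.Injective (f.comp P.subtype) := by
    rw [injective_iff_map_eq_one]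
    intro x hx
    exact Subtype.ext (hinj x x.2 hx)
  have h1 := thompsonA_map_range (f.comp P.subtype) hφ
  have h2 : (f.comp P.subtype).range = P.map f := by
    rw [MonoidHom.range_comp, Subgroup.range_subtype]
  rw [h2, ← Subgroup.map_map] at h1
  exact h1

theorem thompsonAOf_cj (g : G) (P : Subgroup G) :
    thompsonSubgroupAOf (Cfsg.Agent.Lib.Helper33.cj g P) =
      Cfsg.Agent.Lib.Helper33.cj g (thompsonSubgroupAOf P) := by
  unfold Cfsg.Agent.Lib.Helper33.cj
  rw [thompsonAOf_map]
  intro x _ hx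
  exact (MulAut.conj g).injective (by simpa using hx)


open Cfsg.Agent.Lib.Helper33 in
theorem normalizer_le_normalizer_thompsonAOf (P : Subgroup G) :
    Subgroup.normalizer (P : Set G) ≤ Subgroup.normalizer (thompsonSubgroupAOf P : Set G) := by
  intro g hg
  rw [← cj_eq_self_iff] at hg ⊢
  rw [← thompsonAOf_cj, hg]

theorem thompsonAOf_ne_bot [Finite G] {P : Subgroup G} (hP : P ≠ ⊥) :
    thompsonSubgroupAOf P ≠ ⊥ := by
  obtain ⟨x, hx1⟩ := (Subgroup.ne_bot_iff_exists_ne_one.1 hP)
  have hx1' : (x : G) ≠ 1 := fun h => hx1 (Subtype.ext h)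
  obtain ⟨A, hA⟩ := exists_maxAbIn P
  have hz : Subgroup.zpowers (x : G) ≤ P := by
    rw [Subgroup.zpowers_le]; exact x.2
  have hzc : IsMulCommutative (Subgroup.zpowers (x : G)) := inferInstance
  have h1 := hA.2.2 _ hz hzc
  have h2 : 1 < Nat.card (Subgroup.zpowers (x : G)) := by
    rw [Nat.card_zpowers]
    have hpos := orderOf_pos (x : G)
    have hne : orderOf (x : G) ≠ 1 := fun h => hx1' (orderOf_eq_one_iff.1 h)
    omega
  intro hbot
  have hAbot : A = ⊥ := le_bot_iff.1 (hbot ▸ le_thompsonAOf hA)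
  rw [hAbot, Subgroup.card_bot] at h1
  omega

theorem maxAbIn_eq_of_le [Finite G] {U S : Subgroup G} (hUS : U ≤ S)
    (h : ∀ A ∈ maxAbIn S, A ≤ U) : maxAbIn U = maxAbIn S := by
  obtain ⟨A₀, hA₀⟩ := exists_maxAbIn S
  ext A
  constructor
  · rintro ⟨hAU, hAc, hAmax⟩
    refine ⟨hAU.trans hUS, hAc, ?_⟩
    intro B hBS hBc
    exact (hA₀.2.2 B hBS hBc).trans (hAmax A₀ (h A₀ hA₀) hA₀.2.1)
  · intro hA
    exact ⟨h A hA, hA.2.1, fun B hBU hBc => hA.2.2 B (hBU.trans hUS) hBc⟩

theorem thompsonAOf_eq_of_le [Finite G] {U S : Subgroup G} (hUS : U ≤ S)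
    (h : thompsonSubgroupAOf S ≤ U) : thompsonSubgroupAOf U = thompsonSubgroupAOf S := by
  rw [thompsonAOf_eq_sSup, thompsonAOf_eq_sSup,
    maxAbIn_eq_of_le hUS (fun A hA => (le_thompsonAOf hA).trans h)]

/-- the centre of a subgroup, inside the ambient group -/
def zIn (P : Subgroup G) : Subgroup G := P ⊓ Subgroup.centralizer (P : Set G)

theorem zIn_le (P : Subgroup G) : zIn P ≤ P := inf_le_left

open Cfsg.Agent.Lib.Helper33 in
theorem zIn_cj (g : G) (P : Subgroup G) : zIn (cj g P) = cj g (zIn P) := by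
  unfold zIn
  rw [centralizer_cj, cj_inf]

open Cfsg.Agent.Lib.Helper33 in
theorem normalizer_le_normalizer_zIn (P : Subgroup G) :
    Subgroup.normalizer (P : Set G) ≤ Subgroup.normalizer (zIn P : Set G) := by
  intro g hg
  rw [← cj_eq_self_iff] at hg ⊢
  rw [← zIn_cj, hg]

theorem mem_zIn {P : Subgroup G} {x : G} : x ∈ zIn P ↔ x ∈ P ∧ ∀ y ∈ P, y * x = x * y := by
  unfold zIn
  rw [Subgroup.mem_inf, Subgroup.mem_centralizer_iff]
  rfl

theorem zIn_ne_bot [Finite G] {p : ℕ} [Fact p.Prime] {P : Subgroup G} (hPp : IsPGroup p P)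
    (hP : P ≠ ⊥) : zIn P ≠ ⊥ := by
  haveI : Nontrivial P := (Subgroup.nontrivial_iff_ne_bot P).2 hP
  have hc : Nontrivial (Subgroup.center P) := hPp.center_nontrivial
  obtain ⟨z, hz⟩ := exists_ne (1 : Subgroup.center P)
  intro hbot
  apply hz
  have hzin : ((z : P) : G) ∈ zIn P := by
    rw [mem_zIn]
    refine ⟨(z : P).2, ?_⟩
    intro y hy
    have := Subgroup.mem_center_iff.1 z.2 ⟨y, hy⟩
    exact congrArg Subtype.val this
  rw [hbot, Subgroup.mem_bot] at hzin
  exact Subtype.ext (Subtype.ext hzin)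

theorem zIn_isMulComm (P : Subgroup G) : IsMulCommutative (zIn P) := by
  rw [isMulComm_iff]
  intro a ha b hb
  exact ((mem_zIn.1 hb).2 a (mem_zIn.1 ha).1)

end Cfsg.Agent.Lib.Helper51
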