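import Cfsg.Agent.Lib.Helper51.NPC
import Cfsg.Agent.Lib.Helper51.ThompsonA
import Cfsg.Agent.Lib.Helper51.InvolvesT
import Cfsg.Agent.S0072
import Cfsg.Agent.S3062

set_option autoImplicit false
open Cfsg
open scoped Pointwise

/-!
# Thompson's normal `p`-complement theorem (abelian-version `J`): reduction to a minimal
counterexample and its structure
-/

namespace Cfsg.Agent.Lib.Helper51.TNPC

open Cfsg.Agent.Lib.Helper51 Cfsg.Agent.Lib.Helper33

universe u

/-- Thompson's condition for a subgroup `S` (a Sylow subgroup in applications). -/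
def Cond (p : ℕ) {G : Type*} [Group G] (S : Subgroup G) : Prop :=
  HasNormalPComplement p ↥(Subgroup.centralizer (zIn S : Set G)) ∧
  HasNormalPComplement p ↥(Subgroup.normalizer (thompsonSubgroupAOf S : Set G))

section transfer
variable {G : Type*} [Group G] [Finite G] {p : ℕ} [Fact p.Prime]

theorem cond_cj (g : G) {S : Subgroup G} (h : Cond p S) : Cond p (cj g S) := by
  obtain ⟨h1, h2⟩ := h
  constructor
  · rw [zIn_cj, centralizer_cj]
    exact hnpc_cj g _ h1
  · rw [thompsonAOf_cj, normalizer_cj]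
    exact hnpc_cj g _ h2

theorem zIn_map_subtype (H : Subgroup G) (T : Subgroup H) :
    (zIn T).map H.subtype = zIn (T.map H.subtype) := by
  ext x
  constructor
  · rintro ⟨y, hy, rfl⟩
    rw [SetLike.mem_coe, mem_zIn] at hy
    rw [mem_zIn]
    refine ⟨⟨y, hy.1, rfl⟩, ?_⟩
    rintro _ ⟨t, ht, rfl⟩
    exact congrArg Subtype.val (hy.2 t ht)
  · intro hx
    rw [mem_zIn] at hx
    obtain ⟨⟨y, hy, rfl⟩, hx2⟩ := hx
    refine ⟨y, ?_, rfl⟩
    rw [SetLike.mem_coe, mem_zIn]
    refine ⟨hy, ?_⟩
    intro t ht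
    exact Subtype.ext (hx2 _ ⟨t, ht, rfl⟩)

theorem thompsonAOf_map_subtype (H : Subgroup G) (T : Subgroup H) :
    (thompsonSubgroupAOf T).map H.subtype = thompsonSubgroupAOf (T.map H.subtype) := by
  apply thompsonAOf_map
  intro x _ hx
  exact Subtype.ext hx

/-- Thompson's condition passes from the ambient group to a subgroup. -/
theorem cond_sub (H : Subgroup G) (T : Subgroup H) (h : Cond p (T.map H.subtype)) : Cond p T := by
  obtain ⟨h1, h2⟩ := h
  constructor
  · -- injective hom into the ambient centralizer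
    let f : ↥(Subgroup.centralizer (zIn T : Set H)) →*
        ↥(Subgroup.centralizer (zIn (T.map H.subtype) : Set G)) :=
      { toFun := fun x => ⟨((x : H) : G), by
          rw [Subgroup.mem_centralizer_iff]
          intro z hz
          rw [SetLike.mem_coe, ← zIn_map_subtype] at hz
          obtain ⟨y, hy, rfl⟩ := hz
          have := (Subgroup.mem_centralizer_iff.1 x.2) y hy
          exact congrArg Subtype.val this⟩
        map_one' := rfl
        map_mul' := fun _ _ => rfl }
    refine hnpc_of_injective f ?_ h1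
    intro a b hab
    have h3 : ((f a : _) : G) = ((f b : _) : G) := congrArg Subtype.val hab
    exact Subtype.ext (Subtype.ext h3)
  · let f : ↥(Subgroup.normalizer (thompsonSubgroupAOf T : Set H)) →*
        ↥(Subgroup.normalizer (thompsonSubgroupAOf (T.map H.subtype) : Set G)) :=
      { toFun := fun x => ⟨((x : H) : G), by
          rw [Subgroup.mem_normalizer_iff]
          intro z
          rw [← thompsonAOf_map_subtype]
          have hx := Subgroup.mem_normalizer_iff.1 x.2
          constructor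
          · rintro ⟨y, hy, rfl⟩
            exact ⟨(x : H) * y * (x : H)⁻¹, (hx y).1 hy, rfl⟩
          · rintro ⟨y, hy, hyz⟩
            have hzH : z ∈ H := by
              have : z = ((x : H) : G)⁻¹ * (y : G) * ((x : H) : G) := by
                rw [show ((H.subtype y : G)) = (y : G) from rfl] at hyz
                rw [hyz]; group
              rw [this]
              exact H.mul_mem (H.mul_mem (H.inv_mem (x : H).2) y.2) (x : H).2
            refine ⟨⟨z, hzH⟩, ?_, rfl⟩
            apply (hx _).2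
            have : (x : H) * ⟨z, hzH⟩ * (x : H)⁻¹ = y := Subtype.ext hyz.symm
            rw [this]; exact hy⟩
        map_one' := rfl
        map_mul' := fun _ _ => rfl }
    refine hnpc_of_injective f ?_ h2
    intro a b hab
    have h3 : ((f a : _) : G) = ((f b : _) : G) := congrArg Subtype.val hab
    exact Subtype.ext (Subtype.ext h3)

end transfer



section step1

theorem card_lt_of_lt {G : Type*} [Group G] [Finite G] {H K : Subgroup G} (h : H < K) :
    Nat.card H < Nat.card K :=
  Set.Finite.card_lt_card (Set.toFinite _) h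

/-- the induction hypothesis -/
def IH (p : ℕ) (n : ℕ) : Prop :=
  ∀ (X : Type u) [Group X] [Finite X], Nat.card X < n →
    (p ≠ 2 ∨ ¬ Involves (Equiv.Perm (Fin 4)) X) →
    ∀ T : Sylow p X, Cond p (T : Subgroup X) → HasNormalPComplement p X

variable {G : Type u} [Group G] [Finite G] {p : ℕ} [hpf : Fact p.Prime]

theorem ih_subgroup (ih : IH.{u} p (Nat.card G))
    (h4 : p ≠ 2 ∨ ¬ Involves (Equiv.Perm (Fin 4)) G) (H : Subgroup G) (hH : H ≠ ⊤)
    (T : Sylow p H) (hT : Cond p ((T : Subgroup H).map H.subtype)) :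
    HasNormalPComplement p H := by
  apply ih H _ _ T (cond_sub H _ hT)
  · have : H < ⊤ := lt_top_iff_ne_top.2 hH
    have := card_lt_of_lt this
    rwa [Subgroup.card_top] at this
  · rcases h4 with h | h
    · exact Or.inl h
    · exact Or.inr (fun hinv => h (involves_of_injective H.subtype H.subtype_injective hinv))

/-- normalizers grow in `p`-groups -/
theorem lt_inf_normalizer {S T : Subgroup G} (hS : IsPGroup p S) (hTS : T < S) :
    T < S ⊓ Subgroup.normalizer (T : Set G) := by
  have hle : T ≤ S := hTS.le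
  have hnil : Group.IsNilpotent S := hS.isNilpotent
  have hnc : NormalizerCondition S := Group.normalizerCondition_of_isNilpotent
  have hlt : T.subgroupOf S < ⊤ := by
    rw [lt_top_iff_ne_top, Ne, Subgroup.subgroupOf_eq_top]
    exact fun h => (not_le_of_gt hTS) h
  have h2 := hnc _ hlt
  rw [← Subgroup.subgroupOf_normalizer_eq hle] at h2
  obtain ⟨y, hy1, hy2⟩ := SetLike.exists_of_lt h2
  rw [Subgroup.mem_subgroupOf] at hy1 hy2
  refine lt_of_le_of_ne (le_inf hle Subgroup.le_normalizer) ?_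
  intro h
  apply hy2
  rw [h]
  exact ⟨y.2, hy1⟩

/-- exponent of `p` in the order of the normalizer -/
noncomputable def eN (p : ℕ) (H : Subgroup G) : ℕ :=
  (Nat.card ↥(Subgroup.normalizer (H : Set G))).factorization p

theorem le_eN_of_le_normalizer {R H : Subgroup G} {r : ℕ} (hR : Nat.card R = p ^ r)
    (hRN : R ≤ Subgroup.normalizer (H : Set G)) : r ≤ eN p H := by
  have h1 : Nat.card R ∣ Nat.card ↥(Subgroup.normalizer (H : Set G)) :=
    Subgroup.card_dvd_of_le hRN
  rw [hR] at h1
  exact (Nat.Prime.pow_dvd_iff_le_factorization hpf.out Nat.card_pos.ne').1 h1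

theorem exists_step1 (ih : IH.{u} p (Nat.card G))
    (h4 : p ≠ 2 ∨ ¬ Involves (Equiv.Perm (Fin 4)) G)
    (hall : ∀ S : Sylow p G, Cond p (S : Subgroup G))
    (hno : ¬ HasNormalPComplement p G) :
    ∃ U : Subgroup G, U.Normal ∧ IsPGroup p U ∧ U ≠ ⊥ ∧
      ∀ X : Subgroup G, IsPGroup p X → U < X →
        (∃ S : Sylow p G, (S : Subgroup G) ≤ Subgroup.normalizer (X : Set G)) →
        HasNormalPComplement p ↥(Subgroup.normalizer (X : Set G)) := by
  have hp := hpf.out
  -- the family of bad subgroups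
  have hne : ∃ Q : Subgroup G, IsPGroup p Q ∧ Q ≠ ⊥ ∧
      ¬ HasNormalPComplement p ↥(Subgroup.normalizer (Q : Set G)) := by
    by_contra hcon
    apply hno
    rw [Cfsg.Agent.S0072.result]
    intro Q hQ hQ1
    by_contra hQn
    exact hcon ⟨Q, hQ, hQ1, hQn⟩
  obtain ⟨Q₀, hQ₀⟩ := hne
  haveI : Nonempty {Q : Subgroup G // IsPGroup p Q ∧ Q ≠ ⊥ ∧
      ¬ HasNormalPComplement p ↥(Subgroup.normalizer (Q : Set G))} := ⟨⟨Q₀, hQ₀⟩⟩
  obtain ⟨⟨H, hHp, hH1, hHn⟩, hmax⟩ := Finite.exists_max
    (fun Q : {Q : Subgroup G // IsPGroup p Q ∧ Q ≠ ⊥ ∧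
      ¬ HasNormalPComplement p ↥(Subgroup.normalizer (Q : Set G))} =>
      eN p Q.1 * (Nat.card G + 1) + Nat.card Q.1)
  simp only at hmax
  have hcardle : ∀ Q : Subgroup G, Nat.card Q ≤ Nat.card G := fun Q => Subgroup.card_le_card_group Q
  -- key: any bad subgroup has measure at most that of H
  have hkey : ∀ Q : Subgroup G, IsPGroup p Q → Q ≠ ⊥ → eN p H < eN p Q →
      HasNormalPComplement p ↥(Subgroup.normalizer (Q : Set G)) := by
    intro Q hQ hQ1 hlt
    by_contra hQn
    have := hmax ⟨Q, hQ, hQ1, hQn⟩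
    simp only at this
    have h1 : (eN p H + 1) * (Nat.card G + 1) ≤ eN p Q * (Nat.card G + 1) :=
      Nat.mul_le_mul_right _ hlt
    rw [Nat.succ_mul] at h1
    have := hcardle H
    omega
  have hkey2 : ∀ Q : Subgroup G, IsPGroup p Q → Q ≠ ⊥ → eN p H ≤ eN p Q →
      Nat.card H < Nat.card Q →
      HasNormalPComplement p ↥(Subgroup.normalizer (Q : Set G)) := by
    intro Q hQ hQ1 hle hlt
    by_contra hQn
    have := hmax ⟨Q, hQ, hQ1, hQn⟩
    simp only at this
    have h1 : eN p H * (Nat.card G + 1) ≤ eN p Q * (Nat.card G + 1) :=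
      Nat.mul_le_mul_right _ hle
    omega
  -- the normalizer of H is everything
  have hNtop : Subgroup.normalizer (H : Set G) = ⊤ := by
    by_contra hNtop
    set N := Subgroup.normalizer (H : Set G) with hN
    obtain ⟨T⟩ := (inferInstance : Nonempty (Sylow p N))
    set TG := (T : Subgroup N).map N.subtype with hTG
    have hTGp : IsPGroup p TG := T.2.map _
    obtain ⟨S, hS⟩ := hTGp.exists_le_sylow
    have hTcard : Nat.card TG = p ^ eN p H := by
      rw [hTG, Subgroup.card_map_of_injective N.subtype_injective]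
      exact T.card_eq_multiplicity
    -- H is nontrivial so eN p H ≥ 1
    have he1 : 1 ≤ eN p H := by
      obtain ⟨j, hj⟩ := IsPGroup.iff_card.mp hHp
      have hj1 : 1 ≤ j := by
        rcases Nat.eq_zero_or_pos j with h0 | h0
        · rw [h0, pow_zero] at hj
          exact absurd (Subgroup.card_eq_one.1 hj) hH1
        · exact h0
      exact hj1.trans (le_eN_of_le_normalizer hj Subgroup.le_normalizer)
    have hTG1 : TG ≠ ⊥ := by
      intro h
      rw [h, Subgroup.card_bot] at hTcard
      have : 1 < p ^ eN p H := Nat.one_lt_pow (by omega) hp.one_lt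
      omega
    have hcond : Cond p TG := by
      by_cases hTS : TG = S
      · rw [hTS]; exact hall S
      · have hlt : TG < S := lt_of_le_of_ne hS hTS
        have hlt2 := lt_inf_normalizer S.2 hlt
        set R := (S : Subgroup G) ⊓ Subgroup.normalizer (TG : Set G) with hR
        have hRp : IsPGroup p R := S.2.to_le inf_le_left
        obtain ⟨r, hr⟩ := IsPGroup.iff_card.mp hRp
        have hrlt : eN p H < r := by
          have := card_lt_of_lt hlt2
          rw [hTcard, hr] at this
          exact (Nat.pow_lt_pow_iff_right hp.one_lt).1 this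
        constructor
        · have hZ1 : zIn TG ≠ ⊥ := zIn_ne_bot hTGp hTG1
          have hZp : IsPGroup p (zIn TG) := hTGp.to_le (zIn_le TG)
          have hRZ : R ≤ Subgroup.normalizer (zIn TG : Set G) :=
            inf_le_right.trans (normalizer_le_normalizer_zIn TG)
          have := hkey _ hZp hZ1 (lt_of_lt_of_le hrlt (le_eN_of_le_normalizer hr hRZ))
          exact hnpc_of_le (Subgroup.centralizer_le_normalizer _) this
        · have hJ1 : thompsonSubgroupAOf TG ≠ ⊥ := thompsonAOf_ne_bot hTG1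
          have hJp : IsPGroup p (thompsonSubgroupAOf TG) := hTGp.to_le (thompsonAOf_le TG)
          have hRJ : R ≤ Subgroup.normalizer (thompsonSubgroupAOf TG : Set G) :=
            inf_le_right.trans (normalizer_le_normalizer_thompsonAOf TG)
          exact hkey _ hJp hJ1 (lt_of_lt_of_le hrlt (le_eN_of_le_normalizer hr hRJ))
    exact hHn (ih_subgroup ih h4 N hNtop T hcond)
  have hHnormal : H.Normal := Subgroup.normalizer_eq_top_iff.1 hNtop
  refine ⟨H, hHnormal, hHp, hH1, ?_⟩
  intro X hXp hlt ⟨S, hS⟩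
  apply hkey2 X hXp (ne_bot_of_gt hlt) _ (card_lt_of_lt hlt)
  -- eN p H ≤ eN p X
  have h1 : eN p H = (Nat.card G).factorization p := by
    unfold eN
    rw [hNtop, Subgroup.card_top]
  rw [h1]
  exact le_eN_of_le_normalizer S.card_eq_multiplicity hS

end step1

section step2
variable {G : Type u} [Group G] [Finite G] {p : ℕ} [hpf : Fact p.Prime]

theorem isPGroup_comap_mk' {U : Subgroup G} [U.Normal] (hU : IsPGroup p U)
    {X : Subgroup (G ⧸ U)} (hX : IsPGroup p X) :
    IsPGroup p (X.comap (QuotientGroup.mk' U)) := by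
  apply hX.comap_of_ker_isPGroup
  rw [QuotientGroup.ker_mk']
  exact hU

/-- normal-`p`-complement of a normalizer passes to the quotient by a normal `p`-subgroup -/
theorem hnpc_normalizer_quot {U : Subgroup G} [U.Normal] (Xbar : Subgroup (G ⧸ U))
    (h : HasNormalPComplement p
      ↥(Subgroup.normalizer ((Xbar.comap (QuotientGroup.mk' U) : Subgroup G) : Set G))) :
    HasNormalPComplement p ↥(Subgroup.normalizer (Xbar : Set (G ⧸ U))) := by
  have hsurj : Function.Surjective (QuotientGroup.mk' U) := QuotientGroup.mk'_surjective U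
  have h1 := hnpc_map_subgroup (QuotientGroup.mk' U) _ h
  rw [← Subgroup.comap_normalizer_eq_of_surjective Xbar hsurj,
    Subgroup.map_comap_eq_self_of_surjective hsurj] at h1
  exact h1

theorem exists_step2 (ih : IH.{u} p (Nat.card G))
    (h4 : p ≠ 2 ∨ ¬ Involves (Equiv.Perm (Fin 4)) G)
    (U : Subgroup G) [hUn : U.Normal] (hUp : IsPGroup p U) (hU1 : U ≠ ⊥)
    (hU : ∀ X : Subgroup G, IsPGroup p X → U < X →
        (∃ S : Sylow p G, (S : Subgroup G) ≤ Subgroup.normalizer (X : Set G)) →
        HasNormalPComplement p ↥(Subgroup.normalizer (X : Set G))) :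
    ∃ K : Subgroup G, K.Normal ∧ U ≤ K ∧
      (∃ m : ℕ, Nat.card K = Nat.card U * m ∧ m.Coprime p) ∧ ∃ k : ℕ, K.index = p ^ k := by
  have hp := hpf.out
  have hsurj : Function.Surjective (QuotientGroup.mk' U) := QuotientGroup.mk'_surjective U
  obtain ⟨S⟩ := (inferInstance : Nonempty (Sylow p G))
  have hUS : U ≤ S := hUp.le_sylow_of_normal S
  -- the quotient has a normal p-complement
  have hq : HasNormalPComplement p (G ⧸ U) := by
    have hcardlt : Nat.card (G ⧸ U) < Nat.card G := by
      have h1 : Nat.card G = Nat.card (G ⧸ U) * Nat.card U :=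
        Subgroup.card_eq_card_quotient_mul_card_subgroup U
      have h2 : 1 < Nat.card U := by
        have hpos : 0 < Nat.card U := Nat.card_pos
        have : Nat.card U ≠ 1 := fun h => hU1 (Subgroup.card_eq_one.1 h)
        omega
      have h3 : 0 < Nat.card (G ⧸ U) := Nat.card_pos
      rw [h1]
      nlinarith
    have h4' : p ≠ 2 ∨ ¬ Involves (Equiv.Perm (Fin 4)) (G ⧸ U) := by
      rcases h4 with h | h
      · exact Or.inl h
      · exact Or.inr (fun hinv => h (involves_of_surjective _ hsurj hinv))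
    apply ih (G ⧸ U) hcardlt h4' (S.mapSurjective hsurj)
    rw [Sylow.coe_mapSurjective]
    set Sbar := (S : Subgroup G).map (QuotientGroup.mk' U) with hSbar
    have hSbarp : IsPGroup p Sbar := S.2.map _
    by_cases hSbar1 : Sbar = ⊥
    · -- then the quotient is a p'-group, everything has normal complements
      have hcop : (Nat.card (G ⧸ U)).Coprime p := by
        have h1 : (S : Subgroup G) ≤ U := by
          intro s hs
          have : (QuotientGroup.mk' U) s ∈ Sbar := ⟨s, hs, rfl⟩
          rw [hSbar1, Subgroup.mem_bot] at this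
          exact (QuotientGroup.eq_one_iff s).1 this
        have h2 : U.index ∣ (S : Subgroup G).index := Subgroup.index_dvd_of_le h1
        rw [← Subgroup.index_eq_card, Nat.coprime_comm, Nat.Prime.coprime_iff_not_dvd hp]
        exact fun h => S.not_dvd_index (h.trans h2)
      have hall : ∀ Y : Subgroup (G ⧸ U), HasNormalPComplement p Y := fun Y =>
        hnpc_subgroup Y (hnpc_of_coprime hcop)
      exact ⟨hall _, hall _⟩
    · have hSnorm : ∀ Xbar : Subgroup (G ⧸ U),
          Sbar ≤ Subgroup.normalizer (Xbar : Set (G ⧸ U)) →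
          (S : Subgroup G) ≤ Subgroup.normalizer
            ((Xbar.comap (QuotientGroup.mk' U) : Subgroup G) : Set G) := by
        intro Xbar hX s hs
        apply Subgroup.le_normalizer_comap (QuotientGroup.mk' U)
        rw [Subgroup.mem_comap]
        exact hX ⟨s, hs, rfl⟩
      have hlt : ∀ Xbar : Subgroup (G ⧸ U), Xbar ≠ ⊥ →
          U < Xbar.comap (QuotientGroup.mk' U) := by
        intro Xbar hX1
        have hle : U ≤ Xbar.comap (QuotientGroup.mk' U) := by
          have := Subgroup.ker_le_comap (QuotientGroup.mk' U) Xbar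
          rwa [QuotientGroup.ker_mk'] at this
        refine lt_of_le_of_ne hle ?_
        intro heq
        apply hX1
        have := Subgroup.map_comap_eq_self_of_surjective hsurj Xbar
        rw [← heq] at this
        rw [← this]
        exact (Subgroup.map_eq_bot_iff _).2 (le_of_eq (QuotientGroup.ker_mk' U).symm)
      constructor
      · have hZ1 : zIn Sbar ≠ ⊥ := zIn_ne_bot hSbarp hSbar1
        have hZp : IsPGroup p (zIn Sbar) := hSbarp.to_le (zIn_le _)
        have h1 := hU _ (isPGroup_comap_mk' hUp hZp) (hlt _ hZ1)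
          ⟨S, hSnorm _ (Subgroup.le_normalizer.trans (normalizer_le_normalizer_zIn Sbar))⟩
        exact hnpc_of_le (Subgroup.centralizer_le_normalizer _) (hnpc_normalizer_quot _ h1)
      · have hJ1 : thompsonSubgroupAOf Sbar ≠ ⊥ := thompsonAOf_ne_bot hSbar1
        have hJp : IsPGroup p (thompsonSubgroupAOf Sbar) := hSbarp.to_le (thompsonAOf_le _)
        have h1 := hU _ (isPGroup_comap_mk' hUp hJp) (hlt _ hJ1)
          ⟨S, hSnorm _ (Subgroup.le_normalizer.trans
            (normalizer_le_normalizer_thompsonAOf Sbar))⟩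
        exact hnpc_normalizer_quot _ h1
  obtain ⟨N, hN, hcop, k, hk⟩ := npcn_of_hnpc hq
  have := hN
  refine ⟨N.comap (QuotientGroup.mk' U), inferInstance, ?_, ⟨Nat.card N, ?_, hcop⟩, k, ?_⟩
  · have := Subgroup.ker_le_comap (QuotientGroup.mk' U) N
    rwa [QuotientGroup.ker_mk'] at this
  · rw [card_comap_of_surjective _ hsurj, QuotientGroup.ker_mk', mul_comm]
  · rw [Subgroup.index_comap_of_surjective N hsurj, hk]

end step2

section step3
variable {G : Type u} [Group G] [Finite G] {p : ℕ} [hpf : Fact p.Prime]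

theorem card_mul_relIndex_of_le {H K : Subgroup G} (h : H ≤ K) :
    Nat.card H * H.relIndex K = Nat.card K := by
  have := Subgroup.relIndex_mul_relIndex (⊥ : Subgroup G) H K bot_le h
  rwa [Subgroup.relIndex_bot_left, Subgroup.relIndex_bot_left] at this

theorem card_sup_of_coprime {Q M : Subgroup G} [hM : M.Normal] (hQ : IsPGroup p Q)
    (hMc : (Nat.card M).Coprime p) : Nat.card ↥(Q ⊔ M) = Nat.card Q * Nat.card M := by
  have h1 := Cfsg.Agent.S3062.card_sup_mul_card_inf Q M
    (by rw [Subgroup.normalizer_eq_top_iff.2 hM]; exact le_top)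
  have h2 : Q ⊓ M = ⊥ := by
    apply disjoint_iff.1
    apply Subgroup.disjoint_of_coprime_natCard
    obtain ⟨k, hk⟩ := IsPGroup.iff_card.mp hQ
    rw [hk]
    exact (Nat.Coprime.pow_right k hMc).symm
  rw [h2, Subgroup.card_bot, mul_one] at h1
  exact h1

/-- If `g` maps the `p`-subgroup `Q` into `Q M` (`M` a normal `p'`-subgroup), then `g` can be
corrected by an element of `M` to normalize `Q`. -/
theorem exists_mul_mem_normalizer {Q M : Subgroup G} [hM : M.Normal] (hQ : IsPGroup p Q)
    (hMc : (Nat.card M).Coprime p) (g : G) (hg : cj g Q ≤ Q ⊔ M) :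
    ∃ m ∈ M, m * g ∈ Subgroup.normalizer (Q : Set G) := by
  have hp := hpf.out
  have hidx : ¬ p ∣ Q.relIndex (Q ⊔ M) := by
    have h1 := card_mul_relIndex_of_le (le_sup_left : Q ≤ Q ⊔ M)
    rw [card_sup_of_coprime hQ hMc] at h1
    have hpos : 0 < Nat.card Q := Nat.card_pos
    have h2 : Q.relIndex (Q ⊔ M) = Nat.card M := Nat.eq_of_mul_eq_mul_left hpos h1
    rw [h2]
    exact (Nat.Prime.coprime_iff_not_dvd hp).1 hMc.symm
  obtain ⟨y, hy, hle⟩ := exists_cj_le (Q ⊔ M) Q (cj g Q) le_sup_left hQ hidx hg (isPGroup_cj hQ)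
  rw [sup_comm] at hy
  obtain ⟨m, hm, q, hq, rfl⟩ := Subgroup.mem_sup_of_normal_left.mp hy
  -- cj g Q ≤ cj (m q) Q = cj m Q, equal cardinalities
  have heq : cj g Q = cj m Q := by
    have h1 : cj (m * q) Q = cj m Q := by rw [cj_mul, cj_eq_self_of_mem hq]
    rw [← h1]
    apply Subgroup.eq_of_le_of_card_ge hle
    rw [card_cj, card_cj]
  refine ⟨m⁻¹, M.inv_mem hm, ?_⟩
  rw [← cj_eq_self_iff, cj_mul, heq, ← cj_mul, inv_mul_cancel]
  exact cj_eq_self_of_mem Q.one_mem

end step3

section step3b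
variable {G : Type u} [Group G] [Finite G] {p : ℕ} [hpf : Fact p.Prime]

theorem eq_one_of_mem_of_mem_coprime {Q M : Subgroup G} (hQ : IsPGroup p Q)
    (hMc : (Nat.card M).Coprime p) {x : G} (hxQ : x ∈ Q) (hxM : x ∈ M) : x = 1 := by
  have h2 : Disjoint Q M := by
    apply Subgroup.disjoint_of_coprime_natCard
    obtain ⟨k, hk⟩ := IsPGroup.iff_card.mp hQ
    rw [hk]
    exact (Nat.Coprime.pow_right k hMc).symm
  have : x ∈ Q ⊓ M := ⟨hxQ, hxM⟩
  rw [disjoint_iff.1 h2, Subgroup.mem_bot] at this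
  exact this

/-- A minimal counterexample has no nontrivial normal `p'`-subgroup. -/
theorem no_normal_p' (ih : IH.{u} p (Nat.card G))
    (h4 : p ≠ 2 ∨ ¬ Involves (Equiv.Perm (Fin 4)) G)
    (S : Sylow p G) (hS : Cond p (S : Subgroup G)) (hno : ¬ HasNormalPComplement p G)
    (M : Subgroup G) [hMn : M.Normal] (hMc : (Nat.card M).Coprime p) : M = ⊥ := by
  by_contra hM1
  apply hno
  have hsurj : Function.Surjective (QuotientGroup.mk' M) := QuotientGroup.mk'_surjective M
  have hker : (QuotientGroup.mk' M).ker = M := QuotientGroup.ker_mk' M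
  have hπ1 : ∀ x : G, (QuotientGroup.mk' M) x = 1 ↔ x ∈ M := fun x => QuotientGroup.eq_one_iff x
  apply hnpc_of_ker_coprime (QuotientGroup.mk' M) hsurj (by rw [hker]; exact hMc)
  have hcardlt : Nat.card (G ⧸ M) < Nat.card G := by
    have h1 : Nat.card G = Nat.card (G ⧸ M) * Nat.card M :=
      Subgroup.card_eq_card_quotient_mul_card_subgroup M
    have h2 : 1 < Nat.card M := by
      have hpos : 0 < Nat.card M := Nat.card_pos
      have : Nat.card M ≠ 1 := fun h => hM1 (Subgroup.card_eq_one.1 h)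
      omega
    have h3 : 0 < Nat.card (G ⧸ M) := Nat.card_pos
    rw [h1]
    nlinarith
  have h4' : p ≠ 2 ∨ ¬ Involves (Equiv.Perm (Fin 4)) (G ⧸ M) := by
    rcases h4 with h | h
    · exact Or.inl h
    · exact Or.inr (fun hinv => h (involves_of_surjective _ hsurj hinv))
  apply ih (G ⧸ M) hcardlt h4' (S.mapSurjective hsurj)
  rw [Sylow.coe_mapSurjective]
  have hinj : ∀ x ∈ (S : Subgroup G), (QuotientGroup.mk' M) x = 1 → x = 1 := by
    intro x hx hx1
    exact eq_one_of_mem_of_mem_coprime S.2 hMc hx ((hπ1 x).1 hx1)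
  have hZ : zIn ((S : Subgroup G).map (QuotientGroup.mk' M)) =
      (zIn (S : Subgroup G)).map (QuotientGroup.mk' M) := by
    ext x
    constructor
    · intro hx
      rw [mem_zIn] at hx
      obtain ⟨⟨y, hy, rfl⟩, hx2⟩ := hx
      refine ⟨y, ?_, rfl⟩
      rw [SetLike.mem_coe, mem_zIn]
      refine ⟨hy, ?_⟩
      intro s hs
      have h1 := hx2 _ ⟨s, hs, rfl⟩
      have h2 : s * y * s⁻¹ * y⁻¹ ∈ (S : Subgroup G) :=
        Subgroup.mul_mem _ (Subgroup.mul_mem _ (Subgroup.mul_mem _ hs hy) (Subgroup.inv_mem _ hs))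
          (Subgroup.inv_mem _ hy)
      have h3 : (QuotientGroup.mk' M) (s * y * s⁻¹ * y⁻¹) = 1 := by
        rw [map_mul, map_mul, map_mul, map_inv, map_inv, h1]
        group
      have h4 := hinj _ h2 h3
      calc s * y = (s * y * s⁻¹ * y⁻¹) * (y * s) := by group
        _ = y * s := by rw [h4, one_mul]
    · rintro ⟨y, hy, rfl⟩
      rw [SetLike.mem_coe, mem_zIn] at hy
      rw [mem_zIn]
      refine ⟨⟨y, hy.1, rfl⟩, ?_⟩
      rintro _ ⟨s, hs, rfl⟩
      rw [← map_mul, ← map_mul, hy.2 s hs]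
  have hJ := thompsonAOf_map (QuotientGroup.mk' M) (S : Subgroup G) hinj
  constructor
  · rw [hZ]
    refine hnpc_of_le ?_ (hnpc_map_subgroup (QuotientGroup.mk' M) _ hS.1)
    intro gbar hgbar
    obtain ⟨g, rfl⟩ := hsurj gbar
    rw [Subgroup.mem_centralizer_iff] at hgbar
    have hZp : IsPGroup p (zIn (S : Subgroup G)) := S.2.to_le (zIn_le _)
    have hcom : ∀ z ∈ zIn (S : Subgroup G), g * z * g⁻¹ * z⁻¹ ∈ M := by
      intro z hz
      rw [← hπ1, map_mul, map_mul, map_mul, map_inv, map_inv]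
      have := hgbar _ ⟨z, hz, rfl⟩
      rw [← this]
      group
    have hle : cj g (zIn (S : Subgroup G)) ≤ zIn (S : Subgroup G) ⊔ M := by
      intro x hx
      obtain ⟨z, hz, rfl⟩ := mem_cj'.1 hx
      have : g * z * g⁻¹ = (g * z * g⁻¹ * z⁻¹) * z := by group
      rw [this, sup_comm]
      exact Subgroup.mul_mem_sup (hcom z hz) hz
    obtain ⟨m, hm, hmg⟩ := exists_mul_mem_normalizer hZp hMc g hle
    refine ⟨m * g, ?_, ?_⟩
    · rw [SetLike.mem_coe, Subgroup.mem_centralizer_iff]
      intro z hz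
      have hz' : z ∈ zIn (S : Subgroup G) := hz
      have h1 : (m * g) * z * (m * g)⁻¹ ∈ zIn (S : Subgroup G) :=
        ((Subgroup.mem_normalizer_iff.1 hmg) z).1 hz'
      have h2 : (m * g) * z * (m * g)⁻¹ * z⁻¹ ∈ zIn (S : Subgroup G) :=
        Subgroup.mul_mem _ h1 (Subgroup.inv_mem _ hz')
      have h3 : (m * g) * z * (m * g)⁻¹ * z⁻¹ ∈ M := by
        have : (m * g) * z * (m * g)⁻¹ * z⁻¹ = m * (g * z * g⁻¹ * z⁻¹) * (z * m⁻¹ * z⁻¹) := by
          group
        rw [this]
        exact M.mul_mem (M.mul_mem hm (hcom z hz')) (hMn.conj_mem _ (M.inv_mem hm) z)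
      have h4 := eq_one_of_mem_of_mem_coprime hZp hMc h2 h3
      calc z * (m * g) = ((m * g) * z * (m * g)⁻¹ * z⁻¹)⁻¹ * ((m * g) * z) := by group
        _ = (m * g) * z := by rw [h4, inv_one, one_mul]
    · rw [map_mul, (hπ1 m).2 hm, one_mul]
  · rw [← hJ]
    refine hnpc_of_le ?_ (hnpc_map_subgroup (QuotientGroup.mk' M) _ hS.2)
    intro gbar hgbar
    obtain ⟨g, rfl⟩ := hsurj gbar
    have hJp : IsPGroup p (thompsonSubgroupAOf (S : Subgroup G)) := S.2.to_le (thompsonAOf_le _)
    have hle : cj g (thompsonSubgroupAOf (S : Subgroup G)) ≤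
        thompsonSubgroupAOf (S : Subgroup G) ⊔ M := by
      intro x hx
      obtain ⟨z, hz, rfl⟩ := mem_cj'.1 hx
      have h1 : (QuotientGroup.mk' M) (g * z * g⁻¹) ∈
          (thompsonSubgroupAOf (S : Subgroup G)).map (QuotientGroup.mk' M) := by
        rw [map_mul, map_mul, map_inv]
        exact ((Subgroup.mem_normalizer_iff.1 hgbar) _).1 ⟨z, hz, rfl⟩
      have h2 : g * z * g⁻¹ ∈ ((thompsonSubgroupAOf (S : Subgroup G)).map
          (QuotientGroup.mk' M)).comap (QuotientGroup.mk' M) := h1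
      rw [Subgroup.comap_map_eq, hker] at h2
      exact h2
    obtain ⟨m, hm, hmg⟩ := exists_mul_mem_normalizer hJp hMc g hle
    refine ⟨m * g, hmg, ?_⟩
    rw [map_mul, (hπ1 m).2 hm, one_mul]

end step3b

section core
variable {G : Type u} [Group G] [Finite G] {p : ℕ} [hpf : Fact p.Prime]

/-- The structure of a minimal counterexample. -/
structure Core (p : ℕ) (G : Type u) [Group G] (S : Sylow p G) (U K : Subgroup G) : Prop where
  Un : U.Normal
  Kn : K.Normal
  Up : IsPGroup p U
  U1 : U ≠ ⊥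
  UK : U ≤ K
  cardK : ∃ m : ℕ, Nat.card K = Nat.card U * m ∧ m.Coprime p
  idxK : ∃ k : ℕ, K.index = p ^ k
  Umax : ∀ X : Subgroup G, X.Normal → IsPGroup p X → X ≤ U
  cent : Subgroup.centralizer (U : Set G) ≤ U
  simple : ∀ L : Subgroup G, U ≤ L → L ≤ K →
    (S : Subgroup G) ≤ Subgroup.normalizer (L : Set G) → L = U ∨ L = K
  KneU : K ≠ U
  cond : Cond p (S : Subgroup G)
  hno : ¬ HasNormalPComplement p G
  nop' : ∀ M : Subgroup G, M.Normal → (Nat.card M).Coprime p → M = ⊥
  SK : (S : Subgroup G) ⊔ K = ⊤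
  SKinf : (S : Subgroup G) ⊓ K = U
  US : U ≤ S

theorem isPGroup_zpowers_of_pow_eq_one {g : G} {e : ℕ} (h : g ^ (p ^ e) = 1) :
    IsPGroup p (Subgroup.zpowers g) := by
  have h1 : orderOf g ∣ p ^ e := orderOf_dvd_of_pow_eq_one h
  obtain ⟨j, hj⟩ := exists_eq_pow_of_dvd_pow hpf.out h1
  apply IsPGroup.of_card (n := j)
  rw [Nat.card_zpowers, hj]

/-- a `p`-subgroup of `K` lies in `U` -/
theorem le_of_isPGroup_of_le {U K X : Subgroup G} [hUn : U.Normal] (hUp : IsPGroup p U)
    (hUK : U ≤ K) (hcard : ∃ m : ℕ, Nat.card K = Nat.card U * m ∧ m.Coprime p)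
    (hXp : IsPGroup p X) (hXK : X ≤ K) : X ≤ U := by
  obtain ⟨m, hm, hmc⟩ := hcard
  have h1 : IsPGroup p (U ⊔ X : Subgroup G) := hUp.to_sup_of_normal_left hXp
  have h2 : U ⊔ X ≤ K := sup_le hUK hXK
  obtain ⟨i, hi⟩ := IsPGroup.iff_card.mp h1
  have h3 : Nat.card ↥(U ⊔ X) ∣ Nat.card U * m := hm ▸ Subgroup.card_dvd_of_le h2
  rw [hi] at h3
  have h4 : p ^ i ∣ Nat.card U :=
    Nat.Coprime.dvd_of_dvd_mul_right (Nat.Coprime.pow_left i hmc.symm) h3
  have h5 : Nat.card ↥(U ⊔ X) ≤ Nat.card U := by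
    rw [hi]; exact Nat.le_of_dvd Nat.card_pos h4
  have h6 : U = U ⊔ X := Subgroup.eq_of_le_of_card_ge le_sup_left h5
  rw [h6]; exact le_sup_right

theorem exists_core (ih : IH.{u} p (Nat.card G))
    (h4 : p ≠ 2 ∨ ¬ Involves (Equiv.Perm (Fin 4)) G)
    (hall : ∀ S : Sylow p G, Cond p (S : Subgroup G))
    (hno : ¬ HasNormalPComplement p G) (S : Sylow p G) :
    ∃ U K : Subgroup G, Core p G S U K := by
  have hp := hpf.out
  obtain ⟨U, hUn, hUp, hU1, hU⟩ := exists_step1 ih h4 hall hno
  obtain ⟨K, hKn, hUK, hcardK, hidxK⟩ := exists_step2 ih h4 U hUp hU1 hU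
  have hnop' : ∀ M : Subgroup G, M.Normal → (Nat.card M).Coprime p → M = ⊥ :=
    fun M hM hMc => by
      haveI := hM
      exact no_normal_p' ih h4 S (hall S) hno M hMc
  -- maximality of U
  have hUmax : ∀ X : Subgroup G, X.Normal → IsPGroup p X → X ≤ U := by
    intro X hXn hXp
    have h1 : IsPGroup p (U ⊔ X : Subgroup G) := hUp.to_sup_of_normal_left hXp
    have h2 : (U ⊔ X).Normal := inferInstance
    by_contra hle
    have hlt : U < U ⊔ X := lt_of_le_of_ne le_sup_left (fun h => hle (h ▸ le_sup_right))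
    have h3 := hU _ h1 hlt ⟨S, by rw [Subgroup.normalizer_eq_top_iff.2 h2]; exact le_top⟩
    rw [Subgroup.normalizer_eq_top_iff.2 h2] at h3
    exact hno (hnpc_top_iff.1 h3)
  have hUS : U ≤ S := hUp.le_sylow_of_normal S
  -- K ∩ S = U
  have hKS : (S : Subgroup G) ⊓ K = U := by
    apply le_antisymm
    · exact le_of_isPGroup_of_le hUp hUK hcardK (S.2.to_le inf_le_left) inf_le_right
    · exact le_inf hUS hUK
  -- S K = G
  have hSK : (S : Subgroup G) ⊔ K = ⊤ := by
    rw [← Subgroup.index_eq_one]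
    obtain ⟨k, hk⟩ := hidxK
    have h1 : ((S : Subgroup G) ⊔ K).index ∣ p ^ k := hk ▸ Subgroup.index_dvd_of_le le_sup_right
    have h2 : ((S : Subgroup G) ⊔ K).index ∣ (S : Subgroup G).index :=
      Subgroup.index_dvd_of_le le_sup_left
    obtain ⟨j, _, hj⟩ := (Nat.dvd_prime_pow hp).1 h1
    rcases Nat.eq_zero_or_pos j with h0 | h0
    · rw [hj, h0, pow_zero]
    · exfalso
      apply S.not_dvd_index
      refine dvd_trans ?_ h2
      rw [hj]
      exact dvd_pow_self p (by omega)
  have hcardG : Nat.card G * Nat.card U = Nat.card S * Nat.card K := by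
    have h1 := Cfsg.Agent.S3062.card_sup_mul_card_inf (S : Subgroup G) K
      (by rw [Subgroup.normalizer_eq_top_iff.2 hKn]; exact le_top)
    rwa [hSK, hKS, Subgroup.card_top] at h1
  -- centralizer of U
  have hcent : Subgroup.centralizer (U : Set G) ≤ U := by
    set C := Subgroup.centralizer (U : Set G) with hC
    have hCn : C.Normal := Subgroup.normal_centralizer
    set D := K ⊓ C with hD
    have hDn : D.Normal := inferInstance
    -- Z(U) is a central Sylow p-subgroup of D
    have hZD : zIn U ≤ D := by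
      intro z hz
      rw [mem_zIn] at hz
      refine ⟨hUK hz.1, ?_⟩
      show z ∈ Subgroup.centralizer (U : Set G)
      rw [Subgroup.mem_centralizer_iff]
      intro y hy
      exact hz.2 y hy
    have hDU : D ⊓ U = zIn U := by
      apply le_antisymm
      · intro x hx
        rw [mem_zIn]
        refine ⟨hx.2, ?_⟩
        intro y hy
        exact (Subgroup.mem_centralizer_iff.1 hx.1.2) y hy
      · exact le_inf hZD (zIn_le U)
    have hZp : IsPGroup p (zIn U) := hUp.to_le (zIn_le U)
    have hidx : ¬ p ∣ (zIn U).relIndex D := by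
      obtain ⟨m, hm, hmc⟩ := hcardK
      have h1 := Cfsg.Agent.S3062.card_sup_mul_card_inf D U
        (by rw [Subgroup.normalizer_eq_top_iff.2 hUn]; exact le_top)
      rw [hDU] at h1
      have h2 : Nat.card ↥(D ⊔ U) ∣ Nat.card U * m :=
        hm ▸ Subgroup.card_dvd_of_le (sup_le inf_le_left hUK)
      have h3 : Nat.card U ∣ Nat.card ↥(D ⊔ U) := Subgroup.card_dvd_of_le le_sup_right
      obtain ⟨t, ht⟩ := h3
      have hUpos : 0 < Nat.card U := Nat.card_pos
      have h4 : t ∣ m := by
        rw [ht] at h2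
        exact (Nat.mul_dvd_mul_iff_left hUpos).1 h2
      have h5 := card_mul_relIndex_of_le hZD
      -- card D = t * card Z
      have h6 : Nat.card D = t * Nat.card (zIn U) := by
        rw [ht] at h1
        have : Nat.card U * (t * Nat.card (zIn U)) = Nat.card U * Nat.card D := by
          calc Nat.card U * (t * Nat.card (zIn U)) = Nat.card U * t * Nat.card (zIn U) := by ring
            _ = Nat.card D * Nat.card U := h1
            _ = Nat.card U * Nat.card D := by ring
        exact (Nat.eq_of_mul_eq_mul_left hUpos this).symm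
      have h7 : (zIn U).relIndex D = t := by
        have hZpos : 0 < Nat.card (zIn U) := Nat.card_pos
        rw [h6, mul_comm] at h5
        exact Nat.eq_of_mul_eq_mul_right hZpos h5
      rw [h7]
      intro hpt
      exact (Nat.Prime.coprime_iff_not_dvd hp).1 hmc.symm (hpt.trans h4)
    have hZ' : IsPGroup p ((zIn U).subgroupOf D) := hZp.comap_subtype
    have hidx' : ¬ p ∣ ((zIn U).subgroupOf D).index := hidx
    have hnpcD : HasNormalPComplement p D := by
      apply Cfsg.Agent.Lib.Helper2.hasNormalPComplement_of_normalizer_le_centralizer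
        (hZ'.toSylow hidx')
      intro x _
      rw [Subgroup.mem_centralizer_iff]
      intro z hz
      have hz' : (z : G) ∈ zIn U := by
        have : z ∈ (zIn U).subgroupOf D := hz
        exact Subgroup.mem_subgroupOf.1 this
      have hx : (x : G) ∈ C := x.2.2
      have := (Subgroup.mem_centralizer_iff.1 hx) _ (zIn_le U hz')
      exact Subtype.ext this
    obtain ⟨M, _, hMn, hMc, k, hk⟩ := exists_normal_hall_of_normal D hnpcD
    rw [hnop' M hMn hMc, Subgroup.card_bot, one_mul] at hk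
    have hDp : IsPGroup p D := IsPGroup.of_card hk
    have hDU' : D ≤ U := hUmax D hDn hDp
    -- C is a p-group
    have hCp : IsPGroup p C := by
      obtain ⟨k', hk'⟩ := hidxK
      have h1 : K.relIndex C ∣ p ^ k' := hk' ▸ Subgroup.relIndex_dvd_index_of_normal K C
      obtain ⟨j, hj⟩ := exists_eq_pow_of_dvd_pow hp h1
      have h2 := card_mul_relIndex_of_le (inf_le_right : K ⊓ C ≤ C)
      rw [Subgroup.inf_relIndex_right, hj, hk] at h2
      apply IsPGroup.of_card (n := k + j)
      rw [← h2, pow_add]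
    exact hUmax C hCn hCp
  -- K ≠ U
  have hKneU : K ≠ U := by
    intro h
    apply hno
    apply hnpc_of_isPGroup
    obtain ⟨k, hk⟩ := hidxK
    obtain ⟨j, hj⟩ := IsPGroup.iff_card.mp hUp
    apply IsPGroup.of_card (n := j + k)
    rw [← Subgroup.card_mul_index K, hk, h, hj, pow_add]
  refine ⟨U, K, hUn, hKn, hUp, hU1, hUK, hcardK, hidxK, hUmax, hcent, ?_, hKneU, hall S, hno, hnop',
    hSK, hKS, hUS⟩
  -- simplicity
  intro L hUL hLK hSL
  by_contra hcon
  rw [not_or] at hcon
  obtain ⟨hLU, hLK'⟩ := hcon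
  have hSLinf : (S : Subgroup G) ⊓ L = U :=
    le_antisymm (hKS ▸ inf_le_inf_left _ hLK) (le_inf hUS hUL)
  have hcardL : Nat.card ↥((S : Subgroup G) ⊔ L) * Nat.card U = Nat.card S * Nat.card L := by
    have h1 := Cfsg.Agent.S3062.card_sup_mul_card_inf (S : Subgroup G) L hSL
    rwa [hSLinf] at h1
  have hne : (S : Subgroup G) ⊔ L ≠ ⊤ := by
    intro htop
    rw [htop, Subgroup.card_top, hcardG] at hcardL
    have hSpos : 0 < Nat.card S := Nat.card_pos
    have : Nat.card K = Nat.card L := Nat.eq_of_mul_eq_mul_left hSpos hcardL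
    exact hLK' (Subgroup.eq_of_le_of_card_ge hLK (le_of_eq this))
  have hT : Cond p ((S.subtype (le_sup_left : (S : Subgroup G) ≤ (S : Subgroup G) ⊔ L) :
      Subgroup ↥((S : Subgroup G) ⊔ L)).map ((S : Subgroup G) ⊔ L).subtype) := by
    rw [Sylow.coe_subtype, Subgroup.map_subgroupOf_eq_of_le le_sup_left]
    exact hall S
  have hnpcL := ih_subgroup ih h4 _ hne (S.subtype le_sup_left) hT
  apply hLU
  apply le_antisymm _ hUL
  intro g hg
  obtain ⟨i, j, hgij, ⟨e, he⟩, hcop⟩ := exists_pow_decomp (p := p) g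
  have hj : g ^ j ∈ Subgroup.centralizer (U : Set G) :=
    p'_centralizes ((S : Subgroup G) ⊔ L) U hnpcL (hUS.trans le_sup_left) hUp
      (by rw [Subgroup.normalizer_eq_top_iff.2 hUn]; exact le_top)
      (le_sup_right (a := (S : Subgroup G)) (L.pow_mem hg j)) hcop
  have hjU : g ^ j ∈ U := hcent hj
  have hj1 : g ^ j = 1 := by
    obtain ⟨e', he'⟩ := hUp ⟨g ^ j, hjU⟩
    have h1 : (g ^ j) ^ (p ^ e') = 1 := by
      have := congrArg Subtype.val he'
      simpa using this
    have h2 : orderOf (g ^ j) ∣ p ^ e' := orderOf_dvd_of_pow_eq_one h1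
    have h3 : orderOf (g ^ j) = 1 :=
      Nat.Coprime.eq_one_of_dvd (Nat.Coprime.pow_right e' hcop) h2
    exact orderOf_eq_one_iff.1 h3
  rw [hj1, mul_one] at hgij
  have hzp : IsPGroup p (Subgroup.zpowers g) := by
    rw [← hgij] at he
    exact isPGroup_zpowers_of_pow_eq_one he
  exact le_of_isPGroup_of_le hUp hUK hcardK hzp
    (by rw [Subgroup.zpowers_le]; exact hLK hg) (Subgroup.mem_zpowers g)

end core

section omega
variable {G : Type u} [Group G] [Finite G] {p : ℕ} [hpf : Fact p.Prime]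

/-- `Ω₁(Z(U))` -/
def omegaZ (p : ℕ) (U : Subgroup G) : Subgroup G where
  carrier := {z | z ∈ zIn U ∧ z ^ p = 1}
  mul_mem' := by
    rintro a b ⟨ha, ha'⟩ ⟨hb, hb'⟩
    refine ⟨(zIn U).mul_mem ha hb, ?_⟩
    have hcomm : Commute a b := (mem_zIn.1 ha).2 b (mem_zIn.1 hb).1 |>.symm
    rw [hcomm.mul_pow, ha', hb', one_mul]
  one_mem' := ⟨(zIn U).one_mem, one_pow p⟩
  inv_mem' := by
    rintro a ⟨ha, ha'⟩
    exact ⟨(zIn U).inv_mem ha, by rw [inv_pow, ha', inv_one]⟩

theorem mem_omegaZ {U : Subgroup G} {z : G} : z ∈ omegaZ p U ↔ z ∈ zIn U ∧ z ^ p = 1 := Iff.rfl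

theorem omegaZ_le_zIn (U : Subgroup G) : omegaZ p U ≤ zIn U := fun _ h => h.1

theorem omegaZ_le (U : Subgroup G) : omegaZ p U ≤ U := (omegaZ_le_zIn U).trans (zIn_le U)

theorem zIn_normal (U : Subgroup G) [hU : U.Normal] : (zIn U).Normal := by
  rw [← Subgroup.normalizer_eq_top_iff]
  apply top_le_iff.1
  rw [← Subgroup.normalizer_eq_top_iff.2 hU]
  exact normalizer_le_normalizer_zIn U

theorem omegaZ_normal (U : Subgroup G) [hU : U.Normal] : (omegaZ p U).Normal := by
  have hZ := zIn_normal U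
  constructor
  rintro z ⟨hz, hz'⟩ g
  refine ⟨hZ.conj_mem z hz g, ?_⟩
  rw [conj_pow, hz', mul_one, mul_inv_cancel]

theorem omegaZ_comm (U : Subgroup G) : ∀ a ∈ omegaZ p U, ∀ b ∈ omegaZ p U, a * b = b * a := by
  intro a ha b hb
  exact ((mem_zIn.1 ha.1).2 b (mem_zIn.1 hb.1).1).symm

theorem omegaZ_le_centralizer (U : Subgroup G) :
    U ≤ Subgroup.centralizer (omegaZ p U : Set G) := by
  intro u hu
  rw [Subgroup.mem_centralizer_iff]
  intro v hv
  exact ((mem_zIn.1 (omegaZ_le_zIn U hv)).2 u hu).symm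

theorem omegaZ_ne_bot {U : Subgroup G} (hUp : IsPGroup p U) (hU1 : U ≠ ⊥) : omegaZ p U ≠ ⊥ := by
  have hZ1 : zIn U ≠ ⊥ := zIn_ne_bot hUp hU1
  have hZp : IsPGroup p (zIn U) := hUp.to_le (zIn_le U)
  obtain ⟨k, hk⟩ := IsPGroup.iff_card.mp hZp
  have hk0 : k ≠ 0 := by
    intro h0
    rw [h0, pow_zero] at hk
    exact hZ1 (Subgroup.card_eq_one.1 hk)
  have hdvd : p ∣ Nat.card (zIn U) := by rw [hk]; exact dvd_pow_self p hk0
  obtain ⟨z, hz⟩ := exists_prime_orderOf_dvd_card' p hdvd
  intro hbot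
  have hzmem : (z : G) ∈ omegaZ p U := by
    refine ⟨z.2, ?_⟩
    have : z ^ p = 1 := by rw [← hz]; exact pow_orderOf_eq_one z
    simpa using congrArg Subtype.val this
  rw [hbot, Subgroup.mem_bot] at hzmem
  have hz1 : z = 1 := Subtype.ext hzmem
  rw [hz1, orderOf_one] at hz
  exact hpf.out.one_lt.ne hz

end omega

end Cfsg.Agent.Lib.Helper51.TNPC
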