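import Cfsg.Agent.Lib.Helper38.RhDefsB

/-! # Rh hive (helper38), part B, leaf RH-DEC: the fixed-point-free elements of `²G₂(q)` on the `q³ + 1` points are
the non-identity elements of order dividing `N = q² - q + 1` together with `Zset`. -/

set_option autoImplicit false

namespace Cfsg.Agent.Lib.Helper38.Rh

open Cfsg.Agent.Lib.Helper12.Rt

/-! ## Arithmetic -/

theorem dec_three_dvd_qq (m : ℕ) : 3 ∣ qq m := by
  unfold qq
  exact dvd_pow_self 3 (by omega)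

theorem dec_forms (m : ℕ) : ∃ k : ℕ, qq m = k + 3 ∧ NN m = (k + 3) * (k + 2) + 1 ∧ NN m = (k + 4) * (k + 1) + 3 := by
  have h3 : 3 ≤ qq m := Nat.le_of_dvd (by unfold qq; positivity) (dec_three_dvd_qq m)
  obtain ⟨k, hk⟩ : ∃ k, qq m = k + 3 := ⟨qq m - 3, by omega⟩
  have hN : NN m = k ^ 2 + 5 * k + 7 := by
    unfold NN
    rw [hk]
    have : (k + 3) ^ 2 = (k ^ 2 + 5 * k + 6) + (k + 3) := by ring
    rw [this, Nat.add_sub_cancel]
  refine ⟨k, hk, ?_, ?_⟩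
  · rw [hN]; ring
  · rw [hN]; ring

theorem dec_prime_dvd_qq {m ℓ : ℕ} (hℓ : ℓ.Prime) (h : ℓ ∣ qq m) : ℓ = 3 := by
  unfold qq at h
  exact (Nat.prime_dvd_prime_iff_eq hℓ Nat.prime_three).1 (hℓ.dvd_of_dvd_pow h)

theorem dec_not_three_dvd_succ (m : ℕ) : ¬ 3 ∣ qq m + 1 := by
  intro h
  have := (Nat.dvd_add_right (dec_three_dvd_qq m)).1 h
  omega

/-- `gcd(N, q) = 1` -/
theorem dec_not_dvd_qq {m ℓ : ℕ} (hℓ : ℓ.Prime) (hN : ℓ ∣ NN m) : ¬ ℓ ∣ qq m := by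
  intro hq
  obtain ⟨k, hk, h1, -⟩ := dec_forms m
  rw [h1] at hN
  rw [hk] at hq
  have := (Nat.dvd_add_right (Dvd.dvd.mul_right hq (k + 2))).1 hN
  exact hℓ.one_lt.ne' (Nat.dvd_one.1 this)

/-- `gcd(N, q - 1) = 1` -/
theorem dec_not_dvd_pred {m ℓ : ℕ} (hℓ : ℓ.Prime) (hN : ℓ ∣ NN m) : ¬ ℓ ∣ qq m - 1 := by
  intro hq
  obtain ⟨k, hk, h1, -⟩ := dec_forms m
  rw [h1] at hN
  have hk' : qq m - 1 = k + 2 := by omega
  rw [hk'] at hq
  have := (Nat.dvd_add_right (Dvd.dvd.mul_left hq (k + 3))).1 hN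
  exact hℓ.one_lt.ne' (Nat.dvd_one.1 this)

/-- `gcd(N, q + 1) = 1` -/
theorem dec_not_dvd_succ {m ℓ : ℕ} (hℓ : ℓ.Prime) (hN : ℓ ∣ NN m) : ¬ ℓ ∣ qq m + 1 := by
  intro hq
  obtain ⟨k, hk, -, h2⟩ := dec_forms m
  rw [h2] at hN
  have hk' : qq m + 1 = k + 4 := by omega
  have hq' := hq
  rw [hk'] at hq'
  have h3 : ℓ ∣ 3 := (Nat.dvd_add_right (Dvd.dvd.mul_right hq' (k + 1))).1 hN
  have : ℓ = 3 := (Nat.prime_dvd_prime_iff_eq hℓ Nat.prime_three).1 h3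
  subst this
  exact dec_not_three_dvd_succ m hq

/-- a common prime divisor of `q - 1` and `q + 1` is `2` -/
theorem dec_eq_two_of_dvd {m ℓ : ℕ} (hℓ : ℓ.Prime) (h1 : ℓ ∣ qq m - 1) (h2 : ℓ ∣ qq m + 1) : ℓ = 2 := by
  obtain ⟨k, hk, -, -⟩ := dec_forms m
  have e1 : qq m - 1 = k + 2 := by omega
  have e2 : qq m + 1 = (k + 2) + 2 := by omega
  rw [e1] at h1
  rw [e2] at h2
  have := (Nat.dvd_add_right h1).1 h2
  exact (Nat.prime_dvd_prime_iff_eq hℓ Nat.prime_two).1 this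

/-- the prime divisors of `|G| = q³ (q - 1)(q³ + 1)` -/
theorem dec_prime_cases {m ℓ : ℕ} (hℓ : ℓ.Prime)
    (h : ℓ ∣ (3 ^ (2 * m + 1)) ^ 3 * (3 ^ (2 * m + 1) - 1) * ((3 ^ (2 * m + 1)) ^ 3 + 1)) :
    ℓ = 3 ∨ ℓ ∣ qq m - 1 ∨ ℓ ∣ qq m + 1 ∨ ℓ ∣ NN m := by
  have hq1 : 1 ≤ 3 ^ (2 * m + 1) := Nat.one_le_pow _ _ (by norm_num)
  rcases (Nat.Prime.dvd_mul hℓ).1 h with h | h
  · rcases (Nat.Prime.dvd_mul hℓ).1 h with h | h
    · left
      exact (Nat.prime_dvd_prime_iff_eq hℓ Nat.prime_three).1 (hℓ.dvd_of_dvd_pow (hℓ.dvd_of_dvd_pow h))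
    · right; left; exact h
  · rw [q_cube_add_one _ hq1] at h
    rcases (Nat.Prime.dvd_mul hℓ).1 h with h | h
    · right; right; left; exact h
    · right; right; right
      obtain ⟨k, hk, h1, -⟩ := dec_forms m
      rw [h1]
      have e : (3 : ℕ) ^ (2 * m + 1) = k + 3 := hk
      rw [e] at h
      have e2 : k + 3 - 1 = k + 2 := by omega
      rw [e2] at h
      exact h

/-- an element of order divisible by a prime divisor of `N` has order dividing `N` -/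
theorem dec_dvd_of_prime {G : Type*} [Group G] [Finite G] {m : ℕ} (h : TorusHyp G (NN m)) (g : G) (p : ℕ)
    (hp : p.Prime) (hpN : p ∣ NN m) (hpg : p ∣ orderOf g) : orderOf g ∣ NN m := by
  have hn0 : orderOf g ≠ 0 := (orderOf_pos g).ne'
  obtain ⟨x, hx⟩ : ∃ x, x = g ^ (orderOf g / p) := ⟨_, rfl⟩
  have hxo : orderOf x = p := by rw [hx]; exact orderOf_pow_orderOf_div hn0 hpg
  obtain ⟨-, hcard, -⟩ := h x p hp hpN hxo
  have hg : g ∈ Subgroup.centralizer ({x} : Set G) := by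
    rw [Subgroup.mem_centralizer_singleton_iff, hx]
    exact (Commute.pow_right (Commute.refl g) _).eq
  have h1 : orderOf (⟨g, hg⟩ : ↥(Subgroup.centralizer ({x} : Set G))) ∣
      Nat.card ↥(Subgroup.centralizer ({x} : Set G)) := orderOf_dvd_natCard _
  rw [Subgroup.orderOf_mk] at h1
  exact h1.trans hcard

theorem dec_orderOf_conj {G : Type*} [Group G] (c g : G) : orderOf (c⁻¹ * g * c) = orderOf g := by
  have : c⁻¹ * g * c = MulAut.conj c⁻¹ g := by simp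
  rw [this, MulEquiv.orderOf_eq]

section partB
variable {K : Type*} [Field K] [Fintype K] {G : Type*} [Group G] {m : ℕ} (D : RtData K G m)

include D

/-! ## Fixed points -/

theorem dec_fixN_eq_zero (g : G) : fixN D g = 0 ↔ ∀ c : G, c⁻¹ * g * c ∉ D.R.B := by
  have := D.finite
  unfold fixN
  rw [Nat.card_eq_zero]
  constructor
  · rintro (h | h)
    · intro c hc
      apply h.false
      refine ⟨(c : G ⧸ D.R.B), ?_⟩
      have e : g • (c : G ⧸ D.R.B) = ((g * c : G) : G ⧸ D.R.B) := rfl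
      rw [e, QuotientGroup.eq]
      have : (g * c)⁻¹ * c = (c⁻¹ * g * c)⁻¹ := by group
      rw [this]
      exact D.R.B.inv_mem hc
    · exact absurd h (not_infinite_iff_finite.mpr inferInstance)
  · intro h
    left
    constructor
    rintro ⟨c, hc⟩
    induction c using QuotientGroup.induction_on with
    | H c =>
      have e : g • (c : G ⧸ D.R.B) = ((g * c : G) : G ⧸ D.R.B) := rfl
      rw [e, QuotientGroup.eq] at hc
      apply h c
      have : c⁻¹ * g * c = ((g * c)⁻¹ * c)⁻¹ := by group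
      rw [this]
      exact D.R.B.inv_mem hc

/-- an element of order divisible by `3` fixes a point -/
theorem dec_fix_of_three (g : G) (h3 : 3 ∣ orderOf g) : ∃ c : G, c⁻¹ * g * c ∈ D.R.B := by
  have := D.finite
  haveI : Fact (Nat.Prime 3) := ⟨Nat.prime_three⟩
  have hn0 : orderOf g ≠ 0 := (orderOf_pos g).ne'
  obtain ⟨y, hy⟩ : ∃ y, y = g ^ (orderOf g / 3) := ⟨_, rfl⟩
  have hyo : orderOf y = 3 := by rw [hy]; exact orderOf_pow_orderOf_div hn0 h3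
  have hQ : IsPGroup 3 ↥(Subgroup.zpowers y) := by
    apply IsPGroup.of_card (n := 1)
    rw [Nat.card_zpowers, hyo, pow_one]
  obtain ⟨c, hc⟩ := exists_conj_le_of_factorization D.R.U 3 D.fact_three (Subgroup.zpowers y) hQ
  have h1 : c * y * c⁻¹ ∈ D.R.U := hc y (Subgroup.mem_zpowers y)
  obtain ⟨p, hp⟩ := (D.R.mem_U _).1 h1
  have hp0 : p ≠ 0 := by
    rintro rfl
    rw [D.R.u_zero] at hp
    have hy1 : y = 1 := by
      have e : y = c⁻¹ * (c * y * c⁻¹) * c := by group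
      rw [e, hp]; group
    rw [hy1, orderOf_one] at hyo
    norm_num at hyo
  have hcomm : (c * g * c⁻¹) * D.R.u p * (c * g * c⁻¹)⁻¹ = D.R.u p := by
    rw [← hp, hy]
    have e : g * g ^ (orderOf g / 3) * g⁻¹ = g ^ (orderOf g / 3) := by
      rw [← pow_succ', pow_succ, mul_inv_cancel_right]
    calc c * g * c⁻¹ * (c * g ^ (orderOf g / 3) * c⁻¹) * (c * g * c⁻¹)⁻¹
        = c * (g * g ^ (orderOf g / 3) * g⁻¹) * c⁻¹ := by group
      _ = c * g ^ (orderOf g / 3) * c⁻¹ := by rw [e]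
  have hB := D.R.ti (c * g * c⁻¹) p p hp0 hcomm
  exact ⟨c⁻¹, by simpa using hB⟩

/-- an element of order divisible by an odd prime divisor of `q - 1` fixes a point -/
theorem dec_fix_of_split (g : G) (ℓ : ℕ) (hℓ : ℓ.Prime) (hℓ2 : ℓ ≠ 2) (hd : ℓ ∣ qq m - 1) (hℓg : ℓ ∣ orderOf g) :
    ∃ c : G, c⁻¹ * g * c ∈ D.R.B := by
  have := D.finite
  have hn0 : orderOf g ≠ 0 := (orderOf_pos g).ne'
  obtain ⟨y, hy⟩ : ∃ y, y = g ^ (orderOf g / ℓ) := ⟨_, rfl⟩
  have hyo : orderOf y = ℓ := by rw [hy]; exact orderOf_pow_orderOf_div hn0 hℓg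
  obtain ⟨c, hc⟩ := D.cent_split y ℓ hℓ hℓ2 hd hyo
  have hg : g ∈ Subgroup.centralizer ({y} : Set G) := by
    rw [Subgroup.mem_centralizer_singleton_iff, hy]
    exact (Commute.pow_right (Commute.refl g) _).eq
  rw [hc] at hg
  obtain ⟨x, hx, hxg⟩ := Subgroup.mem_map.1 hg
  obtain ⟨s, rfl⟩ := (D.mem_H x).1 hx
  refine ⟨c, ?_⟩
  have e : c⁻¹ * g * c = D.R.h s := by
    rw [← hxg]
    simp only [MulEquiv.coe_toMonoidHom, MulAut.conj_apply]
    group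
  rw [e]
  exact D.R.h_mem_B s

/-- a non-identity `2`-element fixes a point -/
theorem dec_fix_of_two_pow (g : G) (hg : g ≠ 1) (h2 : ∀ ℓ : ℕ, ℓ.Prime → ℓ ∣ orderOf g → ℓ = 2) :
    ∃ c : G, c⁻¹ * g * c ∈ D.R.B := by
  have := D.finite
  haveI : Fact (Nat.Prime 2) := ⟨Nat.prime_two⟩
  have hn0 : orderOf g ≠ 0 := (orderOf_pos g).ne'
  have hpow := Nat.eq_prime_pow_of_unique_prime_dvd hn0 (fun {d} hd hdn => h2 d hd hdn)
  have hQ : IsPGroup 2 ↥(Subgroup.zpowers g) := by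
    apply IsPGroup.of_card (n := (orderOf g).primeFactorsList.length)
    rw [Nat.card_zpowers]
    exact hpow
  obtain ⟨S, hS⟩ := hQ.exists_le_sylow
  have hgg : g * g = 1 := (D.syl2' S).2 g (hS (Subgroup.mem_zpowers g))
  obtain ⟨c, hc⟩ := D.inv_conj g hg hgg
  refine ⟨c, ?_⟩
  rw [← hc]
  have e : c⁻¹ * (c * D.I.a * c⁻¹) * c = D.I.a := by group
  rw [e, D.hIa]
  exact D.R.h_mem_B (-1)

/-- the elements of `B` have order dividing `q³ (q - 1)` -/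
theorem dec_orderOf_dvd_of_mem_B (x : G) (hx : x ∈ D.R.B) :
    orderOf x ∣ (3 ^ (2 * m + 1)) ^ 3 * (3 ^ (2 * m + 1) - 1) := by
  have := D.finite
  have h1 : orderOf (⟨x, hx⟩ : ↥D.R.B) ∣ Nat.card ↥D.R.B := orderOf_dvd_natCard _
  rw [Subgroup.orderOf_mk, D.card_B] at h1
  exact h1

/-- RH-DEC. -/
theorem fixN_eq_zero_iff (hm : 1 ≤ m) (h : TorusHyp G (NN m)) (g : G) (hg : g ≠ 1) :
    fixN D g = 0 ↔ (orderOf g ∣ NN m ∨ g ∈ Zset G m) := by
  have := D.finite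
  have hn1 : orderOf g ≠ 1 := by rw [Ne, orderOf_eq_one_iff]; exact hg
  rw [dec_fixN_eq_zero]
  constructor
  · intro hfix
    by_contra hcon
    push Not at hcon
    obtain ⟨hN, hZ⟩ := hcon
    -- no prime divisor of the order divides `N`
    have hA : ∀ p : ℕ, p.Prime → p ∣ orderOf g → ¬ p ∣ NN m := fun p hp hpg hpN =>
      hN (dec_dvd_of_prime h g p hp hpN hpg)
    -- no odd prime divisor of the order divides `q + 1`
    have hB : ∀ ℓ : ℕ, ℓ.Prime → ℓ ∣ orderOf g → ℓ ∣ qq m + 1 → ℓ = 2 := by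
      intro ℓ hℓ hℓg hd
      by_contra h2
      exact hZ ⟨ℓ, hℓ, h2, hd, hℓg⟩
    -- `3` does not divide the order
    have hC : ¬ 3 ∣ orderOf g := by
      intro h3
      obtain ⟨c, hc⟩ := dec_fix_of_three D g h3
      exact hfix c hc
    -- no odd prime divisor of the order divides `q - 1`
    have hD : ∀ ℓ : ℕ, ℓ.Prime → ℓ ∣ orderOf g → ℓ ∣ qq m - 1 → ℓ = 2 := by
      intro ℓ hℓ hℓg hd
      by_contra h2
      obtain ⟨c, hc⟩ := dec_fix_of_split D g ℓ hℓ h2 hd hℓg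
      exact hfix c hc
    have h2 : ∀ ℓ : ℕ, ℓ.Prime → ℓ ∣ orderOf g → ℓ = 2 := by
      intro ℓ hℓ hℓg
      have hG : ℓ ∣ Nat.card G := hℓg.trans (orderOf_dvd_natCard g)
      rw [D.card_G] at hG
      rcases dec_prime_cases hℓ hG with h | h | h | h
      · subst h; exact absurd hℓg hC
      · exact hD ℓ hℓ hℓg h
      · exact hB ℓ hℓ hℓg h
      · exact absurd h (hA ℓ hℓ hℓg)
    obtain ⟨c, hc⟩ := dec_fix_of_two_pow D g hg h2
    exact hfix c hc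
  · intro hor c hc
    have hdvd := dec_orderOf_dvd_of_mem_B D _ hc
    rw [dec_orderOf_conj] at hdvd
    obtain ⟨ℓ, hℓ, hℓg⟩ := Nat.exists_prime_and_dvd hn1
    rcases hor with hN | ⟨ℓ', hℓ', hℓ'2, hℓ'd, hℓ'g⟩
    · have hℓN : ℓ ∣ NN m := hℓg.trans hN
      rcases (Nat.Prime.dvd_mul hℓ).1 (hℓg.trans hdvd) with h1 | h1
      · exact dec_not_dvd_qq hℓ hℓN (hℓ.dvd_of_dvd_pow h1)
      · exact dec_not_dvd_pred hℓ hℓN h1
    · rcases (Nat.Prime.dvd_mul hℓ').1 (hℓ'g.trans hdvd) with h1 | h1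
      · have h3 : ℓ' = 3 := dec_prime_dvd_qq (m := m) hℓ' (hℓ'.dvd_of_dvd_pow h1)
        subst h3
        exact dec_not_three_dvd_succ m hℓ'd
      · exact hℓ'2 (dec_eq_two_of_dvd hℓ' h1 hℓ'd)

/-- RH-DEC (same file).  The two cases exclude each other (`gcd(N, q + 1) = 1`). -/
theorem not_mem_Zset_of_dvd (hm : 1 ≤ m) (g : G) (h1 : orderOf g ∣ NN m) : g ∉ Zset G m := by
  rintro ⟨ℓ, hℓ, -, hd, hℓg⟩
  exact dec_not_dvd_succ hℓ (hℓg.trans h1) hd

end partB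

end Cfsg.Agent.Lib.Helper38.Rh
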