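import Cfsg.Agent.Lib.Helper43.FwDefs

/-!
# Fw hive (S3211), leaf FW-INVY: every `y ∈ C_G(j)` with `y² = 1` lies in `Y = L₁ L₂`.
Self-contained (the needed pieces of PHI / NOUT / DEC / SQ are proved inline with prefixed names).
-/

set_option autoImplicit false

namespace Cfsg.Agent.Lib.Helper43.Fw

variable {G : Type*} [Group G] {L₁ L₂ : Subgroup G} {j n : G}

/-- Every element of the join of two elementwise commuting subgroups is a product. -/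
theorem fwinvy_mem_sup (L₁ L₂ : Subgroup G)
    (hc : ∀ x ∈ L₁, ∀ y ∈ L₂, x * y = y * x) {y : G} (hy : y ∈ L₁ ⊔ L₂) :
    ∃ a ∈ L₁, ∃ b ∈ L₂, y = a * b := by
  let P : Subgroup G :=
    { carrier := {y | ∃ a ∈ L₁, ∃ b ∈ L₂, y = a * b}
      one_mem' := ⟨1, L₁.one_mem, 1, L₂.one_mem, by simp⟩
      mul_mem' := by
        rintro _ _ ⟨a, ha, b, hb, rfl⟩ ⟨a', ha', b', hb', rfl⟩
        refine ⟨a * a', L₁.mul_mem ha ha', b * b', L₂.mul_mem hb hb', ?_⟩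
        have := hc a' ha' b hb
        calc a * b * (a' * b') = a * (b * a') * b' := by group
          _ = a * (a' * b) * b' := by rw [this]
          _ = a * a' * (b * b') := by group
      inv_mem' := by
        rintro _ ⟨a, ha, b, hb, rfl⟩
        refine ⟨a⁻¹, L₁.inv_mem ha, b⁻¹, L₂.inv_mem hb, ?_⟩
        have := hc a ha b hb
        rw [this, mul_inv_rev] }
  have h1 : L₁ ≤ P := fun a ha => ⟨a, ha, 1, L₂.one_mem, by simp⟩
  have h2 : L₂ ≤ P := fun b hb => ⟨1, L₁.one_mem, b, hb, by simp⟩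
  exact (sup_le h1 h2) hy

/-- commuting with `j` -/
theorem fwinvy_comm_j {y : G} (hy : y ∈ Subgroup.centralizer ({j} : Set G)) : j * y = y * j :=
  (Subgroup.mem_centralizer_singleton_iff.1 hy).symm

theorem fwinvy_n_inv (h : Setup L₁ L₂ j n) : n⁻¹ = n * j := by
  have h1 : n * (n * j) = 1 := by rw [← mul_assoc, h.nsq, h.jsq]
  exact inv_eq_of_mul_eq_one_right h1

/-- `φ² = id` on `C_G(j)` -/
theorem fwinvy_phi_phi (h : Setup L₁ L₂ j n) (y : G)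
    (hy : y ∈ Subgroup.centralizer ({j} : Set G)) : n * (n * y * n⁻¹) * n⁻¹ = y := by
  have hjy : j * y = y * j := fwinvy_comm_j hy
  have hji : j⁻¹ = j := inv_eq_of_mul_eq_one_right h.jsq
  calc n * (n * y * n⁻¹) * n⁻¹ = (n * n) * y * (n * n)⁻¹ := by group
    _ = j * y * j⁻¹ := by rw [h.nsq]
    _ = y := by rw [hjy, mul_assoc, mul_inv_cancel, mul_one]

theorem fwinvy_L₁_le (h : Setup L₁ L₂ j n) : L₁ ≤ Subgroup.centralizer ({j} : Set G) :=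
  le_trans le_sup_left h.le

theorem fwinvy_L₂_le (h : Setup L₁ L₂ j n) : L₂ ≤ Subgroup.centralizer ({j} : Set G) :=
  le_trans le_sup_right h.le

theorem fwinvy_phi_L₂ (h : Setup L₁ L₂ j n) (b : G) (hb : b ∈ L₂) : n * b * n⁻¹ ∈ L₁ := by
  rw [h.swap (n * b * n⁻¹), fwinvy_phi_phi h b (fwinvy_L₂_le h hb)]
  exact hb

theorem fwinvy_j_mem (h : Setup L₁ L₂ j n) : j ∈ L₁ ∧ j ∈ L₂ := by
  have : j ∈ L₁ ⊓ L₂ := by rw [h.inter]; exact Subgroup.mem_zpowers j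
  exact Subgroup.mem_inf.1 this

/-- elements of `⟨j⟩` have square one -/
theorem fwinvy_zpowers_sq (h : Setup L₁ L₂ j n) (u : G) (hu : u ∈ Subgroup.zpowers j) :
    u * u = 1 := by
  obtain ⟨k, rfl⟩ := Subgroup.mem_zpowers_iff.1 hu
  rw [← zpow_add, ← two_mul, zpow_mul, zpow_two, h.jsq, one_zpow]

/-- elements of `⟨j⟩` commute with everything in `C_G(j)` -/
theorem fwinvy_zpowers_comm (u : G) (hu : u ∈ Subgroup.zpowers j) (c : G)
    (hc : c ∈ Subgroup.centralizer ({j} : Set G)) : c * u * c⁻¹ = u := by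
  have hle : Subgroup.zpowers j ≤ Subgroup.centralizer ({c} : Set G) := by
    rw [Subgroup.zpowers_le]
    rw [Subgroup.mem_centralizer_singleton_iff]
    exact (fwinvy_comm_j hc)
  have h1 : c * u = u * c := (Subgroup.mem_centralizer_singleton_iff.1 (hle hu)).symm
  rw [h1, mul_assoc, mul_inv_cancel, mul_one]

/-- `n ∉ Y` -/
theorem fwinvy_n_not_mem (h : Setup L₁ L₂ j n) : n ∉ L₁ ⊔ L₂ := by
  intro hn
  obtain ⟨a, ha, b, hb, hab⟩ := fwinvy_mem_sup L₁ L₂ h.comm hn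
  obtain ⟨x, hx, hxx⟩ := h.ex1
  -- `n x n⁻¹ = a x a⁻¹ ∈ L₁`
  have h1 : n * x * n⁻¹ = a * x * a⁻¹ := by
    have hbx : x * b = b * x := h.comm x hx b hb
    calc n * x * n⁻¹ = a * (b * x) * b⁻¹ * a⁻¹ := by rw [hab]; group
      _ = a * (x * b) * b⁻¹ * a⁻¹ := by rw [hbx]
      _ = a * x * a⁻¹ := by group
  have h2 : n * x * n⁻¹ ∈ L₁ := by
    rw [h1]; exact L₁.mul_mem (L₁.mul_mem ha hx) (L₁.inv_mem ha)
  have h3 : n * x * n⁻¹ ∈ L₂ := (h.swap x).1 hx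
  have h4 : n * x * n⁻¹ ∈ Subgroup.zpowers j := by
    rw [← h.inter]; exact Subgroup.mem_inf.2 ⟨h2, h3⟩
  have h5 := fwinvy_zpowers_sq h _ h4
  have h6 : n * x * n⁻¹ * (n * x * n⁻¹) = j := by
    calc n * x * n⁻¹ * (n * x * n⁻¹) = n * (x * x) * n⁻¹ := by group
      _ = n * j * n⁻¹ := by rw [hxx]
      _ = j := by
        have := fwinvy_comm_j h.nmem
        rw [← this, mul_assoc, mul_inv_cancel, mul_one]
  exact h.jne (h6.symm.trans h5)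

/-- `C = Y ∪ Y n` -/
theorem fwinvy_dec (h : Setup L₁ L₂ j n) (y : G)
    (hy : y ∈ Subgroup.centralizer ({j} : Set G)) (hyY : y ∉ L₁ ⊔ L₂) :
    ∃ a ∈ L₁, ∃ b ∈ L₂, y = a * b * n := by
  have hnot := fwinvy_n_not_mem h
  set C : Subgroup G := Subgroup.centralizer ({j} : Set G) with hC
  have hidx : ((L₁ ⊔ L₂).subgroupOf C).index = 2 := h.idx
  have hmem := Subgroup.mul_mem_iff_of_index_two hidx (a := (⟨y, hy⟩ : ↥C))
    (b := (⟨n⁻¹, C.inv_mem h.nmem⟩ : ↥C))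
  have hy' : (⟨y, hy⟩ : ↥C) ∉ (L₁ ⊔ L₂).subgroupOf C := by
    rw [Subgroup.mem_subgroupOf]; exact hyY
  have hn' : (⟨n⁻¹, C.inv_mem h.nmem⟩ : ↥C) ∉ (L₁ ⊔ L₂).subgroupOf C := by
    rw [Subgroup.mem_subgroupOf]
    intro hh
    exact hnot (by simpa using (L₁ ⊔ L₂).inv_mem hh)
  have h1 : (⟨y, hy⟩ : ↥C) * ⟨n⁻¹, C.inv_mem h.nmem⟩ ∈ (L₁ ⊔ L₂).subgroupOf C :=
    hmem.2 ⟨fun hh => absurd hh hy', fun hh => absurd hh hn'⟩
  rw [Subgroup.mem_subgroupOf] at h1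
  have h2 : y * n⁻¹ ∈ L₁ ⊔ L₂ := h1
  obtain ⟨a, ha, b, hb, hab⟩ := fwinvy_mem_sup L₁ L₂ h.comm h2
  refine ⟨a, ha, b, hb, ?_⟩
  rw [← hab, inv_mul_cancel_right]

/-- the square of an element of `Y n` -/
theorem fwinvy_sq_out (h : Setup L₁ L₂ j n) (a b : G) (ha : a ∈ L₁) (hb : b ∈ L₂) :
    (a * b * n) * (a * b * n) = (a * (n * b * n⁻¹)) * (b * (n * a * n⁻¹)) * j := by
  have hφa : n * a * n⁻¹ ∈ L₂ := (h.swap a).1 ha
  have hφb : n * b * n⁻¹ ∈ L₁ := fwinvy_phi_L₂ h b hb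
  have hc : (n * b * n⁻¹) * (b * (n * a * n⁻¹)) = (b * (n * a * n⁻¹)) * (n * b * n⁻¹) :=
    h.comm _ hφb _ (L₂.mul_mem hb hφa)
  calc (a * b * n) * (a * b * n)
      = a * ((b * (n * a * n⁻¹)) * (n * b * n⁻¹)) * (n * n) := by group
    _ = a * ((n * b * n⁻¹) * (b * (n * a * n⁻¹))) * (n * n) := by rw [hc]
    _ = (a * (n * b * n⁻¹)) * (b * (n * a * n⁻¹)) * j := by rw [h.nsq]; group

/-- FW-INVY: every `y ∈ C` with `y² = 1` lies in `Y`. -/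
theorem inv_mem_Y (h : Setup L₁ L₂ j n) (y : G) (hy : y ∈ Subgroup.centralizer ({j} : Set G)) (hyy : y * y = 1) :
    y ∈ L₁ ⊔ L₂ := by
  by_contra hyY
  obtain ⟨a, ha, b, hb, rfl⟩ := fwinvy_dec h y hy hyY
  have hφa : n * a * n⁻¹ ∈ L₂ := (h.swap a).1 ha
  have hφb : n * b * n⁻¹ ∈ L₁ := fwinvy_phi_L₂ h b hb
  obtain ⟨hj1, hj2⟩ := fwinvy_j_mem h
  set u : G := a * (n * b * n⁻¹) with hu
  set v : G := b * (n * a * n⁻¹) with hv
  have huL : u ∈ L₁ := L₁.mul_mem ha hφb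
  have hvL : v ∈ L₂ := L₂.mul_mem hb hφa
  have hsq : u * v * j = 1 := by
    rw [← fwinvy_sq_out h a b ha hb]; exact hyy
  -- `u = (v j)⁻¹ ∈ L₂`
  have hu2 : u = (v * j)⁻¹ := by
    rw [mul_assoc] at hsq
    exact eq_inv_of_mul_eq_one_left hsq
  have huL₂ : u ∈ L₂ := by
    rw [hu2]; exact L₂.inv_mem (L₂.mul_mem hvL hj2)
  have huz : u ∈ Subgroup.zpowers j := by
    rw [← h.inter]; exact Subgroup.mem_inf.2 ⟨huL, huL₂⟩
  -- `φ(u) = u`, i.e. `φ(a) b = u`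
  have h1 : n * u * n⁻¹ = u := fwinvy_zpowers_comm u huz n h.nmem
  have h2 : n * u * n⁻¹ = (n * a * n⁻¹) * b := by
    have : n * u * n⁻¹ = (n * a * n⁻¹) * (n * (n * b * n⁻¹) * n⁻¹) := by rw [hu]; group
    rw [this, fwinvy_phi_phi h b (fwinvy_L₂_le h hb)]
  have h3 : (n * a * n⁻¹) * b = u := by rw [← h2, h1]
  -- `v = b u b⁻¹ = u`
  have h4 : v = u := by
    have : v = b * ((n * a * n⁻¹) * b) * b⁻¹ := by rw [hv]; group
    rw [this, h3]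
    exact fwinvy_zpowers_comm u huz b (fwinvy_L₂_le h hb)
  rw [h4, fwinvy_zpowers_sq h u huz, one_mul] at hsq
  exact h.jne hsq

end Cfsg.Agent.Lib.Helper43.Fw
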