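import Cfsg.Agent.Lib.Helper51.ThompsonA
import Cfsg.Agent.Lib.Helper11.Repl

set_option autoImplicit false

/-!
# Thompson's replacement lemma: `[x, A] C_A([x, A])` is again abelian of largest order
-/

namespace Cfsg.Agent.Lib.Helper51

open Cfsg

variable {G : Type*} [Group G]

/-- the commutator `x⁻¹ a⁻¹ x a` -/
def cm (x a : G) : G := x⁻¹ * a⁻¹ * x * a

theorem cm_centralize {x a w : G} (haw : a * w = w * a) (h1 : cm x w * a = a * cm x w)
    (h2 : cm x a * cm x w = cm x w * cm x a) : cm x a * w = w * cm x a := by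
  have e1 : cm x (w * a) = cm x a * cm x w := by
    calc cm x (w * a) = x⁻¹ * a⁻¹ * x * (cm x w * a) := by unfold cm; group
      _ = x⁻¹ * a⁻¹ * x * (a * cm x w) := by rw [h1]
      _ = cm x a * cm x w := by unfold cm; group
  have e2 : cm x (a * w) = cm x w * (w⁻¹ * cm x a * w) := by unfold cm; group
  rw [haw, e1, h2] at e2
  have e3 : cm x a = w⁻¹ * cm x a * w := mul_left_cancel e2
  calc cm x a * w = w * (w⁻¹ * cm x a * w) := by group
    _ = w * cm x a := by rw [← e3]

theorem cm_quot (x u v : G) : cm x (v * u⁻¹) = u * ((cm x u)⁻¹ * cm x v) * u⁻¹ := by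
  unfold cm; group

/-- Thompson's replacement lemma. -/
theorem replacement_key [Finite G] {P A : Subgroup G} (hA : A ∈ maxAbIn P) {x : G} (hx : x ∈ P)
    (M : Subgroup G) (hM : M = Subgroup.closure {y | ∃ a ∈ A, y = cm x a})
    (hMc : ∀ m ∈ M, ∀ m' ∈ M, m * m' = m' * m) :
    M ⊔ (A ⊓ Subgroup.centralizer (M : Set G)) ∈ maxAbIn P := by
  obtain ⟨hAP, hAc, hAmax⟩ := hA
  rw [isMulComm_iff] at hAc
  have hgen : ∀ a ∈ A, cm x a ∈ M := by
    intro a ha
    rw [hM]
    exact Subgroup.subset_closure ⟨a, ha, rfl⟩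
  have hMP : M ≤ P := by
    rw [hM, Subgroup.closure_le]
    rintro y ⟨a, ha, rfl⟩
    exact mul_mem (mul_mem (mul_mem (inv_mem hx) (inv_mem (hAP ha))) hx) (hAP ha)
  set C : Subgroup G := A ⊓ Subgroup.centralizer (M : Set G) with hC
  have hCM : ∀ m ∈ M, ∀ c ∈ C, m * c = c * m := by
    intro m hm c hc
    exact Subgroup.mem_centralizer_iff.mp hc.2 m hm
  have hcomm : IsMulCommutative (M ⊔ C : Subgroup G) :=
    Cfsg.Agent.Lib.Helper11.isMulCommutative_sup_of_commute M C hMc
      (fun a ha b hb => hAc a ha.1 b hb.1) hCM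
  have hle : M ⊔ C ≤ P := sup_le hMP (inf_le_left.trans hAP)
  -- the key: if `c(u)⁻¹ c(v) ∈ A` then `v u⁻¹ ∈ C`
  have hkey : ∀ u ∈ A, ∀ v ∈ A, (cm x u)⁻¹ * cm x v ∈ A → v * u⁻¹ ∈ C := by
    intro u hu v hv huv
    have hwA : v * u⁻¹ ∈ A := mul_mem hv (inv_mem hu)
    have hcw : cm x (v * u⁻¹) ∈ A := by
      rw [cm_quot]
      exact mul_mem (mul_mem hu huv) (inv_mem hu)
    refine ⟨hwA, ?_⟩
    have hMw : M ≤ Subgroup.centralizer ({v * u⁻¹} : Set G) := by
      rw [hM, Subgroup.closure_le]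
      rintro y ⟨a, ha, rfl⟩
      rw [SetLike.mem_coe, Subgroup.mem_centralizer_iff]
      intro h hh
      rw [Set.mem_singleton_iff] at hh
      subst hh
      exact (cm_centralize (hAc a ha _ hwA) (hAc _ hcw a ha)
        (hMc _ (hgen a ha) _ (hgen _ hwA))).symm
    show v * u⁻¹ ∈ Subgroup.centralizer (M : Set G)
    rw [Subgroup.mem_centralizer_iff]
    intro m hm
    exact (Subgroup.mem_centralizer_iff.mp (hMw hm) _ rfl).symm
  -- the index inequality
  have hidx : C.relIndex A ≤ A.relIndex M := by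
    unfold Subgroup.relIndex Subgroup.index
    let f : (↥A ⧸ C.subgroupOf A) → (↥M ⧸ A.subgroupOf M) := fun q =>
      QuotientGroup.mk ⟨cm x (q.out : A), hgen _ (q.out : A).2⟩
    apply Nat.card_le_card_of_injective f
    intro q q' hqq'
    have h1 := QuotientGroup.eq.mp hqq'
    rw [Subgroup.mem_subgroupOf] at h1
    have h2 : (cm x (q.out : A))⁻¹ * cm x (q'.out : A) ∈ A := h1
    have h3 := hkey _ (q.out : A).2 _ (q'.out : A).2 h2
    have h4 : (q.out : A)⁻¹ * (q'.out : A) ∈ C.subgroupOf A := by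
      rw [Subgroup.mem_subgroupOf]
      have : (((q.out : A)⁻¹ * (q'.out : A) : A) : G) = ((q'.out : A) : G) * ((q.out : A) : G)⁻¹ := by
        push_cast
        exact hAc _ (inv_mem (q.out : A).2) _ (q'.out : A).2
      rw [this]
      exact h3
    have h5 : (QuotientGroup.mk (q.out : A) : ↥A ⧸ C.subgroupOf A) = QuotientGroup.mk (q'.out : A) :=
      QuotientGroup.eq.mpr h4
    have e1 : (QuotientGroup.mk (q.out : A) : ↥A ⧸ C.subgroupOf A) = q := Quotient.out_eq' q
    have e2 : (QuotientGroup.mk (q'.out : A) : ↥A ⧸ C.subgroupOf A) = q' := Quotient.out_eq' q'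
    rw [← e1, ← e2]
    exact h5
  -- counting
  have hMnC : M ≤ Subgroup.normalizer (C : Set G) := by
    intro m hm
    have : m ∈ Subgroup.centralizer (C : Set G) := by
      rw [Subgroup.mem_centralizer_iff]
      intro c hc
      exact (hCM m hm c hc).symm
    exact Subgroup.centralizer_le_normalizer _ this
  have hprod := Cfsg.Agent.Lib.Helper11.card_sup_mul_card_inf M C hMnC
  have hinf : M ⊓ C = M ⊓ A := by
    apply le_antisymm
    · exact inf_le_inf_left _ inf_le_left
    · intro y hy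
      refine ⟨hy.1, hy.2, ?_⟩
      show y ∈ Subgroup.centralizer (M : Set G)
      rw [Subgroup.mem_centralizer_iff]
      intro m hm
      exact hMc m hm y hy.1
  rw [hinf] at hprod
  have hA1 : Nat.card C * C.relIndex A = Nat.card A := by
    have := Subgroup.relIndex_mul_relIndex ⊥ C A bot_le inf_le_left
    rwa [Subgroup.relIndex_bot_left, Subgroup.relIndex_bot_left] at this
  have hM1 : Nat.card (M ⊓ A : Subgroup G) * A.relIndex M = Nat.card M := by
    have := Subgroup.relIndex_mul_relIndex ⊥ (M ⊓ A) M bot_le inf_le_left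
    rwa [Subgroup.relIndex_bot_left, Subgroup.relIndex_bot_left, Subgroup.inf_relIndex_left]
      at this
  have hpos : 0 < Nat.card (M ⊓ A : Subgroup G) := Nat.card_pos
  have hcard : Nat.card A ≤ Nat.card (M ⊔ C : Subgroup G) := by
    have h1 : Nat.card (M ⊔ C : Subgroup G) * Nat.card (M ⊓ A : Subgroup G) =
        Nat.card (M ⊓ A : Subgroup G) * (A.relIndex M * Nat.card C) := by
      rw [hprod, ← hM1]; ring
    have h2 : Nat.card (M ⊔ C : Subgroup G) = A.relIndex M * Nat.card C := by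
      have : Nat.card (M ⊓ A : Subgroup G) * Nat.card (M ⊔ C : Subgroup G) =
          Nat.card (M ⊓ A : Subgroup G) * (A.relIndex M * Nat.card C) := by
        rw [← h1]; ring
      exact Nat.eq_of_mul_eq_mul_left hpos this
    rw [h2, ← hA1]
    calc Nat.card C * C.relIndex A ≤ Nat.card C * A.relIndex M := Nat.mul_le_mul_left _ hidx
      _ = A.relIndex M * Nat.card C := by ring
  exact ⟨hle, hcomm, fun B hBP hBc => (hAmax B hBP hBc).trans hcard⟩

end Cfsg.Agent.Lib.Helper51
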