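import Cfsg.Agent.Lib.Helper51.AgA
import Cfsg.Agent.Lib.Helper87.Inner

set_option autoImplicit false

/-!
# Abelian subgroups of largest order normalized by an abelian normal subgroup
-/

namespace Cfsg.Agent.Lib.Helper51

open Cfsg

variable {G : Type*} [Group G]

theorem mem_sup_of_le_normalizer (Z K : Subgroup G) (h : K ≤ Subgroup.normalizer (Z : Set G))
    (x : G) (hx : x ∈ Z ⊔ K) : ∃ z ∈ Z, ∃ k ∈ K, x = z * k := by
  rw [Subgroup.sup_eq_closure] at hx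
  induction hx using Subgroup.closure_induction with
  | mem x hx =>
    rcases hx with hx | hx
    · exact ⟨x, hx, 1, one_mem _, (mul_one x).symm⟩
    · exact ⟨1, one_mem _, x, hx, (one_mul x).symm⟩
  | one => exact ⟨1, one_mem _, 1, one_mem _, (mul_one 1).symm⟩
  | mul x y _ _ ihx ihy =>
    obtain ⟨u₁, hu₁, w₁, hw₁, rfl⟩ := ihx
    obtain ⟨u₂, hu₂, w₂, hw₂, rfl⟩ := ihy
    have h1 : w₁ * u₂ * w₁⁻¹ ∈ Z := (Subgroup.mem_normalizer_iff.mp (h hw₁) u₂).mp hu₂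
    refine ⟨u₁ * (w₁ * u₂ * w₁⁻¹), mul_mem hu₁ h1, w₁ * w₂, mul_mem hw₁ hw₂, ?_⟩
    group
  | inv x _ ihx =>
    obtain ⟨u₁, hu₁, w₁, hw₁, rfl⟩ := ihx
    have h1 : w₁⁻¹ * u₁⁻¹ * w₁⁻¹⁻¹ ∈ Z :=
      (Subgroup.mem_normalizer_iff.mp (h (inv_mem hw₁)) u₁⁻¹).mp (inv_mem hu₁)
    refine ⟨w₁⁻¹ * u₁⁻¹ * w₁⁻¹⁻¹, h1, w₁⁻¹, inv_mem hw₁, ?_⟩
    group

/-- normalizers grow in finite `p`-groups (subgroup form) -/
theorem exists_normalizing_not_mem {p : ℕ} [Fact p.Prime] {T B : Subgroup G} [Finite T]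
    (hT : IsPGroup p T) (hBT : B ≤ T) (hne : B ≠ T) :
    ∃ y ∈ T, y ∉ B ∧ y ∈ Subgroup.normalizer (B : Set G) := by
  have h := Cfsg.Agent.Lib.Helper87.card_lt_card_normalizerIn hT hBT hne
  by_contra hcon
  push Not at hcon
  have hle : Cfsg.FusionSystem.normalizerIn T B ≤ B := by
    intro y hy
    by_contra hyB
    exact hcon y hy.1 hyB hy.2
  haveI : Finite B := Finite.of_injective _ (Subgroup.inclusion_injective hBT)
  have := Subgroup.card_le_of_le hle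
  omega

theorem mem_normalizer_of_cm_mem [Finite G] {A : Subgroup G} {x : G}
    (h : ∀ a ∈ A, cm x a ∈ A) : x ∈ Subgroup.normalizer (A : Set G) := by
  have h1 : x⁻¹ ∈ Subgroup.normalizer (A : Set G) := by
    apply Cfsg.Agent.Lib.Helper11.mem_normalizer_of_conj_mem
    intro a ha
    have h2 := h a⁻¹ (inv_mem ha)
    have h3 : cm x a⁻¹ * a ∈ A := mul_mem h2 ha
    have e : cm x a⁻¹ * a = x⁻¹ * a * x⁻¹⁻¹ := by unfold cm; group
    rwa [e] at h3
  have := inv_mem h1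
  rwa [inv_inv] at this

theorem cm_mem_of_mem_normalizer {A : Subgroup G} {x a : G}
    (hx : x ∈ Subgroup.normalizer (A : Set G)) (ha : a ∈ A) : cm x a ∈ A := by
  have h1 : x⁻¹ ∈ Subgroup.normalizer (A : Set G) := inv_mem hx
  have h2 : x⁻¹ * a⁻¹ * x⁻¹⁻¹ ∈ A := (Subgroup.mem_normalizer_iff.mp h1 a⁻¹).mp (inv_mem ha)
  have e : cm x a = x⁻¹ * a⁻¹ * x⁻¹⁻¹ * a := by unfold cm; group
  rw [e]
  exact mul_mem h2 ha

/-- Among the abelian subgroups of largest order of the `p`-group `P` not contained in `H`, one is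
normalized by the abelian normal subgroup `Z` of `P` centralized by `H ≥ Z`. -/
theorem exists_maxAb_normalized_in [Finite G] {p : ℕ} [Fact p.Prime] {P Z H : Subgroup G}
    (hP : IsPGroup p P) (hZP : Z ≤ P) (hZc : ∀ z ∈ Z, ∀ z' ∈ Z, z * z' = z' * z)
    (hPZ : P ≤ Subgroup.normalizer (Z : Set G))
    (hHZ : ∀ h ∈ H, ∀ z ∈ Z, h * z = z * h)
    (hex : ∃ A ∈ maxAbIn P, ¬ A ≤ H) :
    ∃ A ∈ maxAbIn P, ¬ A ≤ H ∧ ∀ x ∈ Z, ∀ a ∈ A, cm x a ∈ A := by
  obtain ⟨A₁, hA₁, hA₁H⟩ := hex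
  haveI : Nonempty {A : Subgroup G // A ∈ maxAbIn P ∧ ¬ A ≤ H} := ⟨⟨A₁, hA₁, hA₁H⟩⟩
  obtain ⟨⟨A, hA, hAH⟩, hmax⟩ := Finite.exists_max
    (fun A : {A : Subgroup G // A ∈ maxAbIn P ∧ ¬ A ≤ H} => Nat.card (A.1 ⊓ Z : Subgroup G))
  refine ⟨A, hA, hAH, ?_⟩
  by_contra hcon
  push Not at hcon
  obtain ⟨x₀, hx₀Z, a₀, ha₀, hx₀a₀⟩ := hcon
  have hAP : A ≤ P := hA.1
  have hAc : ∀ a ∈ A, ∀ b ∈ A, a * b = b * a := (isMulComm_iff A).mp hA.2.1
  have hx₀N : x₀ ∉ Subgroup.normalizer (A : Set G) := fun h => hx₀a₀ (cm_mem_of_mem_normalizer h ha₀)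
  -- the subgroups `N`, `T`, `B`
  set N : Subgroup G := Z ⊓ Subgroup.normalizer (A : Set G) with hN
  have hBn : N ⊔ A ≤ Subgroup.normalizer (A : Set G) := sup_le inf_le_right Subgroup.le_normalizer
  have hTP : Z ⊔ A ≤ P := sup_le hZP hAP
  haveI : Finite (Z ⊔ A : Subgroup G) := inferInstance
  have hBT : N ⊔ A ≤ Z ⊔ A := sup_le (inf_le_left.trans le_sup_left) le_sup_right
  have hne : N ⊔ A ≠ Z ⊔ A := by
    intro h
    apply hx₀N
    apply hBn
    rw [h]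
    exact (le_sup_left : Z ≤ Z ⊔ A) hx₀Z
  obtain ⟨y, hyT, hyB, hyN⟩ := exists_normalizing_not_mem (hP.to_le hTP) hBT hne
  obtain ⟨x, hxZ, a₁, ha₁, rfl⟩ := mem_sup_of_le_normalizer Z A (hAP.trans hPZ) y hyT
  have ha₁B : a₁ ∈ N ⊔ A := (le_sup_right : A ≤ N ⊔ A) ha₁
  have hxNB : x ∈ Subgroup.normalizer ((N ⊔ A : Subgroup G) : Set G) := by
    have h1 := mul_mem hyN (inv_mem (Subgroup.le_normalizer ha₁B))
    have e : x * a₁ * a₁⁻¹ = x := by group
    rwa [e] at h1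
  have hxB : x ∉ N ⊔ A := fun h => hyB (mul_mem h ha₁B)
  have hxN : x ∉ N := fun h => hxB ((le_sup_left : N ≤ N ⊔ A) h)
  have hxnA : x ∉ Subgroup.normalizer (A : Set G) := fun h => hxN ⟨hxZ, h⟩
  -- `cm x a ∈ N`
  have hcmN : ∀ a ∈ A, cm x a ∈ N := by
    intro a ha
    have haB : a ∈ N ⊔ A := (le_sup_right : A ≤ N ⊔ A) ha
    refine ⟨?_, hBn (cm_mem_of_mem_normalizer hxNB haB)⟩
    show cm x a ∈ Z
    have h1 : a⁻¹ * x * a⁻¹⁻¹ ∈ Z :=
      (Subgroup.mem_normalizer_iff.mp (hPZ (hAP (A.inv_mem ha))) x).mp hxZ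
    have e : cm x a = x⁻¹ * (a⁻¹ * x * a⁻¹⁻¹) := by unfold cm; group
    rw [e]
    exact Z.mul_mem (Z.inv_mem hxZ) h1
  -- the replacement
  set M : Subgroup G := Subgroup.closure {y | ∃ a ∈ A, y = cm x a} with hM
  have hMN : M ≤ N := by
    rw [hM, Subgroup.closure_le]
    rintro y ⟨a, ha, rfl⟩
    exact hcmN a ha
  have hMZ : M ≤ Z := hMN.trans inf_le_left
  have hMc : ∀ m ∈ M, ∀ m' ∈ M, m * m' = m' * m := fun m hm m' hm' => hZc m (hMZ hm) m' (hMZ hm')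
  have hrep := replacement_key hA (hZP hxZ) M hM hMc
  set C : Subgroup G := A ⊓ Subgroup.centralizer (M : Set G) with hC
  -- `A ⊓ Z ≤ C`
  have hAZC : A ⊓ Z ≤ C := by
    intro y hy
    refine ⟨hy.1, ?_⟩
    show y ∈ Subgroup.centralizer (M : Set G)
    rw [Subgroup.mem_centralizer_iff]
    intro m hm
    exact hZc m (hMZ hm) y hy.2
  -- the new subgroup lies in `H`
  have hstarH : M ⊔ C ≤ H := by
    by_contra hnot
    have h1 := hmax ⟨M ⊔ C, hrep, hnot⟩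
    simp only at h1
    obtain ⟨a₂, ha₂, ha₂A⟩ : ∃ a ∈ A, cm x a ∉ A := by
      by_contra hall
      push Not at hall
      exact hxnA (mem_normalizer_of_cm_mem hall)
    have hle' : (A ⊓ Z : Subgroup G) ≤ (M ⊔ C) ⊓ Z := le_inf (hAZC.trans le_sup_right) inf_le_right
    have heq := Subgroup.eq_of_le_of_card_ge hle' h1
    have hmem : cm x a₂ ∈ (M ⊔ C) ⊓ Z :=
      ⟨(le_sup_left : M ≤ M ⊔ C) (Subgroup.subset_closure ⟨a₂, ha₂, rfl⟩), (hcmN a₂ ha₂).1⟩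
    rw [← heq] at hmem
    exact ha₂A hmem.1
  have hCH : C ≤ H := le_sup_right.trans hstarH
  have hCZ : ∀ c ∈ C, ∀ z ∈ Z, c * z = z * c := fun c hc z hz => hHZ c (hCH hc) z hz
  have hCc : ∀ a ∈ C, ∀ b ∈ C, a * b = b * a := fun a ha b hb => hAc a ha.1 b hb.1
  -- counting
  have hcardA : Nat.card (M ⊔ C : Subgroup G) = Nat.card A :=
    le_antisymm (hA.2.2 _ hrep.1 hrep.2.1) (hrep.2.2 _ hA.1 hA.2.1)
  have hMnC : M ≤ Subgroup.normalizer (C : Set G) := by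
    intro m hm
    have : m ∈ Subgroup.centralizer (C : Set G) := by
      rw [Subgroup.mem_centralizer_iff]
      intro c hc
      exact hCZ c hc m (hMZ hm)
    exact Subgroup.centralizer_le_normalizer _ this
  have hE1 := Cfsg.Agent.Lib.Helper11.card_sup_mul_card_inf M C hMnC
  have hinf1 : M ⊓ C = M ⊓ A := by
    apply le_antisymm
    · exact inf_le_inf_left _ inf_le_left
    · intro y hy
      exact ⟨hy.1, hAZC ⟨hy.2, hMZ hy.1⟩⟩
  rw [hinf1, hcardA] at hE1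
  have hZnC : Z ≤ Subgroup.normalizer (C : Set G) := by
    intro z hz
    have : z ∈ Subgroup.centralizer (C : Set G) := by
      rw [Subgroup.mem_centralizer_iff]
      intro c hc
      exact hCZ c hc z hz
    exact Subgroup.centralizer_le_normalizer _ this
  have hE2 := Cfsg.Agent.Lib.Helper11.card_sup_mul_card_inf Z C hZnC
  have hinf2 : Z ⊓ C = Z ⊓ A := by
    apply le_antisymm
    · exact inf_le_inf_left _ inf_le_left
    · intro y hy
      exact ⟨hy.1, hAZC ⟨hy.2, hy.1⟩⟩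
  rw [hinf2] at hE2
  have hZCab : IsMulCommutative (Z ⊔ C : Subgroup G) :=
    Cfsg.Agent.Lib.Helper11.isMulCommutative_sup_of_commute Z C hZc hCc
      (fun z hz c hc => (hCZ c hc z hz).symm)
  have hZCle : Nat.card (Z ⊔ C : Subgroup G) ≤ Nat.card A :=
    hA.2.2 _ (sup_le hZP (inf_le_left.trans hAP)) hZCab
  have hMnZA : M ≤ Subgroup.normalizer ((Z ⊓ A : Subgroup G) : Set G) := by
    intro m hm
    have : m ∈ Subgroup.centralizer ((Z ⊓ A : Subgroup G) : Set G) := by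
      rw [Subgroup.mem_centralizer_iff]
      intro c hc
      exact hZc c hc.1 m (hMZ hm)
    exact Subgroup.centralizer_le_normalizer _ this
  have hE3 := Cfsg.Agent.Lib.Helper11.card_sup_mul_card_inf M (Z ⊓ A) hMnZA
  have hinf3 : M ⊓ (Z ⊓ A) = M ⊓ A := by
    apply le_antisymm
    · exact inf_le_inf_left _ inf_le_right
    · intro y hy
      exact ⟨hy.1, hMZ hy.1, hy.2⟩
  rw [hinf3] at hE3
  have hd : 0 < Nat.card (M ⊓ A : Subgroup G) := Nat.card_pos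
  have hc : 0 < Nat.card C := Nat.card_pos
  have hle : M ⊔ (Z ⊓ A) ≤ Z := sup_le hMZ inf_le_left
  have hcardZ : Nat.card Z ≤ Nat.card (M ⊔ (Z ⊓ A) : Subgroup G) := by
    have h1 : Nat.card (M ⊓ A : Subgroup G) * (Nat.card (M ⊔ (Z ⊓ A) : Subgroup G) * Nat.card C) =
        Nat.card (M ⊓ A : Subgroup G) * (Nat.card A * Nat.card (Z ⊓ A : Subgroup G)) := by
      calc Nat.card (M ⊓ A : Subgroup G) * (Nat.card (M ⊔ (Z ⊓ A) : Subgroup G) * Nat.card C)
          = (Nat.card (M ⊔ (Z ⊓ A) : Subgroup G) * Nat.card (M ⊓ A : Subgroup G)) * Nat.card C := by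
            ring
        _ = (Nat.card M * Nat.card (Z ⊓ A : Subgroup G)) * Nat.card C := by rw [hE3]
        _ = (Nat.card M * Nat.card C) * Nat.card (Z ⊓ A : Subgroup G) := by ring
        _ = (Nat.card A * Nat.card (M ⊓ A : Subgroup G)) * Nat.card (Z ⊓ A : Subgroup G) := by
            rw [← hE1]
        _ = _ := by ring
    have h2 := Nat.eq_of_mul_eq_mul_left hd h1
    have h3 : Nat.card C * Nat.card Z ≤ Nat.card C * Nat.card (M ⊔ (Z ⊓ A) : Subgroup G) := by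
      calc Nat.card C * Nat.card Z = Nat.card Z * Nat.card C := by ring
        _ = Nat.card (Z ⊔ C : Subgroup G) * Nat.card (Z ⊓ A : Subgroup G) := hE2.symm
        _ ≤ Nat.card A * Nat.card (Z ⊓ A : Subgroup G) := Nat.mul_le_mul_right _ hZCle
        _ = Nat.card (M ⊔ (Z ⊓ A) : Subgroup G) * Nat.card C := h2.symm
        _ = _ := by ring
    exact Nat.le_of_mul_le_mul_left h3 hc
  have hZeq : M ⊔ (Z ⊓ A) = Z := Subgroup.eq_of_le_of_card_ge hle hcardZ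
  have hZN : Z ≤ N := by
    rw [← hZeq]
    exact sup_le hMN (fun y hy => ⟨hy.1, Subgroup.le_normalizer hy.2⟩)
  exact hxN (hZN hxZ)

end Cfsg.Agent.Lib.Helper51
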