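import Cfsg.Agent.Lib.Helper51.AgB

set_option autoImplicit false

/-!
# The dichotomy: `J(P) ≤ H` or some element outside `H` centralizes the `p`-th powers of `Z(H)`
-/

namespace Cfsg.Agent.Lib.Helper51

open Cfsg

variable {G : Type*} [Group G]

theorem exists_pow_mem_not_mem {p : ℕ} [Fact p.Prime] {P A H : Subgroup G} (hP : IsPGroup p P)
    (hAP : A ≤ P) (hAH : ¬ A ≤ H) : ∃ a ∈ A, a ∉ H ∧ a ^ p ∈ H := by
  obtain ⟨a₀, ha₀, ha₀H⟩ := SetLike.not_le_iff_exists.mp hAH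
  have hex : ∃ k : ℕ, a₀ ^ (p ^ k) ∈ H := by
    obtain ⟨n, hn⟩ := hP ⟨a₀, hAP ha₀⟩
    refine ⟨n, ?_⟩
    have : a₀ ^ (p ^ n) = 1 := by
      have := congrArg Subtype.val hn
      simpa using this
    rw [this]
    exact one_mem _
  classical
  have hk0 : Nat.find hex ≠ 0 := by
    intro h0
    have := Nat.find_spec hex
    rw [h0, pow_zero, pow_one] at this
    exact ha₀H this
  obtain ⟨j, hj⟩ := Nat.exists_eq_succ_of_ne_zero hk0
  refine ⟨a₀ ^ (p ^ j), pow_mem ha₀ _, ?_, ?_⟩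
  · exact Nat.find_min hex (by omega)
  · have := Nat.find_spec hex
    rw [hj, pow_succ, pow_mul] at this
    exact this

theorem conj_pow_of_quadratic {a z c : G} (hc : a⁻¹ * z * a = z * c) (hca : c * a = a * c)
    (k : ℕ) : (a ^ k)⁻¹ * z * a ^ k = z * c ^ k := by
  induction k with
  | zero => simp
  | succ k ih =>
    have hck : a⁻¹ * c ^ k * a = c ^ k := by
      have h1 : Commute (c ^ k) a := (show Commute c a from hca).pow_left k
      calc a⁻¹ * c ^ k * a = a⁻¹ * (c ^ k * a) := by group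
        _ = a⁻¹ * (a * c ^ k) := by rw [h1.eq]
        _ = c ^ k := by group
    calc (a ^ (k + 1))⁻¹ * z * a ^ (k + 1) = a⁻¹ * ((a ^ k)⁻¹ * z * a ^ k) * a := by
          rw [pow_succ]; group
      _ = a⁻¹ * (z * c ^ k) * a := by rw [ih]
      _ = (a⁻¹ * z * a) * (a⁻¹ * c ^ k * a) := by group
      _ = z * c * c ^ k := by rw [hc, hck]
      _ = z * c ^ (k + 1) := by rw [pow_succ']; group

/-- If `a` acts quadratically on `z` (with `[z, a]` commuting with both) and `a ^ p` centralizes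
`z`, then `a` centralizes `z ^ p`. -/
theorem commute_pow_of_quadratic {a z c : G} {p : ℕ} (hc : a⁻¹ * z * a = z * c)
    (hca : c * a = a * c) (hcz : c * z = z * c) (hap : a ^ p * z = z * a ^ p) :
    a * z ^ p = z ^ p * a := by
  have h1 := conj_pow_of_quadratic hc hca p
  have h2 : (a ^ p)⁻¹ * z * a ^ p = z := by
    calc (a ^ p)⁻¹ * z * a ^ p = (a ^ p)⁻¹ * (z * a ^ p) := by group
      _ = (a ^ p)⁻¹ * (a ^ p * z) := by rw [hap]
      _ = z := by group
  rw [h2] at h1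
  have hcp : c ^ p = 1 := by
    have : z * 1 = z * c ^ p := by rw [mul_one]; exact h1
    exact (mul_left_cancel this).symm
  have h3 : a⁻¹ * z ^ p * a = z ^ p := by
    have e1 : a⁻¹ * z ^ p * a = (a⁻¹ * z * a) ^ p := by
      have := conj_pow (a := a⁻¹) (b := z) (i := p)
      rw [inv_inv] at this
      exact this.symm
    rw [e1, hc, (show Commute z c from hcz.symm).mul_pow, hcp, mul_one]
  calc a * z ^ p = a * (a⁻¹ * z ^ p * a) := by rw [h3]
    _ = z ^ p * a := by group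

/-- The dichotomy. -/
theorem thompson_dichotomy [Finite G] {p : ℕ} [Fact p.Prime] {P H : Subgroup G}
    (hP : IsPGroup p P) (hHP : H ≤ P) (hPH : P ≤ Subgroup.normalizer (H : Set G)) :
    thompsonSubgroupAOf P ≤ H ∨
      ∃ a ∈ P, a ∉ H ∧ ∀ z ∈ zIn H, a * z ^ p = z ^ p * a := by
  by_cases hJ : thompsonSubgroupAOf P ≤ H
  · exact Or.inl hJ
  right
  have hex : ∃ A ∈ maxAbIn P, ¬ A ≤ H := by
    by_contra hcon
    push Not at hcon
    apply hJ
    rw [thompsonAOf_eq_sSup]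
    exact sSup_le hcon
  have hZP : zIn H ≤ P := (zIn_le H).trans hHP
  have hZc : ∀ z ∈ zIn H, ∀ z' ∈ zIn H, z * z' = z' * z := (isMulComm_iff _).mp (zIn_isMulComm H)
  have hPZ : P ≤ Subgroup.normalizer (zIn H : Set G) := hPH.trans (normalizer_le_normalizer_zIn H)
  have hHZ : ∀ h ∈ H, ∀ z ∈ zIn H, h * z = z * h := fun h hh z hz => (mem_zIn.mp hz).2 h hh
  obtain ⟨A, hA, hAH, hquad⟩ := exists_maxAb_normalized_in hP hZP hZc hPZ hHZ hex
  have hAc : ∀ a ∈ A, ∀ b ∈ A, a * b = b * a := (isMulComm_iff A).mp hA.2.1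
  obtain ⟨a, haA, haH, hapH⟩ := exists_pow_mem_not_mem hP hA.1 hAH
  refine ⟨a, hA.1 haA, haH, ?_⟩
  intro z hz
  have hcA : cm z a ∈ A := hquad z hz a haA
  have hcZ : cm z a ∈ zIn H := by
    have h1 : a⁻¹ * z * a⁻¹⁻¹ ∈ zIn H :=
      (Subgroup.mem_normalizer_iff.mp (hPZ (hA.1 (A.inv_mem haA))) z).mp hz
    have e : cm z a = z⁻¹ * (a⁻¹ * z * a⁻¹⁻¹) := by unfold cm; group
    rw [e]
    exact (zIn H).mul_mem ((zIn H).inv_mem hz) h1
  apply commute_pow_of_quadratic (c := cm z a)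
  · unfold cm; group
  · exact hAc _ hcA _ haA
  · exact hZc _ hcZ _ hz
  · exact hHZ _ hapH z hz

end Cfsg.Agent.Lib.Helper51
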