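import Cfsg.Agent.Lib.Helper54.FusFix

set_option autoImplicit false

/-!
# Alperin's fusion theorem as a membership principle
-/

namespace Cfsg.Agent.Lib.Helper51

open Cfsg Cfsg.FusionSystem Cfsg.Agent.Lib.Helper87 Cfsg.Agent.Lib.Helper54.FusFix

variable {Ω : Type*} [Group Ω] {S : Subgroup Ω}

/-- If the automorphisms of the members `U` of a conjugation family lie in `E` as soon as all the maps
defined on larger subgroups do, then every map of `F` lies in `E`. -/
theorem mem_propagation [Finite S] {p : ℕ} [Fact p.Prime] (hS : IsPGroup p S) (F : FusionSystem S)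
    {T : Subgroup Ω} (E : FusionSystem T) (𝒰 : Set (Subgroup Ω))
    (h𝒰 : ∀ P : Subgroup Ω, P ≤ S → ∃ U ∈ 𝒰, F.IsConj P U ∧ F.IsFullyAutomized p U ∧ F.IsReceptive U)
    (hstep : ∀ U ∈ 𝒰, (∀ (P' : Subgroup Ω) (φ' : P' →* Ω), φ' ∈ F.Hom P' →
        Nat.card U < Nat.card P' → φ' ∈ E.Hom P') →
      ∀ ψ : U →* Ω, ψ ∈ F.Hom U → ψ.range = U → ψ ∈ E.Hom U) :
    ∀ (P : Subgroup Ω) (φ : P →* Ω), φ ∈ F.Hom P → φ ∈ E.Hom P := by
  have key : ∀ n : ℕ, ∀ (P : Subgroup Ω), Nat.card S - Nat.card P = n → ∀ (φ : P →* Ω),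
      φ ∈ F.Hom P → φ ∈ E.Hom P := by
    intro n
    induction n using Nat.strong_induction_on with
    | _ n ih =>
    intro P hn φ hφ
    have hP : P ≤ S := hom_le F hφ
    haveI hfinP : Finite P := finite_of_le hP
    have hcardP : Nat.card P ≤ Nat.card S := Subgroup.card_le_of_le hP
    have big : ∀ (P' : Subgroup Ω) (φ' : P' →* Ω), φ' ∈ F.Hom P' →
        Nat.card P < Nat.card P' → φ' ∈ E.Hom P' := by
      intro P' φ' hφ' hlt
      have hP' : P' ≤ S := hom_le F hφ'
      have : Nat.card P' ≤ Nat.card S := Subgroup.card_le_of_le hP'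
      exact ih (Nat.card S - Nat.card P') (by omega) P' rfl φ' hφ'
    obtain ⟨U, hU𝒰, hc, hfa, hrec⟩ := h𝒰 P hP
    have hcardU : Nat.card U = Nat.card P := (card_eq_of_isConj F hc).symm
    have hautU : ∀ ψ : U →* Ω, ψ ∈ F.Hom U → ψ.range = U → ψ ∈ E.Hom U :=
      hstep U hU𝒰 (fun P' φ' hφ' hlt => big P' φ' hφ' (hcardU ▸ hlt))
    by_cases hPS : P = S
    · subst hPS
      have hUS : U = P := eq_top_of_isConj_top F hc
      subst hUS
      have hr : φ.range = U := range_eq_of_forall_mem F hφ (fun u => hom_mem_S F hφ u)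
      exact hautU φ hφ hr
    · have hcP' : F.IsConj P φ.range := ⟨φ, hφ, rfl⟩
      have hP'S : φ.range ≤ S := range_le F hφ
      have hcard' : Nat.card φ.range = Nat.card P := (card_eq_of_isConj F hcP').symm
      have hP'ne : φ.range ≠ S := by
        intro h
        apply hPS
        apply Subgroup.eq_of_le_of_card_ge hP
        rw [← hcard', h]
      have hc' : F.IsConj φ.range U := isConj_trans F (isConj_symm F hcP') hc
      obtain ⟨χ, hχ, hχN, hχP, hχU⟩ := exists_normalizer_map hS F hfa hrec hc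
      obtain ⟨χ', hχ', hχ'N, hχ'P, hχ'U⟩ := exists_normalizer_map hS F hfa hrec hc'
      have hlt : Nat.card P < Nat.card (normalizerIn S P) := card_lt_card_normalizerIn hS hP hPS
      have hlt' : Nat.card P < Nat.card (normalizerIn S φ.range) := by
        rw [← hcard']; exact card_lt_card_normalizerIn hS hP'S hP'ne
      have hPN : P ≤ normalizerIn S P := le_normalizerIn hP
      have hP'N : φ.range ≤ normalizerIn S φ.range := le_normalizerIn hP'S
      have hχE : χ ∈ E.Hom _ := big _ χ hχ hlt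
      have hχ'E : χ' ∈ E.Hom _ := big _ χ' hχ' hlt'
      -- restrictions
      have hχPF : χ.comp (Subgroup.inclusion hPN) ∈ F.Hom P := restrict_mem F hχ hPN
      have hχPE : χ.comp (Subgroup.inclusion hPN) ∈ E.Hom P := restrict_mem E hχE hPN
      have hχPr : (χ.comp (Subgroup.inclusion hPN)).range = U := by
        apply le_antisymm
        · rintro _ ⟨y, rfl⟩
          exact hχP ⟨y, hPN y.2⟩ y.2
        · intro q hq
          obtain ⟨y, hyP, hy⟩ := hχU q hq
          exact ⟨⟨y, hyP⟩, hy⟩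
      have hχ'PF : χ'.comp (Subgroup.inclusion hP'N) ∈ F.Hom φ.range := restrict_mem F hχ' hP'N
      have hχ'PE : χ'.comp (Subgroup.inclusion hP'N) ∈ E.Hom φ.range := restrict_mem E hχ'E hP'N
      have hχ'Pr : (χ'.comp (Subgroup.inclusion hP'N)).range = U := by
        apply le_antisymm
        · rintro _ ⟨y, rfl⟩
          exact hχ'P ⟨y, hP'N y.2⟩ y.2
        · intro q hq
          obtain ⟨y, hyP, hy⟩ := hχ'U q hq
          exact ⟨⟨y, hyP⟩, hy⟩
      -- inverses in `F`
      obtain ⟨ψ₁, hψ₁, hψ₁inv, hψ₁r⟩ := inv_exists F hχPF hχPr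
      have hψ₁P : ∀ u : U, ψ₁ u ∈ P := fun u => hψ₁r ▸ ⟨u, rfl⟩
      -- the automorphism of `U`
      have hα₁ := F.comp_mem hψ₁ hφ hψ₁P
      have hα₁r : ∀ u : U, (φ.comp (ψ₁.codRestrict P hψ₁P)) u ∈ φ.range := fun u => ⟨_, rfl⟩
      have hα := F.comp_mem hα₁ hχ'PF hα₁r
      have hαU : ∀ u : U, ((χ'.comp (Subgroup.inclusion hP'N)).comp
          ((φ.comp (ψ₁.codRestrict P hψ₁P)).codRestrict φ.range hα₁r)) u ∈ U := by
        intro u
        exact hχ'P _ (hα₁r u)
      have hαr := range_eq_of_forall_mem F hα hαU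
      have hαE := hautU _ hα hαr
      -- inverse of `χ'` restricted, in `E`
      obtain ⟨ψ₂, hψ₂, hψ₂inv, hψ₂r⟩ := inv_exists E hχ'PE hχ'Pr
      -- compose in `E`
      have hm1 : ∀ x : P, (χ.comp (Subgroup.inclusion hPN)) x ∈ U := fun x => hχP ⟨x, hPN x.2⟩ x.2
      have hc1 := E.comp_mem hχPE hαE hm1
      have hm2 : ∀ x : P, (((χ'.comp (Subgroup.inclusion hP'N)).comp
          ((φ.comp (ψ₁.codRestrict P hψ₁P)).codRestrict φ.range hα₁r)).comp
          ((χ.comp (Subgroup.inclusion hPN)).codRestrict U hm1)) x ∈ U := fun x => hαU _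
      have hc2 := E.comp_mem hc1 hψ₂ hm2
      have e : ψ₂.comp ((((χ'.comp (Subgroup.inclusion hP'N)).comp
          ((φ.comp (ψ₁.codRestrict P hψ₁P)).codRestrict φ.range hα₁r)).comp
          ((χ.comp (Subgroup.inclusion hPN)).codRestrict U hm1)).codRestrict U hm2) = φ := by
        ext x
        have h1 : ψ₁ ((χ.comp (Subgroup.inclusion hPN)).codRestrict U hm1 x) = x :=
          hψ₁inv x (hm1 x)
        have h2 : (ψ₁.codRestrict P hψ₁P) ((χ.comp (Subgroup.inclusion hPN)).codRestrict U hm1 x) = x :=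
          Subtype.ext h1
        show ψ₂ ⟨χ' (Subgroup.inclusion hP'N ⟨φ ((ψ₁.codRestrict P hψ₁P)
          ((χ.comp (Subgroup.inclusion hPN)).codRestrict U hm1 x)), _⟩), _⟩ = φ x
        have h3 : ψ₂ ⟨(χ'.comp (Subgroup.inclusion hP'N)) ⟨φ x, ⟨x, rfl⟩⟩, hχ'P _ ⟨x, rfl⟩⟩ = φ x :=
          hψ₂inv ⟨φ x, ⟨x, rfl⟩⟩ (hχ'P _ ⟨x, rfl⟩)
        refine Eq.trans ?_ h3
        congr 1
        apply Subtype.ext
        show χ' (Subgroup.inclusion hP'N ⟨φ ((ψ₁.codRestrict P hψ₁P)
          ((χ.comp (Subgroup.inclusion hPN)).codRestrict U hm1 x)), _⟩) =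
          (χ'.comp (Subgroup.inclusion hP'N)) ⟨φ x, ⟨x, rfl⟩⟩
        show χ' _ = χ' _
        congr 1
        apply Subtype.ext
        show φ ((ψ₁.codRestrict P hψ₁P) ((χ.comp (Subgroup.inclusion hPN)).codRestrict U hm1 x)) = φ x
        rw [h2]
      rw [e] at hc2
      exact hc2
  intro P φ hφ
  exact key _ P rfl φ hφ

end Cfsg.Agent.Lib.Helper51
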