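import Cfsg.Agent.Lib.Helper51.AgC
import Cfsg.Agent.Lib.Helper85.Realized
import Cfsg.Agent.Lib.Helper32.PPrimeP

set_option autoImplicit false

/-!
# Models of constrained fusion systems: the dichotomy and the Frattini factorization
-/

namespace Cfsg.Agent.Lib.Helper51

open Cfsg Cfsg.FusionSystem Cfsg.Agent.Lib.Helper87
open Cfsg.Agent.Lib.Helper88 (preN mem_preN preN_le preN_mem liftConj liftConj_mem ι_liftConj ι_eq)

variable {Ω : Type*} [Group Ω] {S : Subgroup Ω} {G : Type*} [Group G]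

/-- the set of `p`-th powers of the elements of the centre of `H` -/
def zpw (p : ℕ) {X : Type*} [Group X] (H : Subgroup X) : Set X := {y | ∃ z ∈ zIn H, y = z ^ p}

theorem model_core_isNormal [Finite S] {p : ℕ} [Fact p.Prime] {F : FusionSystem S} {ι : S →* G}
    (hM : F.IsModel p G ι) : F.IsNormal (preN ι (pCore p G)) := by
  haveI : Finite G := hM.1
  obtain ⟨T, hT⟩ := hM.2.2.1
  exact Cfsg.Agent.Lib.Helper85.Rz.preN_isNormal hM.2.1 (pCore p G)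
    (Cfsg.Agent.Lib.Helper84.pCore_normal p G) (hT ▸ Cfsg.Agent.Lib.Helper84.pCore_le_sylow T)

/-- image of the centre of the core -/
theorem ι_mem_zIn_pCore [Finite S] {p : ℕ} [Fact p.Prime] {F : FusionSystem S} {ι : S →* G}
    (hM : F.IsModel p G ι) {z : Ω} (hz : z ∈ zIn (preN ι (pCore p G))) :
    ι ⟨z, preN_le ι _ (zIn_le _ hz)⟩ ∈ zIn (pCore p G) := by
  haveI : Finite G := hM.1
  obtain ⟨T, hT⟩ := hM.2.2.1
  have hHP : pCore p G ≤ ι.range := hT ▸ Cfsg.Agent.Lib.Helper84.pCore_le_sylow T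
  rw [mem_zIn]
  refine ⟨preN_mem ι _ (zIn_le _ hz), ?_⟩
  intro y hy
  obtain ⟨s, rfl⟩ := hHP hy
  have hs : (s : Ω) ∈ preN ι (pCore p G) := mem_preN.mpr ⟨s.2, by simpa using hy⟩
  have h1 := (mem_zIn.mp hz).2 s hs
  rw [← map_mul, ← map_mul]
  congr 1
  exact Subtype.ext h1

theorem exists_of_mem_zIn_pCore [Finite S] {p : ℕ} [Fact p.Prime] {F : FusionSystem S}
    {ι : S →* G} (hM : F.IsModel p G ι) {w : G} (hw : w ∈ zIn (pCore p G)) :
    ∃ (z : Ω) (hz : z ∈ zIn (preN ι (pCore p G))), ι ⟨z, preN_le ι _ (zIn_le _ hz)⟩ = w := by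
  haveI : Finite G := hM.1
  obtain ⟨T, hT⟩ := hM.2.2.1
  have hHP : pCore p G ≤ ι.range := hT ▸ Cfsg.Agent.Lib.Helper84.pCore_le_sylow T
  obtain ⟨s, rfl⟩ := hHP (zIn_le _ hw)
  have hs : (s : Ω) ∈ preN ι (pCore p G) := mem_preN.mpr ⟨s.2, by simpa using zIn_le _ hw⟩
  have hz : (s : Ω) ∈ zIn (preN ι (pCore p G)) := by
    rw [mem_zIn]
    refine ⟨hs, ?_⟩
    intro y hy
    have h1 := (mem_zIn.mp hw).2 _ (preN_mem ι _ hy)
    rw [← map_mul, ← map_mul] at h1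
    exact congrArg (fun t : S => (t : Ω)) (hM.2.1.1 h1)
  exact ⟨s, hz, rfl⟩

/-- The dichotomy in a model, pulled back to `S`. -/
theorem model_dichotomy [Finite S] {p : ℕ} [Fact p.Prime] {F : FusionSystem S}
    {ι : S →* G} (hM : F.IsModel p G ι) :
    thompsonSubgroupAOf S ≤ preN ι (pCore p G) ∨
      ∃ a ∈ S, a ∉ preN ι (pCore p G) ∧ ∀ y ∈ zpw p (preN ι (pCore p G)), a * y = y * a := by
  haveI : Finite G := hM.1
  obtain ⟨T, hT⟩ := hM.2.2.1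
  have hinj := hM.2.1.1
  have hPp : IsPGroup p ι.range := hT ▸ T.isPGroup'
  have hHP : pCore p G ≤ ι.range := hT ▸ Cfsg.Agent.Lib.Helper84.pCore_le_sylow T
  have hn : (pCore p G).Normal := Cfsg.Agent.Lib.Helper84.pCore_normal p G
  have hPH : ι.range ≤ Subgroup.normalizer ((pCore p G : Subgroup G) : Set G) := by
    rw [Subgroup.normalizer_eq_top_iff.mpr hn]; exact le_top
  rcases thompson_dichotomy hPp hHP hPH with h | ⟨a, haP, haH, hcomm⟩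
  · left
    rintro x ⟨s, hs, rfl⟩
    refine mem_preN.mpr ⟨s.2, ?_⟩
    apply h
    rw [← thompsonA_map_range ι hinj]
    exact ⟨s, hs, by simp⟩
  · right
    obtain ⟨s, rfl⟩ := haP
    refine ⟨s, s.2, ?_, ?_⟩
    · intro hs
      apply haH
      have := preN_mem ι _ hs
      simpa using this
    · rintro y ⟨z, hz, rfl⟩
      have h1 := hcomm _ (ι_mem_zIn_pCore hM hz)
      rw [← map_pow, ← map_mul, ← map_mul] at h1
      exact congrArg (fun t : S => (t : Ω)) (hinj h1)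

/-- The Frattini factorization in a model: an automorphism of the core `H` is the composite of a
map fixing the `p`-th powers of `Z(H)` and a map extending to `C_S` of these `p`-th powers. -/
theorem model_frattini [Finite S] {p : ℕ} [Fact p.Prime] {F : FusionSystem S}
    {ι : S →* G} (hM : F.IsModel p G ι) (H' : Subgroup Ω) (hH' : H' = preN ι (pCore p G))
    (φ : ↥H' →* Ω) (hφ : φ ∈ F.Hom H') :
    ∃ (β : ↥H' →* Ω) (γ : ↥(S ⊓ Subgroup.centralizer (zpw p H')) →* Ω),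
      β ∈ F.Hom _ ∧ (∀ x, β x ∈ H') ∧
      (∀ y ∈ zpw p H', ∀ hy : y ∈ H', β ⟨y, hy⟩ = y) ∧
      γ ∈ F.Hom _ ∧
      ∀ x : ↥H', ∃ hx : β x ∈ S ⊓ Subgroup.centralizer (zpw p H'), φ x = γ ⟨β x, hx⟩ := by
  haveI : Finite G := hM.1
  obtain ⟨T, hT⟩ := hM.2.2.1
  obtain ⟨hinj, hiff⟩ := hM.2.1
  have hHP : pCore p G ≤ ι.range := hT ▸ Cfsg.Agent.Lib.Helper84.pCore_le_sylow T
  haveI hn : (pCore p G).Normal := Cfsg.Agent.Lib.Helper84.pCore_normal p G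
  have hH'S : H' ≤ S := hH' ▸ preN_le ι _
  have hmemH : ∀ (x : Ω) (hx : x ∈ H'), ι ⟨x, hH'S hx⟩ ∈ pCore p G := by
    intro x hx
    have hx' : x ∈ preN ι (pCore p G) := hH' ▸ hx
    exact preN_mem ι _ hx'
  have hofmem : ∀ s : S, ι s ∈ pCore p G → (s : Ω) ∈ H' := by
    intro s hs
    rw [hH']
    exact mem_preN.mpr ⟨s.2, by simpa using hs⟩
  have hzI : ∀ (z : Ω) (hz : z ∈ zIn H'), ι ⟨z, hH'S (zIn_le _ hz)⟩ ∈ zIn (pCore p G) := by
    intro z hz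
    have hz' : z ∈ zIn (preN ι (pCore p G)) := hH' ▸ hz
    exact ι_mem_zIn_pCore hM hz'
  have hzE : ∀ w ∈ zIn (pCore p G), ∃ (z : Ω) (hz : z ∈ zIn H'), ι ⟨z, hH'S (zIn_le _ hz)⟩ = w := by
    intro w hw
    obtain ⟨z, hz, hzw⟩ := exists_of_mem_zIn_pCore hM hw
    exact ⟨z, hH' ▸ hz, hzw⟩
  -- the normal subgroup `K`
  have hZn : ∀ (g : G), ∀ w ∈ zpw p (pCore p G), g * w * g⁻¹ ∈ zpw p (pCore p G) := by
    rintro g w ⟨z, hz, rfl⟩
    refine ⟨g * z * g⁻¹, ?_, (conj_pow (a := g) (b := z) (i := p)).symm⟩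
    have h1 : g ∈ Subgroup.normalizer ((pCore p G : Subgroup G) : Set G) := by
      rw [Subgroup.normalizer_eq_top_iff.mpr hn]; exact Subgroup.mem_top g
    have h2 := normalizer_le_normalizer_zIn (pCore p G) h1
    exact (Subgroup.mem_normalizer_iff.mp h2 z).mp hz
  obtain ⟨K, hK⟩ : ∃ K : Subgroup G, K = Subgroup.centralizer (zpw p (pCore p G)) := ⟨_, rfl⟩
  have hKmem : ∀ k : G, k ∈ K ↔ ∀ w ∈ zpw p (pCore p G), w * k = k * w := by
    intro k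
    rw [hK, Subgroup.mem_centralizer_iff]
  haveI hKn : K.Normal := by
    constructor
    intro k hk g
    rw [hKmem] at hk ⊢
    intro w hw
    have h1 := hk _ (hZn g⁻¹ w hw)
    rw [inv_inv] at h1
    calc w * (g * k * g⁻¹) = g * ((g⁻¹ * w * g) * k) * g⁻¹ := by group
      _ = g * (k * (g⁻¹ * w * g)) * g⁻¹ := by rw [h1]
      _ = g * k * g⁻¹ * w := by group
  -- the Sylow subgroup of `K`
  have hidx : ¬ p ∣ (((T : Subgroup G) ⊓ K).subgroupOf K).index :=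
    Cfsg.Agent.Lib.Helper32.not_dvd_relIndex_inf_normal T K
  have hpg : IsPGroup p (((T : Subgroup G) ⊓ K).subgroupOf K) :=
    (T.isPGroup'.to_le inf_le_left).comap_subtype
  have hfr := Sylow.normalizer_sup_eq_top (hpg.toSylow hidx)
  have hmap : Subgroup.map K.subtype ((hpg.toSylow hidx : Sylow p K) : Subgroup K) = ι.range ⊓ K := by
    show Subgroup.map K.subtype (((T : Subgroup G) ⊓ K).subgroupOf K) = ι.range ⊓ K
    rw [Subgroup.subgroupOf_map_subtype, hT, inf_assoc, inf_idem]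
  rw [hmap] at hfr
  -- the element realizing `φ`
  obtain ⟨g, hg⟩ := (hiff H' hH'S φ (hom_mem_S F hφ)).mp hφ
  have hgmem : g ∈ Subgroup.normalizer ((ι.range ⊓ K : Subgroup G) : Set G) ⊔ K := by
    rw [hfr]; exact Subgroup.mem_top g
  obtain ⟨n, hn', k, hk, rfl⟩ := Subgroup.mem_sup_of_normal_right.mp hgmem
  -- `X`
  obtain ⟨X, hX⟩ : ∃ X : Subgroup Ω, X = S ⊓ Subgroup.centralizer (zpw p H') := ⟨_, rfl⟩
  have hXS : X ≤ S := hX ▸ inf_le_left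
  have hXc : ∀ x ∈ X, ∀ y ∈ zpw p H', y * x = x * y := by
    intro x hx y hy
    rw [hX] at hx
    exact Subgroup.mem_centralizer_iff.mp hx.2 y hy
  have hιX : ∀ x : X, ι ⟨x, hXS x.2⟩ ∈ ι.range ⊓ K := by
    intro x
    refine ⟨⟨_, rfl⟩, ?_⟩
    refine (hKmem _).mpr ?_
    rintro w ⟨z', hz', rfl⟩
    obtain ⟨z, hz, rfl⟩ := hzE z' hz'
    have h1 : z ^ p * (x : Ω) = (x : Ω) * z ^ p := hXc x x.2 _ ⟨z, hz, rfl⟩
    rw [← map_pow, ← map_mul, ← map_mul]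
    congr 1
    exact Subtype.ext h1
  have hXmem : ∀ s : S, ι s ∈ K → (s : Ω) ∈ X := by
    intro s hs
    rw [hX]
    refine ⟨s.2, ?_⟩
    refine Subgroup.mem_centralizer_iff.mpr ?_
    rintro y ⟨z, hz, rfl⟩
    have h1 := (hKmem _).mp hs _ ⟨_, hzI z hz, rfl⟩
    rw [← map_pow, ← map_mul, ← map_mul] at h1
    exact congrArg (fun t : S => (t : Ω)) (hinj h1)
  -- `β`
  have hkH : ∀ x : H', k * ι ⟨x, hH'S x.2⟩ * k⁻¹ ∈ ι.range :=
    fun x => hHP (hn.conj_mem _ (hmemH x x.2) k)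
  have hβF : liftConj ι hinj hH'S k hkH ∈ F.Hom H' :=
    (hiff _ hH'S _ (liftConj_mem ι hinj hH'S k hkH)).mpr
      ⟨k, fun x => ι_liftConj ι hinj hH'S k hkH x _⟩
  have hβH : ∀ x : H', liftConj ι hinj hH'S k hkH x ∈ H' := by
    intro x
    have := hofmem ⟨liftConj ι hinj hH'S k hkH x, liftConj_mem ι hinj hH'S k hkH x⟩ (by
      rw [ι_liftConj ι hinj hH'S k hkH x _]
      exact hn.conj_mem _ (hmemH x x.2) k)
    exact this
  -- `γ`
  have hnX : ∀ x : X, n * ι ⟨x, hXS x.2⟩ * n⁻¹ ∈ ι.range ⊓ K :=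
    fun x => (Subgroup.mem_normalizer_iff.mp hn' _).mp (hιX x)
  have hnX' : ∀ x : X, n * ι ⟨x, hXS x.2⟩ * n⁻¹ ∈ ι.range := fun x => (hnX x).1
  have hγF : liftConj ι hinj hXS n hnX' ∈ F.Hom X :=
    (hiff _ hXS _ (liftConj_mem ι hinj hXS n hnX')).mpr
      ⟨n, fun x => ι_liftConj ι hinj hXS n hnX' x _⟩
  have hH'X : H' ≤ X := by
    intro x hx
    apply hXmem ⟨x, hH'S hx⟩
    refine (hKmem _).mpr ?_
    rintro w ⟨z', hz', rfl⟩
    have h1 := (mem_zIn.mp hz').2 _ (hmemH x hx)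
    exact ((show Commute (ι ⟨x, hH'S hx⟩) z' from h1).pow_right p).eq.symm
  subst hX
  refine ⟨liftConj ι hinj hH'S k hkH, liftConj ι hinj hXS n hnX', hβF, hβH, ?_, hγF, ?_⟩
  · rintro y ⟨z, hz, rfl⟩ hy
    apply ι_eq ι hinj (ha := liftConj_mem ι hinj hH'S k hkH _) (hb := hH'S hy)
    rw [ι_liftConj ι hinj hH'S k hkH _ _]
    have h1 : (⟨z ^ p, hH'S hy⟩ : S) = ⟨z, hH'S (zIn_le _ hz)⟩ ^ p := Subtype.ext rfl
    have h2 := (hKmem _).mp hk _ ⟨_, hzI z hz, rfl⟩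
    show k * ι ⟨z ^ p, _⟩ * k⁻¹ = ι ⟨z ^ p, _⟩
    rw [h1, map_pow]
    calc k * ι ⟨z, _⟩ ^ p * k⁻¹ = (ι ⟨z, _⟩ ^ p * k) * k⁻¹ := by rw [h2]
      _ = ι ⟨z, _⟩ ^ p := by group
  · intro x
    refine ⟨hH'X (hβH x), ?_⟩
    apply ι_eq ι hinj (ha := hom_mem_S F hφ x) (hb := liftConj_mem ι hinj hXS n hnX' _)
    rw [hg x, ι_liftConj ι hinj hXS n hnX' _ _]
    have h3 : ι ⟨liftConj ι hinj hH'S k hkH x, hXS (hH'X (hβH x))⟩ = k * ι ⟨x, hH'S x.2⟩ * k⁻¹ :=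
      ι_liftConj ι hinj hH'S k hkH x _
    show n * k * ι ⟨x, _⟩ * (n * k)⁻¹ = n * ι ⟨liftConj ι hinj hH'S k hkH x, _⟩ * n⁻¹
    rw [h3]
    group

end Cfsg.Agent.Lib.Helper51
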