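import Cfsg.Agent.Lib.Helper51.AgB

set_option autoImplicit false

/-!
# Tools: the Thompson subgroup in a possibly infinite ambient group, normalizer growth, a measure
-/

namespace Cfsg.Agent.Lib.Helper51

open Cfsg

variable {G : Type*} [Group G]

theorem mem_image_maxAb_iff' (P X : Subgroup G) :
    X ∈ (Set.image (fun A : Subgroup ↥P => A.map P.subtype) (Cfsg.maxAbelianSubgroups ↥P)) ↔
      X ∈ maxAbIn P := by
  constructor
  · rintro ⟨A', ⟨hA'c, hA'max⟩, rfl⟩
    refine ⟨Subgroup.map_subtype_le A', isMulComm_map _ hA'c, ?_⟩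
    intro Y hYP hYc
    have h1 : IsMulCommutative (Y.subgroupOf P) :=
      isMulComm_comap_of_injective _ P.subtype_injective hYc
    have h2 := hA'max _ h1
    have h3 : Nat.card (Y.subgroupOf P) = Nat.card Y :=
      Nat.card_congr (Subgroup.subgroupOfEquivOfLe hYP).toEquiv
    have h4 : Nat.card (A'.map P.subtype) = Nat.card A' :=
      Subgroup.card_map_of_injective P.subtype_injective
    rw [h4, ← h3]; exact h2
  · rintro ⟨hXP, hXc, hXmax⟩
    refine ⟨X.subgroupOf P, ⟨?_, ?_⟩, Subgroup.map_subgroupOf_eq_of_le hXP⟩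
    · exact isMulComm_comap_of_injective _ P.subtype_injective hXc
    · intro B' hB'c
      have h1 : IsMulCommutative (B'.map P.subtype) := isMulComm_map _ hB'c
      have h2 := hXmax _ (Subgroup.map_subtype_le B') h1
      have h3 : Nat.card (X.subgroupOf P) = Nat.card X :=
        Nat.card_congr (Subgroup.subgroupOfEquivOfLe hXP).toEquiv
      have h4 : Nat.card (B'.map P.subtype) = Nat.card B' :=
        Subgroup.card_map_of_injective P.subtype_injective
      rw [h3, ← h4]; exact h2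

theorem thompsonAOf_eq_sSup' (P : Subgroup G) :
    thompsonSubgroupAOf P = sSup (maxAbIn P) := by
  unfold thompsonSubgroupAOf thompsonSubgroupA
  apply le_antisymm
  · rw [Subgroup.map_le_iff_le_comap]
    apply sSup_le
    intro A hA
    rw [← Subgroup.map_le_iff_le_comap]
    apply le_sSup
    rw [← mem_image_maxAb_iff']
    exact ⟨A, hA, rfl⟩
  · apply sSup_le
    intro X hX
    rw [← mem_image_maxAb_iff'] at hX
    obtain ⟨A, hA, rfl⟩ := hX
    exact Subgroup.map_mono (le_sSup hA)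

theorem le_thompsonAOf' {P A : Subgroup G} (hA : A ∈ maxAbIn P) :
    A ≤ thompsonSubgroupAOf P := by
  rw [thompsonAOf_eq_sSup']
  exact le_sSup hA

theorem exists_maxAbIn' (P : Subgroup G) [Finite P] : ∃ A, A ∈ maxAbIn P := by
  haveI : Nonempty {B : Subgroup G // B ≤ P ∧ IsMulCommutative B} :=
    ⟨⟨⊥, bot_le, isMulComm_bot⟩⟩
  haveI : Finite {B : Subgroup G // B ≤ P ∧ IsMulCommutative B} := by
    apply Finite.of_injective
      (fun B : {B : Subgroup G // B ≤ P ∧ IsMulCommutative B} => B.1.subgroupOf P)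
    intro B B' h
    apply Subtype.ext
    have := congrArg (Subgroup.map P.subtype) h
    simp only [Subgroup.map_subgroupOf_eq_of_le B.2.1,
      Subgroup.map_subgroupOf_eq_of_le B'.2.1] at this
    exact this
  obtain ⟨A, hA⟩ := Finite.exists_max
    (fun B : {B : Subgroup G // B ≤ P ∧ IsMulCommutative B} => Nat.card B.1)
  exact ⟨A.1, A.2.1, A.2.2, fun B hBP hB => hA ⟨B, hBP, hB⟩⟩

theorem maxAbIn_eq_of_le' {U R : Subgroup G} [Finite R] (hUR : U ≤ R)
    (h : ∀ A ∈ maxAbIn R, A ≤ U) : maxAbIn U = maxAbIn R := by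
  obtain ⟨A₀, hA₀⟩ := exists_maxAbIn' R
  ext A
  constructor
  · rintro ⟨hAU, hAc, hAmax⟩
    refine ⟨hAU.trans hUR, hAc, ?_⟩
    intro B hBS hBc
    exact (hA₀.2.2 B hBS hBc).trans (hAmax A₀ (h A₀ hA₀) hA₀.2.1)
  · intro hA
    exact ⟨h A hA, hA.2.1, fun B hBU hBc => hA.2.2 B (hBU.trans hUR) hBc⟩

theorem thompsonAOf_eq_of_le' {U R : Subgroup G} [Finite R] (hUR : U ≤ R)
    (h : thompsonSubgroupAOf R ≤ U) : thompsonSubgroupAOf U = thompsonSubgroupAOf R := by
  rw [thompsonAOf_eq_sSup', thompsonAOf_eq_sSup',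
    maxAbIn_eq_of_le' hUR (fun A hA => (le_thompsonAOf' hA).trans h)]

/-- If `J(R) ≤ Q ≤ R` then `C_R(Q) ≤ Q`. -/
theorem mem_of_centralizes_of_thompson_le {Q R : Subgroup G} [Finite R]
    (hJ : thompsonSubgroupAOf R ≤ Q) {c : G} (hcR : c ∈ R) (hc : ∀ q ∈ Q, c * q = q * c) :
    c ∈ Q := by
  obtain ⟨A, hA⟩ := exists_maxAbIn' R
  have hAQ : A ≤ Q := (le_thompsonAOf' hA).trans hJ
  have hAc : ∀ a ∈ A, ∀ b ∈ A, a * b = b * a := (isMulComm_iff A).mp hA.2.1
  have hcomm : IsMulCommutative (A ⊔ Subgroup.zpowers c : Subgroup G) := by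
    apply Cfsg.Agent.Lib.Helper11.isMulCommutative_sup_of_commute A (Subgroup.zpowers c) hAc
    · rintro x ⟨k, rfl⟩ y ⟨l, rfl⟩
      exact (Commute.zpow_zpow_self c k l).eq
    · rintro a ha x ⟨k, rfl⟩
      have h1 : Commute c a := hc a (hAQ ha)
      exact (h1.zpow_left k).eq.symm
  have hle : A ⊔ Subgroup.zpowers c ≤ R := sup_le hA.1 (by rwa [Subgroup.zpowers_le])
  have hcard := hA.2.2 _ hle hcomm
  haveI : Finite (A ⊔ Subgroup.zpowers c : Subgroup G) :=
    Finite.of_injective _ (Subgroup.inclusion_injective hle)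
  have heq : A = A ⊔ Subgroup.zpowers c := Subgroup.eq_of_le_of_card_ge le_sup_left hcard
  apply hAQ
  rw [heq]
  exact (le_sup_right : Subgroup.zpowers c ≤ A ⊔ Subgroup.zpowers c) (Subgroup.mem_zpowers c)

/-- If the normal subgroup `X` of the `p`-group `S` meets `N_S(U)` inside `U`, then `X ≤ U`. -/
theorem le_of_inf_normalizer_le {p : ℕ} [Fact p.Prime] {S X U : Subgroup G} [Finite S]
    (hS : IsPGroup p S) (hXS : X ≤ S) (hUS : U ≤ S) (hSX : S ≤ Subgroup.normalizer (X : Set G))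
    (h : ∀ x ∈ X, x ∈ Subgroup.normalizer (U : Set G) → x ∈ U) : X ≤ U := by
  by_contra hXU
  have hle : U ⊔ X ≤ S := sup_le hUS hXS
  haveI : Finite (U ⊔ X : Subgroup G) := Finite.of_injective _ (Subgroup.inclusion_injective hle)
  have hne : U ≠ U ⊔ X := by
    intro heq
    apply hXU
    rw [heq]
    exact le_sup_right
  obtain ⟨y, hyT, hyU, hyN⟩ := exists_normalizing_not_mem (hS.to_le hle) le_sup_left hne
  rw [sup_comm] at hyT
  obtain ⟨x, hx, u, hu, rfl⟩ := mem_sup_of_le_normalizer X U (hUS.trans hSX) y hyT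
  have hxN : x ∈ Subgroup.normalizer (U : Set G) := by
    have h1 := mul_mem hyN (inv_mem (Subgroup.le_normalizer hu))
    have e : x * u * u⁻¹ = x := by group
    rwa [e] at h1
  exact hyU (mul_mem (h x hx hxN) hu)

end Cfsg.Agent.Lib.Helper51
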