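import Cfsg.Agent.Lib.Helper51.AgE
import Cfsg.Agent.Lib.Helper51.AgF
import Cfsg.Agent.Lib.Helper87.NormalizerSystem
import Cfsg.Agent.Lib.Helper87.HypAct
import Cfsg.Agent.Lib.Helper87.NormalChain

set_option autoImplicit false

/-!
# Counting the maps of a fusion system, and transport lemmas for normalizer systems
-/

namespace Cfsg.Agent.Lib.Helper51

open Cfsg Cfsg.FusionSystem Cfsg.Agent.Lib.Helper87

variable {Ω : Type*} [Group Ω] {S : Subgroup Ω}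

/-- the graph of a map defined on a subgroup -/
def graphOf {P : Subgroup Ω} (φ : P →* Ω) : Set (Ω × Ω) :=
  {ab | ∃ h : ab.1 ∈ P, φ ⟨ab.1, h⟩ = ab.2}

/-- the graphs of the maps of a fusion system -/
def graphs (F : FusionSystem S) : Set (Set (Ω × Ω)) :=
  {g | ∃ (P : Subgroup Ω) (φ : P →* Ω), φ ∈ F.Hom P ∧ g = graphOf φ}

/-- the number of maps of a fusion system -/
noncomputable def mu (F : FusionSystem S) : ℕ := (graphs F).ncard

theorem graphs_finite [Finite S] (F : FusionSystem S) : (graphs F).Finite := by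
  have h1 : ((S : Set Ω) ×ˢ (S : Set Ω)).Finite := Set.Finite.prod (Set.toFinite _) (Set.toFinite _)
  apply (h1.finite_subsets).subset
  rintro g ⟨P, φ, hφ, rfl⟩
  rintro ⟨a, b⟩ ⟨h, hb⟩
  refine ⟨hom_le F hφ h, ?_⟩
  have := hom_mem_S F hφ ⟨a, h⟩
  simp only at hb
  rw [hb] at this
  exact this

theorem dom_eq_of_graphOf_eq {P P' : Subgroup Ω} {φ : P →* Ω} {φ' : P' →* Ω}
    (h : graphOf φ = graphOf φ') : P = P' := by
  ext x
  constructor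
  · intro hx
    have h1 : (x, φ ⟨x, hx⟩) ∈ graphOf φ := ⟨hx, rfl⟩
    rw [h] at h1
    obtain ⟨h2, -⟩ := h1
    exact h2
  · intro hx
    have h1 : (x, φ' ⟨x, hx⟩) ∈ graphOf φ' := ⟨hx, rfl⟩
    rw [← h] at h1
    obtain ⟨h2, -⟩ := h1
    exact h2

theorem eq_of_graphOf_eq {P : Subgroup Ω} {φ φ' : P →* Ω}
    (h : graphOf φ = graphOf φ') : φ = φ' := by
  ext x
  have h1 : ((x : Ω), φ x) ∈ graphOf φ := ⟨x.2, rfl⟩
  rw [h] at h1
  obtain ⟨h2, h3⟩ := h1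
  exact h3.symm

theorem mu_lt [Finite S] {S' : Subgroup Ω} (F : FusionSystem S) (F' : FusionSystem S')
    (hsub : ∀ P : Subgroup Ω, F'.Hom P ⊆ F.Hom P)
    (hne : ∃ (P : Subgroup Ω) (φ : P →* Ω), φ ∈ F.Hom P ∧ φ ∉ F'.Hom P) : mu F' < mu F := by
  apply Set.ncard_lt_ncard _ (graphs_finite F)
  constructor
  · rintro g ⟨P, φ, hφ, rfl⟩
    exact ⟨P, φ, hsub P hφ, rfl⟩
  · intro hle
    obtain ⟨P, φ, hφ, hφ'⟩ := hne
    obtain ⟨P', φ', h1, h2⟩ := hle ⟨P, φ, hφ, rfl⟩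
    have hP := dom_eq_of_graphOf_eq h2
    subst hP
    have := eq_of_graphOf_eq h2
    subst this
    exact hφ' h1

theorem exists_not_mem_normalizerHom (F : FusionSystem S) {H : Subgroup Ω} (hHS : H ≤ S)
    (hn : ¬ F.IsNormal H) :
    ∃ (P : Subgroup Ω) (φ : P →* Ω), φ ∈ F.Hom P ∧ φ ∉ F.normalizerHom H P := by
  by_contra hcon
  apply hn
  refine ⟨hHS, fun P φ hφ => ?_⟩
  by_contra h2
  apply hcon
  refine ⟨P, φ, hφ, fun h3 => h2 h3.2.2.2⟩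

/-- the subgroup generated by the `p`-th powers of the elements of the centre -/
def VS (p : ℕ) (X : Subgroup Ω) : Subgroup Ω :=
  powerClosure p 1 (X ⊓ Subgroup.centralizer (X : Set Ω))

theorem VS_le (p : ℕ) (X : Subgroup Ω) : VS p X ≤ X ⊓ Subgroup.centralizer (X : Set Ω) := by
  unfold VS powerClosure
  rw [Subgroup.closure_le]
  rintro y ⟨x, hx, rfl⟩
  exact Subgroup.pow_mem _ hx _

theorem VS_le_of_le (p : ℕ) {R X : Subgroup Ω} (hRX : R ≤ X)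
    (hZ : X ⊓ Subgroup.centralizer (X : Set Ω) ≤ R) : VS p X ≤ VS p R := by
  unfold VS powerClosure
  apply Subgroup.closure_mono
  rintro y ⟨x, hx, rfl⟩
  exact ⟨x, ⟨hZ hx, Subgroup.centralizer_le (show (R : Set Ω) ⊆ X from hRX) hx.2⟩, rfl⟩

/-- A map fixing the `p`-th powers of the elements of the centre fixes the subgroup they generate. -/
theorem fix_VS {p : ℕ} {X U : Subgroup Ω} (hVU : VS p X ≤ U) (β : U →* Ω)
    (h : ∀ x ∈ X ⊓ Subgroup.centralizer (X : Set Ω), ∀ hx : x ^ p ∈ U, β ⟨x ^ p, hx⟩ = x ^ p) :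
    ∀ (v : Ω) (hv : v ∈ VS p X), β ⟨v, hVU hv⟩ = v := by
  intro v hv
  have key : VS p X ≤ (MonoidHom.eqLocus β U.subtype).map U.subtype := by
    unfold VS powerClosure
    rw [Subgroup.closure_le]
    rintro y ⟨x, hx, rfl⟩
    have hxU : x ^ p ^ 1 ∈ U := hVU (Subgroup.subset_closure ⟨x, hx, rfl⟩)
    refine ⟨⟨x ^ p ^ 1, hxU⟩, ?_, rfl⟩
    show β ⟨x ^ p ^ 1, hxU⟩ = x ^ p ^ 1
    have e : x ^ p ^ 1 = x ^ p := by rw [pow_one]
    have hxU' : x ^ p ∈ U := e ▸ hxU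
    have := h x hx hxU'
    calc β ⟨x ^ p ^ 1, hxU⟩ = β ⟨x ^ p, hxU'⟩ := by congr 1; exact Subtype.ext e
      _ = x ^ p := this
      _ = x ^ p ^ 1 := e.symm
  obtain ⟨u, hu, huv⟩ := key hv
  have : u = ⟨v, hVU hv⟩ := Subtype.ext huv
  rw [← this]
  exact (show β u = U.subtype u from hu).trans huv

theorem centralizerHom_normalizerSystem_sub {p : ℕ} (F : FusionSystem S) {H : Subgroup Ω}
    (hHS : H ≤ S) (P : Subgroup Ω) (φ : P →* Ω)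
    (hφ : φ ∈ (normalizerSystem F H hHS).centralizerHom (VS p (normalizerIn S H)) P) :
    φ ∈ F.centralizerHom (VS p S) P := by
  obtain ⟨h1, h2, h3, ψ, hψ, hψe, hψf⟩ := hφ
  have h1F : φ ∈ F.Hom P := h1.1
  have hψF : ψ ∈ F.Hom _ := hψ.1
  have hcen : ∀ x ∈ S, x ∈ centralizerIn S (VS p S) := by
    intro x hx
    refine ⟨hx, ?_⟩
    show x ∈ Subgroup.centralizer ((VS p S : Subgroup Ω) : Set Ω)
    rw [Subgroup.mem_centralizer_iff]
    intro v hv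
    have : v ∈ Subgroup.centralizer (S : Set Ω) := (VS_le p S hv).2
    rw [Subgroup.mem_centralizer_iff] at this
    exact (this x hx).symm
  have hVV : VS p S ≤ VS p (normalizerIn S H) := by
    apply VS_le_of_le p (normalizerIn_le S H)
    intro z hz
    exact ⟨hz.1, Subgroup.centralizer_le_normalizer _
      (Subgroup.centralizer_le (show (H : Set Ω) ⊆ S from hHS) hz.2)⟩
  refine ⟨h1F, fun x hx => hcen x (hom_le F h1F hx), fun x => hcen _ (hom_mem_S F h1F x), ?_⟩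
  refine ⟨ψ.comp (Subgroup.inclusion (sup_le_sup_left hVV P)), restrict_mem F hψF _, ?_, ?_⟩
  · intro x
    exact hψe x
  · intro x
    exact hψf ⟨x, hVV x.2⟩

theorem normalizerHom_normalizerSystem_sub (F : FusionSystem S) {H : Subgroup Ω}
    (hHS : H ≤ S) (Y P : Subgroup Ω) (φ : P →* Ω)
    (hφ : φ ∈ (normalizerSystem F H hHS).normalizerHom Y P) :
    φ ∈ F.normalizerHom Y P := by
  obtain ⟨h1, h2, h3, ψ, hψ, hψe, hψm⟩ := hφ
  exact ⟨h1.1, fun x hx => ⟨(h2 hx).1.1, (h2 hx).2⟩, fun x => ⟨(h3 x).1.1, (h3 x).2⟩,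
    ψ, hψ.1, hψe, hψm⟩

/-! ### Automorphisms -/

/-- A map of the system from `U` into `U` that maps `Y ≤ U` into `Y` maps `Y` onto `Y`. -/
theorem aut_surj_on [Finite S] (F : FusionSystem S) {U Y : Subgroup Ω} {α : U →* Ω}
    (hα : α ∈ F.Hom U) (hYU : Y ≤ U) (hαY : ∀ x : U, (x : Ω) ∈ Y → α x ∈ Y) :
    ∀ q ∈ Y, ∃ y : U, (y : Ω) ∈ Y ∧ α y = q := by
  haveI : Finite Y := finite_of_le (hYU.trans (hom_le F hα))
  let f : Y → Y := fun y => ⟨α ⟨y, hYU y.2⟩, hαY _ y.2⟩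
  have hinj : Function.Injective f := by
    intro a b hab
    have h1 : α ⟨a, hYU a.2⟩ = α ⟨b, hYU b.2⟩ := congrArg (fun t : Y => (t : Ω)) hab
    have h2 := F.injective_of_mem hα h1
    exact Subtype.ext (congrArg (fun t : U => (t : Ω)) h2)
  have hsurj := Finite.injective_iff_surjective.mp hinj
  intro q hq
  obtain ⟨y, hy⟩ := hsurj ⟨q, hq⟩
  exact ⟨⟨y, hYU y.2⟩, y.2, congrArg (fun t : Y => (t : Ω)) hy⟩

theorem aut_mem_normalizerHom [Finite S] (F : FusionSystem S) {U Y : Subgroup Ω} {α : U →* Ω}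
    (hα : α ∈ F.Hom U) (hYU : Y ≤ U) (hUY : U ≤ Subgroup.normalizer (Y : Set Ω))
    (hαU : ∀ x : U, α x ∈ U) (hαY : ∀ x : U, (x : Ω) ∈ Y → α x ∈ Y) :
    α ∈ F.normalizerHom Y U := by
  have hUS := hom_le F hα
  refine ⟨hα, fun x hx => ⟨hUS hx, hUY hx⟩, fun x => ⟨hUS (hαU x), hUY (hαU x)⟩, ?_⟩
  have e : U = U ⊔ Y := (sup_eq_left.mpr hYU).symm
  refine ⟨α.comp (Subgroup.inclusion e.ge), cast_mem F e hα, fun x => rfl, ?_⟩
  rw [map_subgroupOf_eq_iff]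
  refine ⟨fun y hy => hαY _ hy, fun q hq => ?_⟩
  obtain ⟨y, hy, hyq⟩ := aut_surj_on F hα hYU hαY q hq
  exact ⟨⟨y, e.le y.2⟩, hy, hyq⟩

theorem aut_thompson_mem [Finite S] (F : FusionSystem S) {U : Subgroup Ω} {α : U →* Ω}
    (hα : α ∈ F.Hom U) (hαU : ∀ x : U, α x ∈ U) :
    ∀ x : U, (x : Ω) ∈ thompsonSubgroupAOf U → α x ∈ thompsonSubgroupAOf U := by
  haveI : Finite U := finite_of_le (hom_le F hα)
  obtain ⟨γ, -, hγ⟩ := exists_aut_of_hom F hα hαU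
  have h1 := thompsonA_map_equiv γ
  intro x hx
  obtain ⟨q, hq, hqx⟩ := hx
  have hqx' : q = x := Subtype.ext hqx
  subst hqx'
  refine ⟨γ q, ?_, hγ q⟩
  rw [← h1]
  exact ⟨q, hq, rfl⟩

theorem aut_normal_mem (F : FusionSystem S) {U Q : Subgroup Ω} {α : U →* Ω}
    (hα : α ∈ F.Hom U) (hQ : F.StronglyClosed Q) (hQU : Q ≤ U) :
    ∀ x : U, (x : Ω) ∈ Q → α x ∈ Q := by
  intro x hx
  exact hQ.2 Q le_rfl (α.comp (Subgroup.inclusion hQU)) (restrict_mem F hα hQU) ⟨x, hx⟩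

theorem aut_zIn_mem [Finite S] (F : FusionSystem S) {U Q : Subgroup Ω} {α : U →* Ω}
    (hα : α ∈ F.Hom U) (hQU : Q ≤ U) (hαQ : ∀ x : U, (x : Ω) ∈ Q → α x ∈ Q) :
    ∀ x : U, (x : Ω) ∈ zIn Q → α x ∈ zIn Q := by
  intro x hx
  rw [mem_zIn] at hx ⊢
  refine ⟨hαQ x hx.1, fun y hy => ?_⟩
  obtain ⟨y', hy', rfl⟩ := aut_surj_on F hα hQU hαQ y hy
  rw [← map_mul, ← map_mul]
  congr 1
  exact Subtype.ext (hx.2 _ hy')

theorem aut_zpw_mem [Finite S] {p : ℕ} (F : FusionSystem S) {U Q : Subgroup Ω} {α : U →* Ω}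
    (hα : α ∈ F.Hom U) (hQU : Q ≤ U) (hαQ : ∀ x : U, (x : Ω) ∈ Q → α x ∈ Q) :
    ∀ x : U, (x : Ω) ∈ zpw p Q → α x ∈ zpw p Q := by
  rintro x ⟨z, hz, hxz⟩
  have hzU : z ∈ U := hQU (zIn_le _ hz)
  refine ⟨α ⟨z, hzU⟩, aut_zIn_mem F hα hQU hαQ ⟨z, hzU⟩ hz, ?_⟩
  rw [← map_pow]
  congr 1
  exact Subtype.ext hxz

theorem zpw_subset {p : ℕ} (Q : Subgroup Ω) : zpw p Q ⊆ zIn Q := by
  rintro y ⟨z, hz, rfl⟩
  exact Subgroup.pow_mem _ hz _

theorem aut_zpw_surj [Finite S] {p : ℕ} (F : FusionSystem S) {U Q : Subgroup Ω} {α : U →* Ω}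
    (hα : α ∈ F.Hom U) (hQU : Q ≤ U) (hαQ : ∀ x : U, (x : Ω) ∈ Q → α x ∈ Q) :
    ∀ y ∈ zpw p Q, ∃ y' : U, (y' : Ω) ∈ zpw p Q ∧ α y' = y := by
  rintro y ⟨z, hz, rfl⟩
  obtain ⟨z', hz', hzz⟩ := aut_surj_on F hα ((zIn_le Q).trans hQU)
    (aut_zIn_mem F hα hQU hαQ) z hz
  refine ⟨z' ^ p, ⟨z', hz', by simp⟩, ?_⟩
  rw [map_pow, hzz]

theorem aut_centralizer_zpw_mem [Finite S] {p : ℕ} (F : FusionSystem S) {U Q : Subgroup Ω}
    {α : U →* Ω} (hα : α ∈ F.Hom U) (hQU : Q ≤ U) (hαQ : ∀ x : U, (x : Ω) ∈ Q → α x ∈ Q) :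
    ∀ x : U, (x : Ω) ∈ Subgroup.centralizer (zpw p Q) → α x ∈ Subgroup.centralizer (zpw p Q) := by
  intro x hx
  rw [Subgroup.mem_centralizer_iff] at hx ⊢
  intro y hy
  obtain ⟨y', hy', rfl⟩ := aut_zpw_surj F hα hQU hαQ y hy
  rw [← map_mul, ← map_mul]
  congr 1
  exact Subtype.ext (hx _ hy')

/-! ### Normality of the centralizer of the `p`-th powers -/

theorem le_normalizer_of_conj_mem_ag {G : Type*} [Group G] {T K : Subgroup G}
    (h : ∀ s ∈ T, ∀ x ∈ K, s * x * s⁻¹ ∈ K) : T ≤ Subgroup.normalizer (K : Set G) := by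
  intro s hs
  refine Subgroup.mem_normalizer_iff.mpr (fun x => ⟨h s hs x, fun hx => ?_⟩)
  have := h s⁻¹ (T.inv_mem hs) _ hx
  have e : s⁻¹ * (s * x * s⁻¹) * s⁻¹⁻¹ = x := by group
  rwa [e] at this

theorem le_normalizer_centralizer_zpw {p : ℕ} {T Q : Subgroup Ω}
    (hTQ : T ≤ Subgroup.normalizer (Q : Set Ω)) :
    T ≤ Subgroup.normalizer ((T ⊓ Subgroup.centralizer (zpw p Q) : Subgroup Ω) : Set Ω) := by
  apply le_normalizer_of_conj_mem_ag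
  intro s hs x hx
  refine ⟨T.mul_mem (T.mul_mem hs hx.1) (T.inv_mem hs), ?_⟩
  show s * x * s⁻¹ ∈ Subgroup.centralizer (zpw p Q)
  rw [Subgroup.mem_centralizer_iff]
  rintro y ⟨z, hz, rfl⟩
  have hsN : s⁻¹ ∈ Subgroup.normalizer ((zIn Q : Subgroup Ω) : Set Ω) :=
    normalizer_le_normalizer_zIn Q (hTQ (T.inv_mem hs))
  have hz' : s⁻¹ * z * s⁻¹⁻¹ ∈ zIn Q := (Subgroup.mem_normalizer_iff.mp hsN z).mp hz
  have h1 : (s⁻¹ * z * s⁻¹⁻¹) ^ p ∈ zpw p Q := ⟨_, hz', rfl⟩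
  have h2 := (Subgroup.mem_centralizer_iff.mp hx.2) _ h1
  rw [conj_pow] at h2
  rw [inv_inv] at h2
  calc z ^ p * (s * x * s⁻¹) = s * ((s⁻¹ * z ^ p * s) * x) * s⁻¹ := by group
    _ = s * (x * (s⁻¹ * z ^ p * s)) * s⁻¹ := by rw [h2]
    _ = s * x * s⁻¹ * z ^ p := by group

end Cfsg.Agent.Lib.Helper51
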