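import Cfsg.Agent.Lib.Helper51.AgG
import Cfsg.Agent.Lib.Helper51.AgD
import Cfsg.Agent.Lib.Helper54.FusLocal

set_option autoImplicit false

/-!
# Generation of a saturated fusion system by `C_F(℧¹(Z(S)))` and `N_F(J(S))`: the induction
-/

universe u

namespace Cfsg.Agent.Lib.Helper51

open Cfsg Cfsg.FusionSystem Cfsg.Agent.Lib.Helper87 Cfsg.Agent.Lib.Helper54.FusWP
  Cfsg.Agent.Lib.Helper54.FusFix
open Cfsg.Agent.Lib.Helper88 (preN mem_preN preN_le preN_mem)

variable {Ω : Type u} [Group Ω]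

/-- the Thompson subgroup as a functor -/
def WJ : ∀ (Q : Type u) [Group Q], Subgroup Q := fun Q _ => thompsonSubgroupA Q

theorem induced_WJ (P : Subgroup Ω) : inducedFunctor WJ P = thompsonSubgroupAOf P := rfl

theorem WJ_map {p : ℕ} : ∀ (Q R : Type u) [Group Q] [Group R] [Finite Q], IsPGroup p Q →
    ∀ φ : Q ≃* R, (WJ Q).map φ.toMonoidHom = WJ R :=
  fun _ _ _ _ _ _ φ => thompsonA_map_equiv φ

/-- the generation property -/
def GenBy (p : ℕ) {S : Subgroup Ω} (F : FusionSystem S) : Prop :=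
  ∀ (T : Subgroup Ω) (E : FusionSystem T),
    (∀ (P : Subgroup Ω) (φ : P →* Ω), φ ∈ F.centralizerHom (VS p S) P → φ ∈ E.Hom P) →
    (∀ (P : Subgroup Ω) (φ : P →* Ω), φ ∈ F.normalizerHom (thompsonSubgroupAOf S) P →
      φ ∈ E.Hom P) →
    ∀ (P : Subgroup Ω) (φ : P →* Ω), φ ∈ F.Hom P → φ ∈ E.Hom P

theorem mem_of_extension {T : Subgroup Ω} (E : FusionSystem T) {U M : Subgroup Ω} (hUM : U ≤ M)
    {α : U →* Ω} {ψ : M →* Ω} (hψ : ψ ∈ E.Hom M)
    (h : ∀ (x : Ω) (hx : x ∈ U), ψ ⟨x, hUM hx⟩ = α ⟨x, hx⟩) : α ∈ E.Hom U := by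
  have h1 := restrict_mem E hψ hUM
  have e : ψ.comp (Subgroup.inclusion hUM) = α := by
    ext x
    exact h x x.2
  rwa [e] at h1

theorem card_lt_of_not_le {U M : Subgroup Ω} [Finite M] (hUM : U ≤ M) (h : ¬ M ≤ U) :
    Nat.card U < Nat.card M := by
  by_contra hcon
  push Not at hcon
  exact h (Subgroup.eq_of_le_of_card_ge hUM hcon).ge

theorem le_preN_core {S : Subgroup Ω} [Finite S] {p : ℕ} [Fact p.Prime] (hS : IsPGroup p S)
    {F : FusionSystem S} {G : Type*} [Group G] {ι : S →* G} (hM : F.IsModel p G ι)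
    {Q : Subgroup Ω} (hQ : F.IsNormal Q) : Q ≤ preN ι (pCore p G) := by
  have hnorm := model_map_normal hM hQ
  intro x hx
  refine mem_preN.mpr ⟨hQ.1 hx, ?_⟩
  apply le_pCore hnorm ((hS.to_subgroup _).map ι)
  exact ⟨⟨x, hQ.1 hx⟩, Subgroup.mem_subgroupOf.mpr hx, rfl⟩

theorem le_normalizer_centralizerIn {T Q : Subgroup Ω}
    (hTQ : T ≤ Subgroup.normalizer (Q : Set Ω)) :
    T ≤ Subgroup.normalizer ((centralizerIn T Q : Subgroup Ω) : Set Ω) := by
  apply le_normalizer_of_conj_mem_ag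
  intro s hs x hx
  refine ⟨T.mul_mem (T.mul_mem hs hx.1) (T.inv_mem hs), ?_⟩
  show s * x * s⁻¹ ∈ Subgroup.centralizer (Q : Set Ω)
  rw [Subgroup.mem_centralizer_iff]
  intro q hq
  have hsN : s⁻¹ ∈ Subgroup.normalizer (Q : Set Ω) := hTQ (T.inv_mem hs)
  have hq' : s⁻¹ * q * s⁻¹⁻¹ ∈ Q := (Subgroup.mem_normalizer_iff.mp hsN q).mp hq
  have hx2 : x ∈ Subgroup.centralizer (Q : Set Ω) := hx.2
  have h2 := (Subgroup.mem_centralizer_iff.mp hx2) _ hq'
  rw [inv_inv] at h2
  calc q * (s * x * s⁻¹) = s * ((s⁻¹ * q * s) * x) * s⁻¹ := by group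
    _ = s * (x * (s⁻¹ * q * s)) * s⁻¹ := by rw [h2]
    _ = s * x * s⁻¹ * q := by group

section

variable {S : Subgroup Ω} {p : ℕ}

/-- The maps of the normalizer system of a fully normalized subgroup `H` not normal in `F` lie in
`E` as soon as the maps of `N_F(J(N_S(H)))` do. -/
theorem normalizerHom_sub [Finite S] [Fact p.Prime] (hS : IsPGroup p S) (F : FusionSystem S)
    (hF : F.IsSaturated p)
    (IH : ∀ (S' : Subgroup Ω) [Finite S'], IsPGroup p S' → ∀ F' : FusionSystem S',
      F'.IsSaturated p → mu F' < mu F → GenBy p F')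
    {T : Subgroup Ω} (E : FusionSystem T)
    (hc : ∀ (P : Subgroup Ω) (φ : P →* Ω), φ ∈ F.centralizerHom (VS p S) P → φ ∈ E.Hom P)
    {H : Subgroup Ω} (hfn : F.IsFullyNormalized H) (hnn : ¬ F.IsNormal H)
    (hJ : ∀ (P : Subgroup Ω) (φ : P →* Ω),
      φ ∈ F.normalizerHom (thompsonSubgroupAOf (normalizerIn S H)) P → φ ∈ E.Hom P) :
    ∀ (P : Subgroup Ω) (φ : P →* Ω), φ ∈ F.normalizerHom H P → φ ∈ E.Hom P := by
  have hHS : H ≤ S := hfn.1
  haveI : Finite (normalizerIn S H) := finite_of_le (normalizerIn_le S H)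
  have hsat := Cfsg.Agent.S5098.result p hS F hF H hfn (normalizerSystem F H hHS)
    (isNormalizerSystem_normalizerSystem F H hHS)
  have hlt : mu (normalizerSystem F H hHS) < mu F :=
    mu_lt F (normalizerSystem F H hHS) (fun P φ h => h.1) (exists_not_mem_normalizerHom F hHS hnn)
  exact IH (normalizerIn S H) (hS.to_le (normalizerIn_le S H)) (normalizerSystem F H hHS) hsat hlt
    T E (fun P φ h => hc P φ (centralizerHom_normalizerSystem_sub F hHS P φ h))
    (fun P φ h => hJ P φ (normalizerHom_normalizerSystem_sub F hHS _ P φ h))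

theorem chain_claim [Finite S] [Fact p.Prime] (hS : IsPGroup p S) (F : FusionSystem S)
    (hF : F.IsSaturated p)
    (IH : ∀ (S' : Subgroup Ω) [Finite S'], IsPGroup p S' → ∀ F' : FusionSystem S',
      F'.IsSaturated p → mu F' < mu F → GenBy p F')
    {T : Subgroup Ω} (E : FusionSystem T)
    (hc : ∀ (P : Subgroup Ω) (φ : P →* Ω), φ ∈ F.centralizerHom (VS p S) P → φ ∈ E.Hom P)
    (hn : ∀ (P : Subgroup Ω) (φ : P →* Ω), φ ∈ F.normalizerHom (thompsonSubgroupAOf S) P →
      φ ∈ E.Hom P)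
    (Q : Subgroup Ω) (hQmax : ∀ H : Subgroup Ω, F.IsNormal H → H ≤ Q) :
    ∀ (n : ℕ) (Y : Subgroup Ω), Y ≤ S → Q ≤ Y → ¬ thompsonSubgroupAOf Y ≤ Q →
      IsWP WJ F (thompsonSubgroupAOf Y) →
      Nat.card S - Nat.card (normalizerIn S (thompsonSubgroupAOf Y)) = n →
      ∀ (P : Subgroup Ω) (φ : P →* Ω), φ ∈ F.normalizerHom (thompsonSubgroupAOf Y) P →
        φ ∈ E.Hom P := by
  intro n
  induction n using Nat.strong_induction_on with
  | _ n ih =>
  intro Y hYS hQY hJQ hwp hcard
  obtain ⟨hfn, hwp'⟩ := (isWP_iff F _).mp hwp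
  have hnn : ¬ F.IsNormal (thompsonSubgroupAOf Y) := fun h => hJQ (hQmax _ h)
  apply normalizerHom_sub hS F hF IH E hc hfn hnn
  -- the next term of the chain
  have hY'S : normalizerIn S (thompsonSubgroupAOf Y) ≤ S := normalizerIn_le S _
  haveI : Finite (normalizerIn S (thompsonSubgroupAOf Y)) := finite_of_le hY'S
  have hYY' : Y ≤ normalizerIn S (thompsonSubgroupAOf Y) := by
    intro y hy
    exact ⟨hYS hy, normalizer_le_normalizer_thompsonAOf Y (Subgroup.le_normalizer hy)⟩
  by_cases hY'eq : normalizerIn S (thompsonSubgroupAOf Y) = S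
  · rw [hY'eq]
    exact hn
  · have hlt : Nat.card (normalizerIn S (thompsonSubgroupAOf Y)) <
        Nat.card (normalizerIn S (normalizerIn S (thompsonSubgroupAOf Y))) :=
      card_lt_card_normalizerIn hS hY'S hY'eq
    have hle : normalizerIn S (normalizerIn S (thompsonSubgroupAOf Y)) ≤
        normalizerIn S (thompsonSubgroupAOf (normalizerIn S (thompsonSubgroupAOf Y))) := by
      intro x hx
      exact ⟨hx.1, normalizer_le_normalizer_thompsonAOf _ hx.2⟩
    have hle2 : Nat.card (normalizerIn S (normalizerIn S (thompsonSubgroupAOf Y))) ≤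
        Nat.card (normalizerIn S (thompsonSubgroupAOf (normalizerIn S (thompsonSubgroupAOf Y)))) := by
      haveI : Finite (normalizerIn S
          (thompsonSubgroupAOf (normalizerIn S (thompsonSubgroupAOf Y)))) :=
        finite_of_le (normalizerIn_le S _)
      exact Subgroup.card_le_of_le hle
    have hle3 : Nat.card
        (normalizerIn S (thompsonSubgroupAOf (normalizerIn S (thompsonSubgroupAOf Y)))) ≤
        Nat.card S := Subgroup.card_le_of_le (normalizerIn_le S _)
    refine ih _ (by omega) (normalizerIn S (thompsonSubgroupAOf Y)) hY'S (hQY.trans hYY') ?_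
      hwp' rfl
    intro hcon
    apply hJQ
    have h1 : thompsonSubgroupAOf (normalizerIn S (thompsonSubgroupAOf Y)) ≤ Y := hcon.trans hQY
    rw [thompsonAOf_eq_of_le' hYY' h1]
    exact hcon


theorem mem_centralizer_zpw_of_comm {a : Ω} {Q : Subgroup Ω}
    (h : ∀ y ∈ zpw p Q, a * y = y * a) : a ∈ Subgroup.centralizer (zpw p Q) := by
  rw [Subgroup.mem_centralizer_iff]
  intro y hy
  exact (h y hy).symm

theorem factSK [Finite S] [Fact p.Prime] (hS : IsPGroup p S) (F : FusionSystem S)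
    (hF : F.IsSaturated p)
    (IH : ∀ (S' : Subgroup Ω) [Finite S'], IsPGroup p S' → ∀ F' : FusionSystem S',
      F'.IsSaturated p → mu F' < mu F → GenBy p F')
    {T : Subgroup Ω} (E : FusionSystem T)
    (hc : ∀ (P : Subgroup Ω) (φ : P →* Ω), φ ∈ F.centralizerHom (VS p S) P → φ ∈ E.Hom P)
    (hn : ∀ (P : Subgroup Ω) (φ : P →* Ω), φ ∈ F.normalizerHom (thompsonSubgroupAOf S) P →
      φ ∈ E.Hom P)
    (Q : Subgroup Ω) (hQ : F.IsNormal Q) (hQmax : ∀ H : Subgroup Ω, F.IsNormal H → H ≤ Q)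
    (hcen : centralizerIn S Q ≤ Q) (hJQ : ¬ thompsonSubgroupAOf S ≤ Q) :
    ∀ (P : Subgroup Ω) (φ : P →* Ω),
      φ ∈ F.normalizerHom (S ⊓ Subgroup.centralizer (zpw p Q)) P → φ ∈ E.Hom P := by
  have hsc := stronglyClosed_of_isNormal F hQ
  have hcentric := isCentric_of_stronglyClosed F hsc hcen
  obtain ⟨G, hGrp, ι, hM⟩ := Cfsg.Agent.S5090.result p hS F ⟨hF, Q, hQ, hcentric⟩
  have hQeq : preN ι (pCore p G) = Q :=
    le_antisymm (hQmax _ (model_core_isNormal hM)) (le_preN_core hS hM hQ)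
  have hdich := model_dichotomy hM
  rw [hQeq] at hdich
  rcases hdich with h | ⟨a, haS, haQ, hcomm⟩
  · exact absurd h hJQ
  · have hSKS : S ⊓ Subgroup.centralizer (zpw p Q) ≤ S := inf_le_left
    have hSN : S ≤ Subgroup.normalizer
        ((S ⊓ Subgroup.centralizer (zpw p Q) : Subgroup Ω) : Set Ω) :=
      le_normalizer_centralizer_zpw (stronglyClosed_le_normalizer F hsc)
    have hNeq : normalizerIn S (S ⊓ Subgroup.centralizer (zpw p Q)) = S :=
      le_antisymm (normalizerIn_le S _) (le_inf le_rfl hSN)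
    have hfn : F.IsFullyNormalized (S ⊓ Subgroup.centralizer (zpw p Q)) :=
      fullyNormalized_of_normalizerIn_eq F hSKS hNeq
    have hnn : ¬ F.IsNormal (S ⊓ Subgroup.centralizer (zpw p Q)) := by
      intro h
      exact haQ (hQmax _ h ⟨haS, mem_centralizer_zpw_of_comm hcomm⟩)
    apply normalizerHom_sub hS F hF IH E hc hfn hnn
    rw [hNeq]
    exact hn


theorem center_le_of_centralizerIn_le {U : Subgroup Ω} (hUS : U ≤ S)
    (hCU : centralizerIn S U ≤ U) : S ⊓ Subgroup.centralizer (S : Set Ω) ≤ zIn U := by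
  intro x hx
  have hxU : x ∈ U :=
    hCU ⟨hx.1, Subgroup.centralizer_le (show (U : Set Ω) ⊆ S from hUS) hx.2⟩
  rw [mem_zIn]
  refine ⟨hxU, fun y hy => ?_⟩
  exact (Subgroup.mem_centralizer_iff.mp hx.2) y (hUS hy)

theorem le_centralizer_zpw (U : Subgroup Ω) : U ≤ Subgroup.centralizer (zpw p U) := by
  intro x hx
  rw [Subgroup.mem_centralizer_iff]
  intro y hy
  have : y ∈ zIn U := zpw_subset (p := p) U hy
  rw [mem_zIn] at this
  exact (this.2 x hx).symm

theorem aut_step [Finite S] [Fact p.Prime] (hS : IsPGroup p S) (F : FusionSystem S)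
    (hF : F.IsSaturated p)
    (IH : ∀ (S' : Subgroup Ω) [Finite S'], IsPGroup p S' → ∀ F' : FusionSystem S',
      F'.IsSaturated p → mu F' < mu F → GenBy p F')
    {T : Subgroup Ω} (E : FusionSystem T)
    (hc : ∀ (P : Subgroup Ω) (φ : P →* Ω), φ ∈ F.centralizerHom (VS p S) P → φ ∈ E.Hom P)
    (hn : ∀ (P : Subgroup Ω) (φ : P →* Ω), φ ∈ F.normalizerHom (thompsonSubgroupAOf S) P →
      φ ∈ E.Hom P)
    {U : Subgroup Ω} (hwp : IsWP WJ F U)
    (big : ∀ (P' : Subgroup Ω) (φ' : P' →* Ω), φ' ∈ F.Hom P' → Nat.card U < Nat.card P' →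
      φ' ∈ E.Hom P')
    (α : U →* Ω) (hα : α ∈ F.Hom U) (hαr : α.range = U) : α ∈ E.Hom U := by
  have hQ : F.IsNormal F.core := Cfsg.Agent.S5145.result F
  have hQmax : ∀ H : Subgroup Ω, F.IsNormal H → H ≤ F.core := fun H hH => le_sSup hH
  have hQS : F.core ≤ S := hQ.1
  have hsc := stronglyClosed_of_isNormal F hQ
  have hUS : U ≤ S := hom_le F hα
  haveI : Finite U := finite_of_le hUS
  obtain ⟨hfn, hwp'⟩ := (isWP_iff F U).mp hwp
  have hαU : ∀ x : U, α x ∈ U := by
    intro x
    have : α x ∈ α.range := ⟨x, rfl⟩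
    rwa [hαr] at this
  -- Step 1
  by_cases hQU : F.core ≤ U
  swap
  · obtain ⟨ψ, hψ, hψe, -⟩ := hQ.2 U α hα
    haveI : Finite (U ⊔ F.core : Subgroup Ω) := finite_of_le (sup_le hUS hQS)
    have hlt : Nat.card U < Nat.card (U ⊔ F.core : Subgroup Ω) :=
      card_lt_of_not_le le_sup_left (fun h => hQU (le_sup_right.trans h))
    exact mem_of_extension E le_sup_left (big _ ψ hψ hlt) (fun x hx => hψe ⟨x, hx⟩)
  -- Step 2
  by_cases hCU : centralizerIn S U ≤ U
  swap
  · have hrec : F.IsReceptive U := receptive_of_fullyNormalized hS F hF hfn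
    have hM : U ⊔ centralizerIn S U ≤ extender S U α :=
      sup_le (self_le_extender F hα) (centralizerIn_le_extender' U α)
    obtain ⟨ψ, hψ, hψe⟩ := extend_to_sub F hα hαr hrec hM
    haveI : Finite (U ⊔ centralizerIn S U : Subgroup Ω) :=
      finite_of_le (sup_le hUS (centralizerIn_le S U))
    have hlt : Nat.card U < Nat.card (U ⊔ centralizerIn S U : Subgroup Ω) :=
      card_lt_of_not_le le_sup_left (fun h => hCU (le_sup_right.trans h))
    exact mem_of_extension E le_sup_left (big _ ψ hψ hlt) (fun x hx => hψe x hx _)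
  -- Step 3: the model of the normalizer system
  have hRS : normalizerIn S U ≤ S := normalizerIn_le S U
  haveI : Finite (normalizerIn S U) := finite_of_le hRS
  have hRp : IsPGroup p (normalizerIn S U) := hS.to_le hRS
  have hUR : U ≤ normalizerIn S U := le_normalizerIn hUS
  have hF₁ := isNormalizerSystem_normalizerSystem F U hUS
  have hF₁sat := Cfsg.Agent.S5098.result p hS F hF U hfn _ hF₁
  have hUn := normalizerSystem_isNormal F hUS hF₁
  have hUsc₁ := stronglyClosed_of_isNormal (normalizerSystem F U hUS) hUn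
  have hcen₁ : centralizerIn (normalizerIn S U) U ≤ U := fun x hx => hCU ⟨hx.1.1, hx.2⟩
  have hUc := isCentric_of_stronglyClosed (normalizerSystem F U hUS) hUsc₁ hcen₁
  obtain ⟨G, hGrp, ι, hM⟩ := Cfsg.Agent.S5090.result p hRp (normalizerSystem F U hUS)
    ⟨hF₁sat, U, hUn, hUc⟩
  have hUH' : U ≤ preN ι (pCore p G) := le_preN_core hRp hM hUn
  have hH'n : (normalizerSystem F U hUS).IsNormal (preN ι (pCore p G)) := model_core_isNormal hM
  have hα₁ : α ∈ (normalizerSystem F U hUS).Hom U :=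
    Cfsg.Agent.Lib.Helper54.FusLocal.mem_normalizerSystem_of_range_eq F hUS hF₁ hα hαr
  by_cases hH'U : preN ι (pCore p G) ≤ U
  swap
  · obtain ⟨ψ, hψ, hψe, -⟩ := hH'n.2 U α hα₁
    have hψF : ψ ∈ F.Hom _ := hψ.1
    haveI : Finite (U ⊔ preN ι (pCore p G) : Subgroup Ω) :=
      finite_of_le (sup_le hUS ((preN_le ι _).trans hRS))
    have hlt : Nat.card U < Nat.card (U ⊔ preN ι (pCore p G) : Subgroup Ω) :=
      card_lt_of_not_le le_sup_left (fun h => hH'U (le_sup_right.trans h))
    exact mem_of_extension E le_sup_left (big _ ψ hψF hlt) (fun x hx => hψe ⟨x, hx⟩)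
  -- Step 4
  have hUeq : U = preN ι (pCore p G) := le_antisymm hUH' hH'U
  have hZU : S ⊓ Subgroup.centralizer (S : Set Ω) ≤ zIn U := center_le_of_centralizerIn_le hUS hCU
  have hcenS : ∀ x ∈ S, x ∈ centralizerIn S (VS p S) := by
    intro x hx
    refine ⟨hx, ?_⟩
    show x ∈ Subgroup.centralizer ((VS p S : Subgroup Ω) : Set Ω)
    rw [Subgroup.mem_centralizer_iff]
    intro v hv
    have : v ∈ Subgroup.centralizer (S : Set Ω) := (VS_le p S hv).2
    rw [Subgroup.mem_centralizer_iff] at this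
    exact (this x hx).symm
  by_cases h4a : ∃ a ∈ normalizerIn S U, a ∉ U ∧ ∀ y ∈ zpw p U, a * y = y * a
  · -- the Frattini factorization
    obtain ⟨a, haR, haU, hacomm⟩ := h4a
    obtain ⟨β, γ, hβ, hβU, hβfix, hγ, hfac⟩ := model_frattini hM U hUeq α hα₁
    have hβF : β ∈ F.Hom U := hβ.1
    have hγF : γ ∈ F.Hom _ := hγ.1
    have hXR : normalizerIn S U ⊓ Subgroup.centralizer (zpw p U) ≤ S := inf_le_left.trans hRS
    haveI : Finite (normalizerIn S U ⊓ Subgroup.centralizer (zpw p U) : Subgroup Ω) :=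
      finite_of_le hXR
    have hUX : U ≤ normalizerIn S U ⊓ Subgroup.centralizer (zpw p U) :=
      le_inf hUR (le_centralizer_zpw U)
    have hlt : Nat.card U <
        Nat.card (normalizerIn S U ⊓ Subgroup.centralizer (zpw p U) : Subgroup Ω) :=
      card_lt_of_not_le hUX (fun h => haU (h ⟨haR, mem_centralizer_zpw_of_comm hacomm⟩))
    have hγE := big _ γ hγF hlt
    have hVU : VS p S ≤ U := fun v hv => zIn_le U (hZU (VS_le p S hv))
    have hβE : β ∈ E.Hom U := by
      apply hc U β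
      refine ⟨hβF, fun x hx => hcenS x (hUS hx), fun x => hcenS _ (hom_mem_S F hβF x), ?_⟩
      have e : U = U ⊔ VS p S := (sup_eq_left.mpr hVU).symm
      refine ⟨β.comp (Subgroup.inclusion e.ge), cast_mem F e hβF, fun x => rfl, ?_⟩
      intro x
      have h1 := fix_VS hVU β (fun z hz hzU => hβfix (z ^ p) ⟨z, hZU hz, rfl⟩ hzU) x x.2
      exact h1
    have hβX : ∀ x : U, β x ∈ normalizerIn S U ⊓ Subgroup.centralizer (zpw p U) :=
      fun x => hUX (hβU x)
    have hcomp := E.comp_mem hβE hγE hβX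
    have e : γ.comp (β.codRestrict _ hβX) = α := by
      ext x
      obtain ⟨hx, hx2⟩ := hfac x
      exact hx2.symm
    rwa [e] at hcomp
  · -- `J(N_S(U)) ≤ U`
    have hdich := model_dichotomy hM
    rw [← hUeq] at hdich
    have hJU : thompsonSubgroupAOf (normalizerIn S U) ≤ U := by
      rcases hdich with h | h
      · exact h
      · exact absurd h h4a
    have hJeq : thompsonSubgroupAOf U = thompsonSubgroupAOf (normalizerIn S U) :=
      thompsonAOf_eq_of_le' hUR hJU
    have hJUU : thompsonSubgroupAOf U ≤ U := induced_le WJ U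
    have hαJ : α ∈ F.normalizerHom (thompsonSubgroupAOf U) U :=
      aut_mem_normalizerHom F hα hJUU
        (Subgroup.le_normalizer.trans (normalizer_le_normalizer_thompsonAOf U)) hαU
        (aut_thompson_mem F hα hαU)
    by_cases hReq : normalizerIn S U = S
    · rw [hJeq, hReq] at hαJ
      exact hn U α hαJ
    by_cases hJQ : thompsonSubgroupAOf (normalizerIn S U) ≤ F.core
    swap
    · rw [hJeq] at hαJ
      exact chain_claim hS F hF IH E hc hn F.core hQmax _ (normalizerIn S U) hRS (hQU.trans hUR)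
        hJQ hwp' rfl U α hαJ
    -- the bad case
    have hcenQ' : ∀ x ∈ normalizerIn S U, (∀ q ∈ F.core, x * q = q * x) → x ∈ F.core :=
      fun x hxR hx => mem_of_centralizes_of_thompson_le hJQ hxR hx
    have hcomm_of : ∀ x ∈ centralizerIn S F.core, ∀ q ∈ F.core, x * q = q * x := by
      intro x hx q hq
      have hx2 : x ∈ Subgroup.centralizer ((F.core : Subgroup Ω) : Set Ω) := hx.2
      exact ((Subgroup.mem_centralizer_iff.mp hx2) q hq).symm
    have hXU : centralizerIn S F.core ≤ U := by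
      apply le_of_inf_normalizer_le hS (centralizerIn_le S _) hUS
        (le_normalizer_centralizerIn (stronglyClosed_le_normalizer F hsc))
      intro x hx hxN
      exact hQU (hcenQ' x ⟨hx.1, hxN⟩ (hcomm_of x hx))
    have hcenQ : centralizerIn S F.core ≤ F.core :=
      fun x hx => hcenQ' x (hUR (hXU hx)) (hcomm_of x hx)
    by_cases hJS : thompsonSubgroupAOf S ≤ F.core
    · have h1 : thompsonSubgroupAOf U = thompsonSubgroupAOf S :=
        thompsonAOf_eq_of_le' hUS (hJS.trans hQU)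
      rw [h1] at hαJ
      exact hn U α hαJ
    · have hzz : zIn U ≤ zIn F.core := by
        intro z hz
        rw [mem_zIn] at hz
        have hzc : z ∈ centralizerIn S F.core := by
          refine ⟨hUS hz.1, ?_⟩
          show z ∈ Subgroup.centralizer ((F.core : Subgroup Ω) : Set Ω)
          rw [Subgroup.mem_centralizer_iff]
          intro q hq
          exact hz.2 q (hQU hq)
        rw [mem_zIn]
        exact ⟨hcenQ hzc, fun y hy => hz.2 y (hQU hy)⟩
      have hzpw : zpw p U ⊆ zpw p F.core := by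
        rintro y ⟨z, hz, rfl⟩
        exact ⟨z, hzz hz, rfl⟩
      have hSN : S ≤ Subgroup.normalizer
          ((S ⊓ Subgroup.centralizer (zpw p F.core) : Subgroup Ω) : Set Ω) :=
        le_normalizer_centralizer_zpw (stronglyClosed_le_normalizer F hsc)
      have hSKU : S ⊓ Subgroup.centralizer (zpw p F.core) ≤ U := by
        apply le_of_inf_normalizer_le hS inf_le_left hUS hSN
        intro x hx hxN
        by_contra hxU
        apply h4a
        refine ⟨x, ⟨hx.1, hxN⟩, hxU, fun y hy => ?_⟩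
        exact ((Subgroup.mem_centralizer_iff.mp hx.2) y (hzpw hy)).symm
      have hαQ := aut_normal_mem F hα hsc hQU
      have hαSK : ∀ x : U, (x : Ω) ∈ S ⊓ Subgroup.centralizer (zpw p F.core) →
          α x ∈ S ⊓ Subgroup.centralizer (zpw p F.core) :=
        fun x hx => ⟨hom_mem_S F hα x, aut_centralizer_zpw_mem F hα hQU hαQ x hx.2⟩
      have hαSK' : α ∈ F.normalizerHom (S ⊓ Subgroup.centralizer (zpw p F.core)) U :=
        aut_mem_normalizerHom F hα hSKU (hUS.trans hSN) hαU hαSK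
      exact factSK hS F hF IH E hc hn F.core hQ hQmax hcenQ hJS U α hαSK'

/-- the induction step -/
theorem gen_step [Finite S] [Fact p.Prime] (hS : IsPGroup p S) (F : FusionSystem S)
    (hF : F.IsSaturated p)
    (IH : ∀ (S' : Subgroup Ω) [Finite S'], IsPGroup p S' → ∀ F' : FusionSystem S',
      F'.IsSaturated p → mu F' < mu F → GenBy p F') : GenBy p F := by
  intro T E hc hn
  apply mem_propagation hS F E {U | IsWP WJ F U}
  · intro P hP
    obtain ⟨U, hcU, hwp⟩ := exists_wp_conj hS WJ_map F hF hP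
    have hfn : F.IsFullyNormalized U := ((isWP_iff F U).mp hwp).1
    exact ⟨U, hwp, hcU, (fc_fa_of_fullyNormalized hS F hF hfn).2,
      receptive_of_fullyNormalized hS F hF hfn⟩
  · intro U hU big ψ hψ hψr
    exact aut_step hS F hF IH E hc hn hU big ψ hψ hψr

theorem gen_main [Fact p.Prime] : ∀ (n : ℕ) (S : Subgroup Ω) [Finite S], IsPGroup p S →
    ∀ F : FusionSystem S, F.IsSaturated p → mu F = n → GenBy p F := by
  intro n
  induction n using Nat.strong_induction_on with
  | _ n ih =>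
  intro S _ hS F hF hn
  apply gen_step hS F hF
  intro S' _ hS' F' hF' hlt
  exact ih (mu F') (hn ▸ hlt) S' hS' F' hF' rfl

end

end Cfsg.Agent.Lib.Helper51
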