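import Mathlib

/-!
# Shared core of the leaves Ao4 / At2 of S5165 (owner helper87): decomposition of a cycle of
prime power length `p ^ (j + 1)` as `t * w`, `t` of order `p`, `w` a cycle of length `p ^ j`, both
inside one `p`-subgroup supported on the support of the cycle.
-/

set_option autoImplicit false

namespace Cfsg.Agent.Lib.Helper87.AltF

open Equiv

/-- a subgroup generated by pairwise commuting elements killed by `p ^ n` is a `p`-group -/
theorem cyc_isPGroup_closure {G : Type*} [Group G] (p n : ℕ) (S : Set G)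
    (hcomm : ∀ x ∈ S, ∀ y ∈ S, x * y = y * x) (hpow : ∀ x ∈ S, x ^ (p ^ n) = 1) :
    IsPGroup p (Subgroup.closure S) := by
  have hc : ∀ x ∈ Subgroup.closure S, ∀ y ∈ Subgroup.closure S, x * y = y * x := by
    intro x hx y hy
    have := (Subgroup.isMulCommutative_closure hcomm).is_comm.comm ⟨x, hx⟩ ⟨y, hy⟩
    exact congrArg Subtype.val this
  have key : ∀ b ∈ Subgroup.closure S, b ^ (p ^ n) = 1 := by
    intro b hb
    induction hb using Subgroup.closure_induction with
    | mem x hx => exact hpow x hx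
    | one => simp
    | mul x y hx hy ihx ihy =>
      rw [(show Commute x y from hc x hx y hy).mul_pow, ihx, ihy, one_mul]
    | inv x hx ih => rw [inv_pow, ih, inv_one]
  rintro ⟨b, hb⟩
  exact ⟨n, Subtype.ext (by simpa using key b hb)⟩

/-- for a cycle `z` and a point `x₀` it moves, `z ^ k` fixes `x₀` only if `z ^ k = 1` -/
theorem cyc_zpow_eq_one {Z : Type} [Fintype Z] [DecidableEq Z] {z : Perm Z} (hz : z.IsCycle)
    {x₀ : Z} (hx₀ : z x₀ ≠ x₀) (k : ℤ) (hk : (z ^ k) x₀ = x₀) : z ^ k = 1 := by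
  obtain ⟨n, rfl | rfl⟩ := Int.eq_nat_or_neg k
  · rw [zpow_natCast] at hk ⊢
    exact (hz.pow_eq_one_iff' hx₀).2 hk
  · rw [zpow_neg, zpow_natCast] at hk ⊢
    rw [inv_eq_one]
    apply (hz.pow_eq_one_iff' hx₀).2
    rw [Perm.inv_eq_iff_eq] at hk
    exact hk.symm

theorem ppow_cycle_decomp (Z : Type) [Fintype Z] [DecidableEq Z] (p : ℕ) [Fact p.Prime] (j : ℕ)
    (hj : 1 ≤ j) (z : Perm Z) (hz : z.IsCycle) (hzs : z.support.card = p ^ (j + 1)) :
    ∃ (t w : Perm Z) (Q : Subgroup (Perm Z)), z = t * w ∧ orderOf t = p ∧ w.IsCycle ∧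
      w.support.card = p ^ j ∧ IsPGroup p Q ∧ t ∈ Q ∧ w ∈ Q ∧ z ∈ Q ∧
      ∀ q ∈ Q, q.support ⊆ z.support := by
  have hp : p.Prime := Fact.out
  have hp1 : 1 < p := hp.one_lt
  have hN : orderOf z = p ^ (j + 1) := by rw [hz.orderOf, hzs]
  obtain ⟨x₀, hx₀, -⟩ := id hz
  -- divisibility from fixing `x₀`
  have H1 : ∀ k : ℤ, (z ^ k) x₀ = x₀ → ((p : ℤ) ^ (j + 1)) ∣ k := by
    intro k hk
    have h1 := cyc_zpow_eq_one hz hx₀ k hk
    have h2 := (orderOf_dvd_iff_zpow_eq_one (x := z) (i := k)).2 h1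
    rw [hN] at h2
    exact_mod_cast h2
  have hpN : p < p ^ (j + 1) := by
    calc p = p ^ 1 := (pow_one p).symm
      _ < p ^ (j + 1) := Nat.pow_lt_pow_right hp1 (by omega)
  obtain ⟨u, hu⟩ : ∃ u : Perm Z, u = z ^ p := ⟨_, rfl⟩
  have hux₀ : u x₀ ≠ x₀ := by
    intro h
    rw [hu] at h
    have h1 := (hz.pow_eq_one_iff' hx₀).2 h
    have h2 := orderOf_dvd_of_pow_eq_one h1
    rw [hN] at h2
    exact absurd (Nat.le_of_dvd hp.pos h2) (not_le.mpr hpN)
  have huz : ∀ i : ℤ, u ^ i = z ^ ((p : ℤ) * i) := by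
    intro i
    rw [hu, ← zpow_natCast, ← zpow_mul]
  obtain ⟨w, hw⟩ : ∃ w : Perm Z, w = u.cycleOf x₀ := ⟨_, rfl⟩
  have hwc : w.IsCycle := by
    rw [hw]
    exact Perm.isCycle_cycleOf u hux₀
  have hwmem : w ∈ u.cycleFactorsFinset := by
    rw [hw, Perm.cycleOf_mem_cycleFactorsFinset_iff, Perm.mem_support]
    exact hux₀
  have hwx₀ : w x₀ ≠ x₀ := by
    rw [hw, Perm.cycleOf_apply_self]
    exact hux₀
  -- the order of `w`
  have H4 : ∀ m : ℕ, w ^ m = 1 ↔ p ^ j ∣ m := by
    intro m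
    rw [hwc.pow_eq_one_iff' hwx₀, hw, Perm.cycleOf_pow_apply_self, hu, ← pow_mul,
      ← hz.pow_eq_one_iff' hx₀, ← orderOf_dvd_iff_pow_eq_one, hN, pow_succ, mul_comm (p ^ j) p]
    exact Nat.mul_dvd_mul_iff_left hp.pos
  have hwo : orderOf w = p ^ j := by
    apply Nat.dvd_antisymm
    · exact orderOf_dvd_of_pow_eq_one ((H4 _).2 dvd_rfl)
    · exact (H4 _).1 (pow_orderOf_eq_one w)
  have hws : w.support.card = p ^ j := by rw [← hwc.orderOf, hwo]
  -- same cycle
  have H2 : ∀ n : ℤ, u.SameCycle x₀ ((z ^ n) x₀) ↔ (p : ℤ) ∣ n := by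
    intro n
    constructor
    · rintro ⟨i, hi⟩
      rw [huz] at hi
      have h1 : (z ^ (-n + (p : ℤ) * i)) x₀ = x₀ := by
        rw [zpow_add, Perm.mul_apply, hi, ← Perm.mul_apply, ← zpow_add]
        simp
      have h2 := H1 _ h1
      have h3 : (p : ℤ) ∣ (p : ℤ) ^ (j + 1) := dvd_pow_self _ (by omega)
      have h4 := h3.trans h2
      have h5 : (p : ℤ) ∣ -n := (Int.dvd_add_left (dvd_mul_right _ _)).1 h4
      exact (Int.dvd_neg).1 h5
    · rintro ⟨m, rfl⟩
      exact ⟨m, by rw [huz]⟩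
  obtain ⟨t, ht⟩ : ∃ t : Perm Z, t = z * w⁻¹ := ⟨_, rfl⟩
  have H3a : ∀ n : ℤ, (p : ℤ) ∣ n → t ((z ^ n) x₀) = (z ^ (n + 1 - p)) x₀ := by
    intro n hn
    rw [ht, hw, Perm.cycleOf_inv, Perm.mul_apply, Perm.cycleOf_apply,
      if_pos (Perm.sameCycle_inv.2 ((H2 n).2 hn)), hu]
    rw [← Perm.mul_apply, ← Perm.mul_apply]
    congr 1
    rw [show n + 1 - (p : ℤ) = 1 + (-(p : ℤ) + n) by ring, zpow_add, zpow_add, zpow_one, zpow_neg,
      zpow_natCast, mul_assoc]
  have H3b : ∀ n : ℤ, ¬ (p : ℤ) ∣ n → t ((z ^ n) x₀) = (z ^ (n + 1)) x₀ := by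
    intro n hn
    rw [ht, hw, Perm.cycleOf_inv, Perm.mul_apply, Perm.cycleOf_apply,
      if_neg (fun h => hn ((H2 n).1 (Perm.sameCycle_inv.1 h)))]
    rw [← Perm.mul_apply]
    congr 1
    rw [add_comm, zpow_add, zpow_one]
  have HA : ∀ (k : ℕ) (q : ℤ) (r : ℕ), 1 ≤ r → r + k ≤ p →
      (t ^ k) ((z ^ ((p : ℤ) * q + r)) x₀) = (z ^ ((p : ℤ) * q + r + k)) x₀ := by
    intro k
    induction k with
    | zero => intro q r _ _; simp
    | succ k ih =>
      intro q r hr hrk
      rw [pow_succ', Perm.mul_apply, ih q r hr (by omega), H3b]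
      · congr 2
        push_cast
        ring
      · intro hdvd
        have h1 : (p : ℤ) ∣ ((r + k : ℕ) : ℤ) := by
          have : (p : ℤ) * q + r + k = (p : ℤ) * q + ((r + k : ℕ) : ℤ) := by push_cast; ring
          rw [this] at hdvd
          exact (Int.dvd_add_right (dvd_mul_right _ _)).1 hdvd
        have h2 : p ∣ r + k := Int.natCast_dvd_natCast.1 h1
        have := Nat.le_of_dvd (by omega) h2
        omega
  -- the subgroups
  obtain ⟨B, hB⟩ : ∃ B : Subgroup (Perm Z),
      B = Subgroup.closure (u.cycleFactorsFinset : Set (Perm Z)) := ⟨_, rfl⟩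
  have hupow : u ^ (p ^ j) = 1 := by
    rw [hu, ← pow_mul, ← pow_succ', ← hN]
    exact pow_orderOf_eq_one z
  have hBp : IsPGroup p B := by
    rw [hB]
    apply cyc_isPGroup_closure p j
    · intro a ha b hb
      by_cases hab : a = b
      · rw [hab]
      · exact Perm.cycleFactorsFinset_mem_commute u ha hb hab
    · intro c hc
      have hc' : c ∈ u.cycleFactorsFinset := hc
      have hcc : c.IsCycle := (Perm.mem_cycleFactorsFinset_iff.1 hc').1
      obtain ⟨y, hy, -⟩ := id hcc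
      have hyc : y ∈ c.support := Perm.mem_support.2 hy
      have hceq : c = u.cycleOf y := Perm.cycle_is_cycleOf hyc hc'
      rw [hcc.pow_eq_one_iff' hy]
      conv_lhs => rw [hceq]
      rw [Perm.cycleOf_pow_apply_self, hupow, Perm.one_apply]
  have hconj : ∀ g : Perm Z, g * u = u * g → ∀ b ∈ B, g * b * g⁻¹ ∈ B := by
    intro g hg b hb
    rw [hB] at hb ⊢
    induction hb using Subgroup.closure_induction with
    | mem c hc =>
      apply Subgroup.subset_closure
      have h1 := (Perm.mem_cycleFactorsFinset_conj u g c).2 hc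
      have h2 : g * u * g⁻¹ = u := by rw [hg, mul_inv_cancel_right]
      rw [h2] at h1
      exact h1
    | one => simp
    | mul x y _ _ ihx ihy =>
      have : g * (x * y) * g⁻¹ = (g * x * g⁻¹) * (g * y * g⁻¹) := by group
      rw [this]
      exact mul_mem ihx ihy
    | inv x _ ih =>
      have : g * x⁻¹ * g⁻¹ = (g * x * g⁻¹)⁻¹ := by group
      rw [this]
      exact inv_mem ih
  have hzu : z * u = u * z := by
    rw [hu, ← pow_succ', ← pow_succ]
  have hzu' : z⁻¹ * u = u * z⁻¹ := by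
    rw [inv_mul_eq_iff_eq_mul, ← mul_assoc, hzu, mul_assoc, mul_inv_cancel, mul_one]
  have hznorm : Subgroup.zpowers z ≤ Subgroup.normalizer (B : Set (Perm Z)) := by
    rw [Subgroup.zpowers_le, Subgroup.mem_normalizer_iff]
    intro b
    constructor
    · exact hconj z hzu b
    · intro hb
      have := hconj z⁻¹ hzu' _ hb
      rw [inv_inv] at this
      have e : z⁻¹ * (z * b * z⁻¹) * z = b := by group
      rw [e] at this
      exact this
  have hzp : IsPGroup p (Subgroup.zpowers z) := by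
    apply IsPGroup.of_card (n := j + 1)
    rw [Nat.card_zpowers, hN]
  obtain ⟨Q, hQ⟩ : ∃ Q : Subgroup (Perm Z), Q = Subgroup.zpowers z ⊔ B := ⟨_, rfl⟩
  have hQp : IsPGroup p Q := by
    rw [hQ]
    exact hzp.to_sup_of_normal_right' hBp hznorm
  have hzQ : z ∈ Q := by
    rw [hQ]
    exact (le_sup_left : Subgroup.zpowers z ≤ _) (Subgroup.mem_zpowers z)
  have hwQ : w ∈ Q := by
    rw [hQ]
    apply (le_sup_right : B ≤ _)
    rw [hB]
    exact Subgroup.subset_closure hwmem
  have htQ : t ∈ Q := by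
    rw [ht]
    exact mul_mem hzQ (inv_mem hwQ)
  -- fixed points
  have hQF : Q ≤ fixingSubgroup (Perm Z) {y : Z | z y = y} := by
    rw [hQ]
    apply sup_le
    · rw [Subgroup.zpowers_le, mem_fixingSubgroup_iff]
      intro y hy
      exact hy
    · rw [hB, Subgroup.closure_le]
      intro c hc
      have hc' : c ∈ u.cycleFactorsFinset := hc
      rw [SetLike.mem_coe, mem_fixingSubgroup_iff]
      intro y hy
      have hy' : z y = y := hy
      rw [Perm.smul_def]
      by_contra hcy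
      have h1 : y ∈ c.support := Perm.mem_support.2 hcy
      have h2 : y ∈ u.support := Perm.mem_cycleFactorsFinset_support_le hc' h1
      rw [hu] at h2
      have h3 : y ∈ z.support := Perm.support_pow_le z p h2
      exact (Perm.mem_support.1 h3) hy'
  have hfix : ∀ q ∈ Q, ∀ y : Z, z y = y → q y = y := by
    intro q hq y hy
    have := (mem_fixingSubgroup_iff (Perm Z)).1 (hQF hq) y hy
    exact this
  -- `t ^ p = 1`
  have htp : t ^ p = 1 := by
    ext y
    rw [Perm.one_apply]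
    by_cases hy : z y = y
    · exact hfix _ (pow_mem htQ p) y hy
    · obtain ⟨n, hn⟩ := hz.exists_zpow_eq hx₀ hy
      rw [← hn]
      obtain ⟨q, hq⟩ : ∃ q : ℤ, q = n / (p : ℤ) := ⟨_, rfl⟩
      have hpZ : (0 : ℤ) < p := by exact_mod_cast hp.pos
      have hr0 : 0 ≤ n % (p : ℤ) := Int.emod_nonneg _ hpZ.ne'
      have hrp : n % (p : ℤ) < p := Int.emod_lt_of_pos _ hpZ
      obtain ⟨r, hr⟩ : ∃ r : ℕ, (r : ℤ) = n % (p : ℤ) := ⟨(n % (p : ℤ)).toNat, by omega⟩
      have hnqr : n = (p : ℤ) * q + r := by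
        rw [hq, hr]
        exact (Int.mul_ediv_add_emod n p).symm
      have hrp' : r < p := by
        have : (r : ℤ) < p := by rw [hr]; exact hrp
        exact_mod_cast this
      rcases Nat.eq_zero_or_pos r with h0 | h0
      · -- `p ∣ n`
        subst h0
        have hn' : n = (p : ℤ) * q := by simpa using hnqr
        have e1 : p = (p - 1) + 1 := by omega
        have e2 : t ^ p = t ^ (p - 1) * t := by
          conv_lhs => rw [e1]
          exact pow_succ t (p - 1)
        rw [e2, Perm.mul_apply, H3a n (by rw [hn']; exact dvd_mul_right _ _)]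
        have e3 : n + 1 - (p : ℤ) = (p : ℤ) * (q - 1) + ((1 : ℕ) : ℤ) := by
          rw [hn']; push_cast; ring
        rw [e3, HA (p - 1) (q - 1) 1 le_rfl (by omega)]
        congr 2
        rw [hn']
        have : ((p - 1 : ℕ) : ℤ) = (p : ℤ) - 1 := by
          rw [Nat.cast_sub (by omega)]; simp
        rw [this]
        push_cast
        ring
      · have e1 : p = (r - 1) + (1 + (p - r)) := by omega
        have e2 : t ^ p = t ^ (r - 1) * (t * t ^ (p - r)) := by
          conv_lhs => rw [e1]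
          rw [pow_add, pow_add, pow_one]
        rw [e2, Perm.mul_apply, Perm.mul_apply, hnqr, HA (p - r) q r h0 (by omega)]
        have e3 : (p : ℤ) * q + r + ((p - r : ℕ) : ℤ) = (p : ℤ) * (q + 1) := by
          rw [Nat.cast_sub (by omega)]; ring
        rw [e3, H3a _ (dvd_mul_right _ _)]
        have e4 : (p : ℤ) * (q + 1) + 1 - p = (p : ℤ) * q + ((1 : ℕ) : ℤ) := by
          push_cast; ring
        rw [e4, HA (r - 1) q 1 le_rfl (by omega)]
        congr 2
        have : ((r - 1 : ℕ) : ℤ) = (r : ℤ) - 1 := by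
          rw [Nat.cast_sub (by omega)]; simp
        rw [this]
        push_cast
        ring
  have htne : t ≠ 1 := by
    intro h1
    rw [ht, mul_inv_eq_one] at h1
    rw [h1, hws] at hzs
    have : p ^ j < p ^ (j + 1) := Nat.pow_lt_pow_right hp1 (by omega)
    omega
  refine ⟨t, w, Q, ?_, orderOf_eq_prime htp htne, hwc, hws, hQp, htQ, hwQ, hzQ, ?_⟩
  · rw [ht, inv_mul_cancel_right]
  · intro q hq y hy
    rw [Perm.mem_support] at hy ⊢
    intro hzy
    exact hy (hfix q hq y hzy)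

end Cfsg.Agent.Lib.Helper87.AltF
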