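import Mathlib
import Cfsg.Agent.Lib.Helper87.AltModel
import Cfsg.Agent.Lib.Helper51.AltFCyc

/-!
# Leaf Ao4 of S5165 (owner helper87): a closed family containing all elements of order `p`
(`p` odd) contains every cycle of `p`-power length.
-/

set_option autoImplicit false

namespace Cfsg.Agent.Lib.Helper87.AltF

open Equiv

/-- a `p`-subgroup of a symmetric group, `p` odd, consists of even permutations -/
theorem ao4_le_alternating {Z : Type} [Fintype Z] [DecidableEq Z] {p : ℕ} [Fact p.Prime]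
    (hp : p ≠ 2) (Q : Subgroup (Perm Z)) (hQ : IsPGroup p Q) : Q ≤ alternatingGroup Z := by
  intro q hq
  obtain ⟨k, hk⟩ := hQ ⟨q, hq⟩
  have hk' : q ^ (p ^ k) = 1 := by
    have := congrArg Subtype.val hk
    simpa using this
  rw [Perm.mem_alternatingGroup]
  have hodd : Odd (p ^ k) := ((Fact.out : p.Prime).eq_two_or_odd'.resolve_left hp).pow
  have h1 : Perm.sign q ^ (p ^ k) = 1 := by
    rw [← map_pow, hk', map_one]
  rcases Int.units_eq_one_or (Perm.sign q) with h | h
  · exact h
  · rw [h, hodd.neg_one_pow] at h1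
    exact absurd h1 (by decide)

theorem closedFam_ppow_cycle_mem (Z : Type) [Fintype Z] [DecidableEq Z] (p : ℕ) [Fact p.Prime]
    (hp : p ≠ 2) (𝒯 : Set (Perm Z)) (h𝒯 : ClosedFam p (alternatingGroup Z) 𝒯)
    (h3 : ∀ w : Perm Z, orderOf w = p → w ∈ 𝒯) :
    ∀ (j : ℕ) (c : Perm Z), c.IsCycle → c.support.card = p ^ j → c ∈ 𝒯 := by
  intro j
  induction j with
  | zero =>
    intro c hc hcs
    have := hc.two_le_card_support
    rw [hcs] at this
    simp at this
  | succ j ih =>
    intro c hc hcs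
    rcases Nat.eq_zero_or_pos j with h0 | h0
    · subst h0
      apply h3
      rw [hc.orderOf, hcs]
      simp
    · obtain ⟨t, w, Q, hctw, hto, hwc, hws, hQp, htQ, hwQ, -, -⟩ :=
        ppow_cycle_decomp Z p j h0 c hc hcs
      rw [hctw]
      exact h𝒯.2.2.2.1 Q hQp (ao4_le_alternating hp Q hQp) t htQ w hwQ (h3 t hto) (ih w hwc hws)

end Cfsg.Agent.Lib.Helper87.AltF
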