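import Mathlib

/-!
# Sub-lemma of leaf At2 of S5165 (for helper33): a reflection inverting a cycle.
-/

set_option autoImplicit false

namespace Cfsg.Agent.Lib.Helper87.AltF

open Equiv

/-- for a cycle `c` and a point `x₀` it moves, `c ^ k` fixes `x₀` only if `c ^ k = 1` -/
theorem at2r_zpow_eq_one {Z : Type} [Fintype Z] [DecidableEq Z] {c : Perm Z} (hc : c.IsCycle)
    {x₀ : Z} (hx₀ : c x₀ ≠ x₀) (k : ℤ) (hk : (c ^ k) x₀ = x₀) : c ^ k = 1 := by
  obtain ⟨n, rfl | rfl⟩ := Int.eq_nat_or_neg k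
  · rw [zpow_natCast] at hk ⊢
    exact (hc.pow_eq_one_iff' hx₀).2 hk
  · rw [zpow_neg, zpow_natCast] at hk ⊢
    rw [inv_eq_one]
    apply (hc.pow_eq_one_iff' hx₀).2
    rw [Perm.inv_eq_iff_eq] at hk
    exact hk.symm

/-- equal images of `x₀` under powers of a cycle give equal images under the inverse powers -/
theorem at2r_neg_eq {Z : Type} [Fintype Z] [DecidableEq Z] {c : Perm Z} (hc : c.IsCycle)
    {x₀ : Z} (hx₀ : c x₀ ≠ x₀) (m k : ℤ) (h : (c ^ m) x₀ = (c ^ k) x₀) :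
    (c ^ (-m)) x₀ = (c ^ (-k)) x₀ := by
  have h1 : (c ^ (-k + m)) x₀ = x₀ := by
    rw [zpow_add, Perm.mul_apply, h, ← Perm.mul_apply, ← zpow_add]
    simp
  have h2 := at2r_zpow_eq_one hc hx₀ _ h1
  have h3 : c ^ (-m) = c ^ (-k) := by
    have : c ^ (-k) = c ^ (-m) * c ^ (-k + m) := by
      rw [← zpow_add]
      congr 1
      ring
    rw [this, h2, mul_one]
  rw [h3]

/-- the reflection of a cycle through a point -/
noncomputable def at2r_refl {Z : Type} [Fintype Z] [DecidableEq Z] (c : Perm Z) (x₀ : Z) (z : Z) : Z :=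
  open Classical in
  if h : c.SameCycle x₀ z then (c ^ (-(Classical.choose h))) x₀ else z

theorem at2r_refl_zpow {Z : Type} [Fintype Z] [DecidableEq Z] {c : Perm Z} (hc : c.IsCycle)
    {x₀ : Z} (hx₀ : c x₀ ≠ x₀) (k : ℤ) :
    at2r_refl c x₀ ((c ^ k) x₀) = (c ^ (-k)) x₀ := by
  have h : c.SameCycle x₀ ((c ^ k) x₀) := ⟨k, rfl⟩
  unfold at2r_refl
  rw [dif_pos h]
  exact at2r_neg_eq hc hx₀ _ _ (Classical.choose_spec h)

theorem at2r_refl_of_not {Z : Type} [Fintype Z] [DecidableEq Z] {c : Perm Z} {x₀ z : Z}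
    (h : ¬ c.SameCycle x₀ z) : at2r_refl c x₀ z = z := by
  unfold at2r_refl
  rw [dif_neg h]

theorem at2r_exists_reflection {Z : Type} [Fintype Z] [DecidableEq Z] (c : Equiv.Perm Z)
    (hc : c.IsCycle) :
    ∃ a : Equiv.Perm Z, a * a = 1 ∧ a * c * a⁻¹ = c⁻¹ ∧ ∀ z, c z = z → a z = z := by
  obtain ⟨x₀, hx₀, hsame⟩ := id hc
  have hinv : Function.Involutive (at2r_refl c x₀) := by
    intro z
    by_cases h : c.SameCycle x₀ z
    · obtain ⟨k, rfl⟩ := h
      rw [at2r_refl_zpow hc hx₀, at2r_refl_zpow hc hx₀, neg_neg]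
    · rw [at2r_refl_of_not h, at2r_refl_of_not h]
  have hfixed : ∀ z, c z = z → ¬ c.SameCycle x₀ z := by
    intro z hz h
    exact hx₀ (h.apply_eq_self_iff.2 hz)
  refine ⟨hinv.toPerm _, ?_, ?_, ?_⟩
  · ext z
    simp only [Perm.mul_apply, Function.Involutive.coe_toPerm, Perm.one_apply]
    exact hinv z
  · have hself : (hinv.toPerm _)⁻¹ = hinv.toPerm _ := by
      ext z
      rw [Perm.inv_eq_iff_eq]
      simp only [Function.Involutive.coe_toPerm]
      exact (hinv z).symm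
    rw [hself]
    ext z
    simp only [Perm.mul_apply, Function.Involutive.coe_toPerm]
    by_cases h : c.SameCycle x₀ z
    · obtain ⟨k, rfl⟩ := h
      rw [at2r_refl_zpow hc hx₀]
      have e1 : c ((c ^ (-k)) x₀) = (c ^ (-(k - 1))) x₀ := by
        rw [← Perm.mul_apply]
        congr 1
        rw [show -(k - 1) = 1 + -k by ring, zpow_add, zpow_one]
      rw [e1, at2r_refl_zpow hc hx₀, neg_neg, sub_eq_add_neg, add_comm, zpow_add, zpow_neg_one,
        Perm.mul_apply]
    · have hz : c z = z := by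
        by_contra hne
        exact h (hsame hne)
      rw [at2r_refl_of_not h, hz, at2r_refl_of_not h]
      rw [Perm.eq_inv_iff_eq, hz]
  · intro z hz
    simp only [Function.Involutive.coe_toPerm]
    exact at2r_refl_of_not (hfixed z hz)

end Cfsg.Agent.Lib.Helper87.AltF
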