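import Cfsg.Agent.Lib.Helper88.AovDefs
import Cfsg.Agent.Lib.Helper88.Centric

/-!
# Leaf A1 of S5243 (owner helper88): `HH_of_isConj`
-/

set_option autoImplicit false

namespace Cfsg.Agent.Lib.Helper88.Aov

open Cfsg Cfsg.FusionSystem Cfsg.Agent.Lib.Helper88

variable {Ω : Type*} [Group Ω] {S T : Subgroup Ω}

theorem h51_img_inv_img (α : MulAut T) {P : Subgroup Ω} (hP : P ≤ T) :
    img α⁻¹ (img α P) = P := by
  rw [img_img, inv_mul_cancel, img_one hP]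

theorem h51_img_img_inv (α : MulAut T) {P : Subgroup Ω} (hP : P ≤ T) :
    img α (img α⁻¹ P) = P := by
  rw [img_img, mul_inv_cancel, img_one hP]

/-- the image of an `E`-centric subgroup under an element of `Aut_F(T)` is `E`-centric, when
`E` is `Aut_F(T)`-invariant. -/
theorem h51_isCentric_img {F : FusionSystem S} {E : FusionSystem T} (hinv : InvProp E F)
    {Q : Subgroup Ω} (hQ : E.IsCentric Q) {α : MulAut T} (hα : α ∈ F.autGroup T) :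
    E.IsCentric (img α Q) := by
  have hQT : Q ≤ T := hQ.1
  have hαi : α⁻¹ ∈ F.autGroup T := (F.autGroup T).inv_mem hα
  refine ⟨img_le α Q, ?_⟩
  rintro R ⟨χ, hχ, rfl⟩
  have hχT : ∀ x, χ x ∈ T := (E.le_of_mem hχ).2
  obtain ⟨χ', hχ', hχ'e⟩ := transport_hom hinv (img_le α Q) hχ hαi
    (P' := Q) (h51_img_inv_img α hQT).symm
  -- `χ'.range = img α⁻¹ χ.range`
  have hr : χ'.range = img α⁻¹ χ.range := by
    ext z
    constructor
    · rintro ⟨y, rfl⟩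
      -- `y ∈ Q`, `y = α⁻¹ (α y)`
      have hy : ((α ⟨(y : Ω), hQT y.2⟩ : T) : Ω) ∈ img α Q :=
        mem_img.mpr ⟨⟨y, hQT y.2⟩, y.2, rfl⟩
      have hmem : ((α⁻¹ ⟨((α ⟨(y : Ω), hQT y.2⟩ : T) : Ω), img_le α Q hy⟩ : T) : Ω) ∈ Q := by
        have : (⟨((α ⟨(y : Ω), hQT y.2⟩ : T) : Ω), img_le α Q hy⟩ : T) = α ⟨(y : Ω), hQT y.2⟩ :=
          rfl
        rw [this, MulAut.inv_apply_self]
        exact y.2
      have h1 := hχ'e ⟨_, hy⟩ (hχT _) hmem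
      have e1 : (⟨_, hmem⟩ : Q) = y := by
        apply Subtype.ext
        show ((α⁻¹ (α ⟨(y : Ω), hQT y.2⟩) : T) : Ω) = y
        rw [MulAut.inv_apply_self]
      rw [e1] at h1
      rw [h1]
      exact mem_img.mpr ⟨⟨χ ⟨_, hy⟩, hχT _⟩, ⟨_, rfl⟩, rfl⟩
    · intro hz
      obtain ⟨w, ⟨x, hx⟩, rfl⟩ := mem_img.mp hz
      -- `w = χ x`, `x ∈ img α Q`
      have hxT : (x : Ω) ∈ T := img_le α Q x.2
      have hmem : ((α⁻¹ ⟨(x : Ω), hxT⟩ : T) : Ω) ∈ Q := by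
        obtain ⟨y, hy, hyx⟩ := mem_img.mp x.2
        have : (⟨(x : Ω), hxT⟩ : T) = α y := Subtype.ext hyx.symm
        rw [this, MulAut.inv_apply_self]
        exact hy
      have h1 := hχ'e x (hχT x) hmem
      refine ⟨⟨_, hmem⟩, ?_⟩
      rw [h1]
      congr 2
      exact Subtype.ext hx
  have hcent := hQ.2 _ ⟨χ', hχ', hr⟩
  intro c hc
  have hcT : c ∈ T := hc.1
  have hcc := Subgroup.mem_centralizer_iff.mp hc.2
  have h2 : ((α⁻¹ ⟨c, hcT⟩ : T) : Ω) ∈ centralizerIn T (img α⁻¹ χ.range) := by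
    refine ⟨(α⁻¹ ⟨c, hcT⟩).2, Subgroup.mem_centralizer_iff.mpr ?_⟩
    intro z hz
    obtain ⟨w, hw, rfl⟩ := mem_img.mp hz
    have h3 := hcc (w : Ω) hw
    have h4 : w * ⟨c, hcT⟩ = ⟨c, hcT⟩ * w := Subtype.ext h3
    have h5 := congrArg (fun t : T => ((α⁻¹ t : T) : Ω)) h4
    simpa using h5
  have h6 := hcent h2
  obtain ⟨w, hw, hwc⟩ := mem_img.mp h6
  have h7 : w = ⟨c, hcT⟩ := (α⁻¹).injective (Subtype.ext hwc)
  rw [h7] at hw
  exact hw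

variable [Finite S] {p : ℕ} [Fact p.Prime]
  {F : FusionSystem S} {E : FusionSystem T} {K : Subgroup (MulAut T)}

/-- A1. -/
theorem HH_of_isConj (h : Setup p F E K) {P P' : Subgroup Ω} (hP : P ∈ HH F E)
    (hc : F.IsConj P P') : P' ∈ HH F E := by
  obtain ⟨hPc, hPTc⟩ := hP
  refine ⟨isCentric_of_isConj F hPc hc, ?_⟩
  obtain ⟨φ, hφ, rfl⟩ := hc
  have hres := Cfsg.Agent.Lib.Helper87.restrict_mem F hφ (inf_le_left : P ⊓ T ≤ P)
  obtain ⟨α, hα, φ₀, hφ₀, hfac⟩ := h.hfrat (P ⊓ T) inf_le_right _ hres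
  have hφ₀T : ∀ x, φ₀ x ∈ T := (E.le_of_mem hφ₀).2
  have hQ₁c : E.IsCentric φ₀.range := isCentric_of_isConj E hPTc ⟨φ₀, hφ₀, rfl⟩
  have himg := h51_isCentric_img h.hinv hQ₁c hα
  have heq : φ.range ⊓ T = img α φ₀.range := by
    ext z
    constructor
    · rintro ⟨⟨x, rfl⟩, hzT⟩
      -- show `x ∈ T` by strong closure applied to the inverse of `φ`
      obtain ⟨ψ, hψ, hψe, -⟩ := Cfsg.Agent.Lib.Helper87.inv_exists F hφ rfl
      have hres2 := Cfsg.Agent.Lib.Helper87.restrict_mem F hψ (inf_le_left : φ.range ⊓ T ≤ φ.range)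
      have h1 := h.hT.2 (φ.range ⊓ T) inf_le_right _ hres2 ⟨φ x, ⟨x, rfl⟩, hzT⟩
      have h2 : ψ ⟨φ x, ⟨x, rfl⟩⟩ = x := hψe x ⟨x, rfl⟩
      have hxT : (x : Ω) ∈ T := by
        rw [← h2]
        exact h1
      have h3 := hfac ⟨x, x.2, hxT⟩ (hφ₀T _)
      refine mem_img.mpr ⟨⟨φ₀ ⟨x, x.2, hxT⟩, hφ₀T _⟩, ⟨_, rfl⟩, ?_⟩
      rw [← h3]
      rfl
    · intro hz
      obtain ⟨w, ⟨x, hx⟩, rfl⟩ := mem_img.mp hz
      have h3 := hfac x (hφ₀T x)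
      have e : (⟨φ₀ x, hφ₀T x⟩ : T) = w := Subtype.ext hx
      rw [e] at h3
      refine ⟨⟨Subgroup.inclusion inf_le_left x, ?_⟩, (α w).2⟩
      rw [← h3]
      rfl
  rw [heq]
  exact himg

end Cfsg.Agent.Lib.Helper88.Aov
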