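import Cfsg.Agent.Lib.Helper88.AovDefs
import Cfsg.Agent.Lib.Helper87.Saturation

/-!
# Leaf A3 of S5243 (owner helper88): `witness_pgroup`
-/

set_option autoImplicit false

namespace Cfsg.Agent.Lib.Helper88.Aov

open Cfsg Cfsg.FusionSystem Cfsg.Agent.Lib.Helper88

variable {Ω : Type*} [Group Ω] {S T : Subgroup Ω}

/-- automorphisms of `P` that fix `P ⊓ T` pointwise and move every element by an element
of `T`. -/
def h51_U (T P : Subgroup Ω) : Subgroup (MulAut P) where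
  carrier := {u | (∀ x : P, (x : Ω) ∈ T → u x = x) ∧ ∀ x : P, (x : Ω)⁻¹ * ((u x : P) : Ω) ∈ T}
  one_mem' := by
    refine ⟨fun x _ => rfl, fun x => ?_⟩
    simp
  mul_mem' := by
    rintro u v ⟨hu1, hu2⟩ ⟨hv1, hv2⟩
    refine ⟨fun x hx => ?_, fun x => ?_⟩
    · rw [MulAut.mul_apply, hv1 x hx, hu1 x hx]
    · rw [MulAut.mul_apply]
      have h1 := hv2 x
      have h2 := hu2 (v x)
      have e : (x : Ω)⁻¹ * ((u (v x) : P) : Ω) =
          ((x : Ω)⁻¹ * ((v x : P) : Ω)) * (((v x : P) : Ω)⁻¹ * ((u (v x) : P) : Ω)) := by group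
      rw [e]
      exact T.mul_mem h1 h2
  inv_mem' := by
    rintro u ⟨hu1, hu2⟩
    have key : ∀ x : P, u (u⁻¹ x) = x := fun x => by
      show u (u.symm x) = x
      simp
    refine ⟨fun x hx => ?_, fun x => ?_⟩
    · have h1 := hu1 x hx
      apply u.injective
      rw [key, h1]
    · have h1 := hu2 (u⁻¹ x)
      rw [key] at h1
      have e : (x : Ω)⁻¹ * ((u⁻¹ x : P) : Ω) = (((u⁻¹ x : P) : Ω)⁻¹ * (x : Ω))⁻¹ := by group
      rw [e]
      exact T.inv_mem h1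

theorem h51_mem_U {T P : Subgroup Ω} {u : MulAut P} :
    u ∈ h51_U T P ↔ (∀ x : P, (x : Ω) ∈ T → u x = x) ∧
      ∀ x : P, (x : Ω)⁻¹ * ((u x : P) : Ω) ∈ T := Iff.rfl

theorem h51_pow_apply' {T P : Subgroup Ω} {u : MulAut P} (hu : u ∈ h51_U T P) (x : P) (n : ℕ) :
    (u ^ n) x = x * (x⁻¹ * u x) ^ n := by
  obtain ⟨hu1, hu2⟩ := hu
  have htT : (((x⁻¹ * u x : P) : P) : Ω) ∈ T := by
    have := hu2 x
    simpa using this
  induction n with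
  | zero => simp
  | succ n ih =>
    rw [pow_succ', MulAut.mul_apply, ih, map_mul, map_pow, hu1 _ htT, pow_succ', ← mul_assoc x,
      mul_inv_cancel_left]

theorem h51_pow_apply {T P : Subgroup Ω} {u : MulAut P} (hu : u ∈ h51_U T P) (x : P) (n : ℕ) :
    (((u ^ n) x : P) : Ω) = (x : Ω) * ((x : Ω)⁻¹ * ((u x : P) : Ω)) ^ n := by
  rw [h51_pow_apply' hu x n]
  simp

theorem h51_U_isPGroup {p : ℕ} [Fact p.Prime] [Finite S] (hS : IsPGroup p S) {T P : Subgroup Ω}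
    (hPS : P ≤ S) : IsPGroup p (h51_U T P) := by
  obtain ⟨n, hn⟩ := IsPGroup.exists_card_eq hS
  rintro ⟨u, hu⟩
  refine ⟨n, Subtype.ext ?_⟩
  show u ^ (p ^ n) = 1
  ext x
  rw [h51_pow_apply hu x (p ^ n)]
  have ht : (x : Ω)⁻¹ * ((u x : P) : Ω) ∈ S := hPS (P.mul_mem (P.inv_mem x.2) (u x).2)
  have h1 : (⟨_, ht⟩ : S) ^ (p ^ n) = 1 := by
    rw [← hn]
    exact pow_card_eq_one'
  have h2 : ((x : Ω)⁻¹ * ((u x : P) : Ω)) ^ (p ^ n) = 1 := by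
    have := congrArg Subtype.val h1
    simpa using this
  rw [h2]
  simp

variable [Finite S] {p : ℕ} [Fact p.Prime]
  {F : FusionSystem S} {E : FusionSystem T} {K : Subgroup (MulAut T)}

/-- `Aut_F(P)` preserves `P ⊓ T` when `T` is strongly closed. -/
theorem h51_aut_mem_T (hT : F.StronglyClosed T) {P : Subgroup Ω} (hPS : P ≤ S) {γ : MulAut P}
    (hγ : γ ∈ F.autGroup P) (x : P) (hx : (x : Ω) ∈ T) : ((γ x : P) : Ω) ∈ T := by
  rw [Cfsg.Agent.Lib.Helper87.mem_autGroup_iff F hPS] at hγ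
  have h1 := Cfsg.Agent.Lib.Helper87.restrict_mem F hγ (inf_le_left : P ⊓ T ≤ P)
  exact hT.2 (P ⊓ T) inf_le_right _ h1 ⟨x, x.2, hx⟩

/-- A3. -/
theorem witness_pgroup (h : Setup p F E K) {P : Subgroup Ω} (hPS : P ≤ S) {g : Ω}
    (hgC : g ∈ centralizerIn T (P ⊓ T)) (hgN : g ∈ normalizerIn S P) :
    ∃ U : Subgroup (MulAut P), IsPGroup p U ∧
      (∀ γ ∈ F.autGroup P, ∀ u ∈ U, γ * u * γ⁻¹ ∈ U) ∧
      Cfsg.Agent.Lib.Helper87.conjAut P g hgN.2 ∈ U := by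
  refine ⟨h51_U T P, h51_U_isPGroup h.hS hPS, ?_, ?_⟩
  · rintro γ hγ u ⟨hu1, hu2⟩
    have hγi : γ⁻¹ ∈ F.autGroup P := (F.autGroup P).inv_mem hγ
    have key : ∀ x : P, γ (γ⁻¹ x) = x := fun x => by
      show γ (γ.symm x) = x
      simp
    refine ⟨fun x hx => ?_, fun x => ?_⟩
    · rw [MulAut.mul_apply, MulAut.mul_apply]
      have h1 : ((γ⁻¹ x : P) : Ω) ∈ T := h51_aut_mem_T h.hT hPS hγi x hx
      rw [hu1 _ h1, key]
    · rw [MulAut.mul_apply, MulAut.mul_apply]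
      have h1 := hu2 (γ⁻¹ x)
      have hy : ((γ⁻¹ x : P) : Ω)⁻¹ * ((u (γ⁻¹ x) : P) : Ω) ∈ P :=
        P.mul_mem (P.inv_mem (γ⁻¹ x).2) (u (γ⁻¹ x)).2
      have h2 := h51_aut_mem_T h.hT hPS hγ ⟨_, hy⟩ h1
      have e : (⟨_, hy⟩ : P) = (γ⁻¹ x)⁻¹ * u (γ⁻¹ x) := Subtype.ext (by simp)
      rw [e, map_mul, map_inv, key] at h2
      simpa using h2
  · have hgT : g ∈ T := hgC.1
    have hgc : g ∈ Subgroup.centralizer ((P ⊓ T : Subgroup Ω) : Set Ω) := hgC.2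
    refine ⟨fun x hx => ?_, fun x => ?_⟩
    · apply Subtype.ext
      rw [Cfsg.Agent.Lib.Helper87.conjAut_coe]
      have h1 := hgc (x : Ω) ⟨x.2, hx⟩
      -- h1 : x * g = g * x
      rw [← h1]
      group
    · rw [Cfsg.Agent.Lib.Helper87.conjAut_coe]
      -- `x⁻¹ g x ∈ T` since `T` is normal in `S`
      have hxS : (x : Ω)⁻¹ ∈ S := S.inv_mem (hPS x.2)
      have h1 := F.conj_mem (P := T) (g := (x : Ω)⁻¹) h.hT.1 hxS
      have h2 := h.hT.2 T le_rfl _ h1 ⟨g, hgT⟩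
      have e : (x : Ω)⁻¹ * (g * (x : Ω) * g⁻¹) = ((x : Ω)⁻¹ * g * ((x : Ω)⁻¹)⁻¹) * g⁻¹ := by group
      rw [e]
      refine T.mul_mem ?_ (T.inv_mem hgT)
      simpa [conjHom] using h2

end Cfsg.Agent.Lib.Helper88.Aov
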