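import Mathlib
import Cfsg.Prelude
import Cfsg.Agent.Lib.Helper32.BG159Defs
import Cfsg.Agent.Lib.Helper24.BG121
import Cfsg.Agent.Lib.Helper76.BGSigU3

/-!
# BG159 leaf [F2g]: an `E_{s²}` inside the complement `E = M ⊓ Nstar` for `s ∈ τ₂(M)`
-/

set_option autoImplicit false
set_option linter.style.haveILetI false
open Subgroup Cfsg

namespace Cfsg.Agent.Lib.Helper32.BG159

variable {G : Type*} [Group G] [Finite G]

/-- abstract form: `E` a complement in `M` of a normal subgroup `W` with `s ∤ |W|`, and `M` of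
`s`-rank at least two: then `E` contains an elementary abelian subgroup of order `s²`. -/
theorem f2g_exists_of_compl {M E W : Subgroup G} (hE : IsComplIn E W M) {s : ℕ} [Fact s.Prime]
    (hW : ¬ s ∣ Nat.card W) (hr : ¬ PRankLE s 1 M) :
    ∃ A : Subgroup G, A ≤ E ∧ IsElementaryAbelian s A ∧ Nat.card A = s ^ 2 := by
  have hsp : s.Prime := Fact.out
  unfold PRankLE at hr
  push Not at hr
  obtain ⟨B, hBc, hBe, hBcard⟩ := hr
  -- the image `Q` of `B` in `G`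
  obtain ⟨Q, hQ⟩ : ∃ Q : Subgroup G, Q = B.map M.subtype := ⟨_, rfl⟩
  have hQM : Q ≤ M := by
    rw [hQ]; rintro _ ⟨b, _, rfl⟩; exact b.2
  have hQe : ∀ a ∈ Q, a ^ s = 1 := by
    rw [hQ]; rintro _ ⟨b, hb, rfl⟩
    have := hBe b hb
    have h2 : ((b ^ s : M) : G) = 1 := by rw [this]; rfl
    simpa using h2
  have hQc : ∀ a ∈ Q, ∀ b ∈ Q, a * b = b * a := by
    rw [hQ]; rintro _ ⟨a, ha, rfl⟩ _ ⟨b, hb, rfl⟩
    have h1 : (⟨a, ha⟩ : B) * ⟨b, hb⟩ = ⟨b, hb⟩ * ⟨a, ha⟩ := hBc.is_comm.comm _ _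
    have h2 : a * b = b * a := congrArg Subtype.val h1
    have h3 : ((a * b : M) : G) = ((b * a : M) : G) := by rw [h2]
    simpa using h3
  have hQcard : Nat.card Q = Nat.card B := by
    rw [hQ]; exact Subgroup.card_map_of_injective M.subtype_injective
  have hQp : IsPGroup s Q := by
    intro a
    refine ⟨1, ?_⟩
    apply Subtype.ext
    simpa using hQe a.1 a.2
  -- conjugate into `E`
  obtain ⟨m, _, hm⟩ := Cfsg.Agent.Lib.Helper76.BGSigU.exists_conj_le_compl hE hW hQp hQM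
  obtain ⟨Q', hQ'⟩ : ∃ Q' : Subgroup G, Q' = Q.map (MulAut.conj m⁻¹).toMonoidHom := ⟨_, rfl⟩
  have hQ'E : Q' ≤ E := by
    rw [hQ']; rintro _ ⟨a, ha, rfl⟩
    have := hm a ha
    simpa [MulAut.conj_apply] using this
  have hQ'e : ∀ a ∈ Q', a ^ s = 1 := by
    rw [hQ']; rintro _ ⟨a, ha, rfl⟩
    rw [← map_pow, hQe a ha, map_one]
  have hQ'c : ∀ a ∈ Q', ∀ b ∈ Q', a * b = b * a := by
    rw [hQ']; rintro _ ⟨a, ha, rfl⟩ _ ⟨b, hb, rfl⟩
    rw [← map_mul, ← map_mul, hQc a ha b hb]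
  have hQ'card : Nat.card Q' = Nat.card Q := by
    rw [hQ']; exact Subgroup.card_map_of_injective (MulAut.conj m⁻¹).injective
  have hQ'p : IsPGroup s Q' := by
    intro a
    refine ⟨1, ?_⟩
    apply Subtype.ext
    simpa using hQ'e a.1 a.2
  -- `|Q'| ≥ s²`
  have hge : s ^ 2 ≤ Nat.card Q' := by
    rw [hQ'card, hQcard]
    obtain ⟨k, hk⟩ := IsPGroup.iff_card.1 hQp
    rw [hQcard] at hk
    rw [hk] at hBcard ⊢
    have h1 : 1 < k := by
      by_contra hk1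
      push Not at hk1
      exact absurd (Nat.pow_le_pow_right hsp.pos hk1) (not_le.2 hBcard)
    exact Nat.pow_le_pow_right hsp.pos h1
  obtain ⟨H, hH⟩ := Sylow.exists_subgroup_card_pow_prime_of_le_card hsp hQ'p hge
  refine ⟨H.map Q'.subtype, ?_, ⟨⟨⟨?_⟩⟩, ?_⟩, ?_⟩
  · rintro _ ⟨a, _, rfl⟩; exact hQ'E a.2
  · rintro ⟨_, ⟨a, ha, rfl⟩⟩ ⟨_, ⟨b, hb, rfl⟩⟩
    apply Subtype.ext
    exact hQ'c a.1 a.2 b.1 b.2
  · rintro _ ⟨a, _, rfl⟩; exact hQ'e a.1 a.2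
  · rw [Subgroup.card_map_of_injective Q'.subtype_injective, hH]

/-- [F2g] an `E_{s²}` inside `E` for `s ∈ τ₂(M)`. -/
theorem exists_A (hG : IsMinSimpleOddOrder G) {N K U Nstar M : Subgroup G} {x : G}
    (c : CtxF N K U Nstar M x) {s : ℕ} [Fact s.Prime] (hs : s ∈ tau2 M) :
    ∃ A : Subgroup G, A ≤ M ⊓ Nstar ∧ IsElementaryAbelian s A ∧ Nat.card A = s ^ 2 := by
  have hsp : s.Prime := Fact.out
  obtain ⟨_, hsσ, _, hr1⟩ := hs
  have hW : ¬ s ∣ Nat.card (sigmaCore M) := fun hd =>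
    hsσ (Cfsg.Agent.Lib.Helper24.BG.mem_sigma_of_dvd_card_sigmaCore M hsp hd)
  exact f2g_exists_of_compl c.hE hW hr1

end Cfsg.Agent.Lib.Helper32.BG159
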