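import Cfsg.Agent.Lib.Helper51.CrRel

set_option autoImplicit false
set_option linter.style.haveILetI false
set_option linter.unusedSectionVars false

/-!
# Centricity and radicality of the largest subgroup whose normalizer controls fusion
-/

universe u

namespace Cfsg.Agent.Lib.Helper51

open Cfsg Subgroup Cfsg.Agent.Lib.Helper33 Cfsg.Agent.Lib.Helper11

variable {p : ℕ} [Fact p.Prime] {𝒵 : ∀ (X : Type u) [Group X], Subgroup X → Subgroup X}

/-- **Centricity**: in a `Qd(p)`-free group, a normal `p`-subgroup `Q` containing every subgroup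
of `P` whose normalizer controls fusion contains `C_P(Q)`. -/
theorem centric_of_max (h𝒵 : ZFun p 𝒵) {X : Type u} [Group X] [Finite X]
    (hqd : ¬ Involves ↥(qd p) X) (P : Sylow p X) (Q : Subgroup X) [hQ : Q.Normal]
    (hQP : Q ≤ (P : Subgroup X))
    (hmax : ∀ T : Subgroup X, T ≤ (P : Subgroup X) → Ctl (P : Subgroup X) T → T ≤ Q) :
    (P : Subgroup X) ⊓ centralizer (Q : Set X) ≤ Q := by
  by_contra hcon
  obtain ⟨C, hC⟩ : ∃ C : Subgroup X, C = centralizer (Q : Set X) := ⟨_, rfl⟩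
  haveI hCn : C.Normal := by rw [hC]; infer_instance
  obtain ⟨Z, hZ⟩ : ∃ Z : Subgroup X, Z = Q ⊓ C := ⟨_, rfl⟩
  haveI hZn : Z.Normal := by rw [hZ]; infer_instance
  obtain ⟨D, hD⟩ : ∃ D : Subgroup X, D = (P : Subgroup X) ⊓ C := ⟨_, rfl⟩
  rw [← hC, ← hD] at hcon
  have hZQ : Z ≤ Q := hZ ▸ inf_le_left
  have hZD : Z ≤ D := by rw [hZ, hD]; exact inf_le_inf_right _ hQP
  have hDP : D ≤ (P : Subgroup X) := hD ▸ inf_le_left
  have hDC : D ≤ C := hD ▸ inf_le_right
  obtain ⟨T, hT⟩ : ∃ T : Subgroup X,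
    T = (𝒵 (X ⧸ Z) (D.map (QuotientGroup.mk' Z))).comap (QuotientGroup.mk' Z) := ⟨_, rfl⟩
  have hTD : T ≤ D := by
    intro t ht
    rw [hT, Subgroup.mem_comap] at ht
    obtain ⟨d, hd, hdt⟩ := h𝒵.le _ _ ht
    have h5 : d⁻¹ * t ∈ Z := by
      rw [← QuotientGroup.ker_mk' Z, MonoidHom.mem_ker, map_mul, map_inv, hdt, inv_mul_cancel]
    have h6 : t = d * (d⁻¹ * t) := by group
    rw [h6]
    exact D.mul_mem hd (hZD h5)
  have hNT : normalizer (D : Set X) ≤ normalizer (T : Set X) :=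
    hT ▸ normalizer_le_normalizer_comap h𝒵 Z D
  -- Step 1
  have hY : CtlIn ((P : Subgroup X) ⊔ C) (P : Subgroup X) T := by
    obtain ⟨Y, hYdef⟩ : ∃ Y : Subgroup X, Y = (P : Subgroup X) ⊔ C := ⟨_, rfl⟩
    rw [← hYdef]
    have hPY : (P : Subgroup X) ≤ Y := hYdef ▸ le_sup_left
    have hCY : C ≤ Y := hYdef ▸ le_sup_right
    have hDY : D ≤ Y := hDP.trans hPY
    obtain ⟨PY, hPYc⟩ : ∃ PY : Sylow p ↥Y, (PY : Subgroup ↥Y) = (P : Subgroup X).subgroupOf Y :=
      ⟨P.subtype hPY, Sylow.coe_subtype _ _⟩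
    have hqdY : ¬ Involves ↥(qd p) ↥Y := fun h =>
      hqd (involves_of_injective Y.subtype (Subgroup.subtype_injective Y) h)
    have hZPY : Z.subgroupOf Y ≤ (PY : Subgroup ↥Y) := by
      rw [hPYc]
      intro z hz
      rw [Subgroup.mem_subgroupOf] at hz ⊢
      exact hQP (hZQ hz)
    have hpC : ∀ b : X, b ∈ Y → ∀ m : ℕ, m.Coprime p → b ^ m = 1 → b ∈ C := by
      intro b hb m hm hbm
      rw [hYdef] at hb
      obtain ⟨t, ht, c, hc, rfl⟩ := Subgroup.mem_sup_of_normal_right.mp hb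
      obtain ⟨k, hk⟩ := P.isPGroup' ⟨t, ht⟩
      have htk : t ^ p ^ k = 1 := by
        have := congrArg Subtype.val hk
        simpa using this
      have h5 : (t * c) ^ p ^ k ∈ C := by
        rw [← QuotientGroup.eq_one_iff, QuotientGroup.mk_pow, QuotientGroup.mk_mul,
          (QuotientGroup.eq_one_iff c).mpr hc, mul_one, ← QuotientGroup.mk_pow, htk]
        rfl
      have h6 : (p ^ k).Coprime (orderOf (t * c)) := by
        apply Nat.Coprime.pow_left
        exact (Nat.Coprime.coprime_dvd_left (orderOf_dvd_of_pow_eq_one hbm) hm).symm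
      obtain ⟨j, hj⟩ := exists_pow_eq_self_of_coprime h6
      rw [← hj]
      exact Subgroup.pow_mem _ h5 _
    have hCY' : ∀ b : ↥Y, ∀ m : ℕ, m.Coprime p → b ^ m = 1 →
        b ∈ centralizer ((Z.subgroupOf Y : Subgroup ↥Y) : Set ↥Y) := by
      intro b m hm hbm
      have hb : (b : X) ∈ C := hpC b b.2 m hm (by
        have := congrArg Subtype.val hbm
        simpa using this)
      rw [Subgroup.mem_centralizer_iff]
      intro z hz
      have hzQ : (z : X) ∈ Q := hZQ (Subgroup.mem_subgroupOf.mp hz)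
      rw [hC] at hb
      have := Subgroup.mem_centralizer_iff.mp hb (z : X) hzQ
      apply Subtype.ext
      simp only [Subgroup.coe_mul]
      exact this
    have hDsc : IsStronglyClosed (D.subgroupOf Y) (PY : Subgroup ↥Y) := by
      rw [hPYc]
      refine ⟨?_, ?_⟩
      · intro d hd
        rw [Subgroup.mem_subgroupOf] at hd ⊢
        exact hDP hd
      · intro x hx g hg
        rw [Subgroup.mem_subgroupOf] at hx hg ⊢
        rw [hD] at hx ⊢
        refine ⟨hg, ?_⟩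
        have := hCn.conj_mem _ hx.2 (g : X)
        simpa using this
    have h1 := ctl_mod_central h𝒵 ↥Y hqdY PY (Z.subgroupOf Y) hZPY hCY' (D.subgroupOf Y) hDsc
    have h2 := ctlIn_of_ctl_sub Y _ _ h1
    rw [hPYc, Subgroup.map_subgroupOf_eq_of_le hPY, comap_zfun_subgroup h𝒵 Y Z D hDY hZD, ← hT] at h2
    exact h2
  -- Step 2
  have hctl : Ctl (P : Subgroup X) T := by
    apply ctl_of_ctlAt
    apply ctlAt_case4' C
    · intro A g hg hA hAg
      obtain ⟨x, hx, hxa⟩ := hY A g hg hA hAg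
      exact goodF_of_mem hx.2 hxa hAg
    · intro A g hg hA hAg
      exact goodF_of_mem (hNT (hD ▸ hg)) (fun a _ => rfl) hAg
  have hTQ := hmax T (hTD.trans hDP) hctl
  have hTZ : T ≤ Z := hZ ▸ le_inf hTQ (hTD.trans hDC)
  -- contradiction
  have hDb : D.map (QuotientGroup.mk' Z) ≠ ⊥ := by
    intro hb
    apply hcon
    intro d hd
    apply hZQ
    rw [← QuotientGroup.ker_mk' Z, MonoidHom.mem_ker]
    have : QuotientGroup.mk' Z d ∈ D.map (QuotientGroup.mk' Z) := ⟨d, hd, rfl⟩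
    rw [hb] at this
    exact Subgroup.mem_bot.mp this
  apply h𝒵.ne_bot (X ⧸ Z) (D.map (QuotientGroup.mk' Z)) ((P.isPGroup'.to_le hDP).map _) hDb
  rw [eq_bot_iff]
  intro w hw
  obtain ⟨t, rfl⟩ := QuotientGroup.mk'_surjective Z w
  have ht : t ∈ T := by rw [hT, Subgroup.mem_comap]; exact hw
  rw [Subgroup.mem_bot, ← MonoidHom.mem_ker, QuotientGroup.ker_mk']
  exact hTZ ht

/-- **Radicality tool**: if `C_P(Q) ≤ Q` for the normal `p`-subgroup `Q` and `T C(Q)` is normal,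
`Q ≤ T ≤ P`, then `N(T)` controls fusion in `P`. -/
theorem ctl_of_normal_sup_centralizer {X : Type*} [Group X] [Finite X] (P : Sylow p X)
    (Q : Subgroup X) [hQ : Q.Normal]
    (hcen : (P : Subgroup X) ⊓ centralizer (Q : Set X) ≤ Q) (T : Subgroup X)
    (hTP : T ≤ (P : Subgroup X)) (hQT : Q ≤ T)
    (hn : (T ⊔ centralizer (Q : Set X)).Normal) : Ctl (P : Subgroup X) T := by
  obtain ⟨Cn, hC⟩ : ∃ C : Subgroup X, C = centralizer (Q : Set X) := ⟨_, rfl⟩
  haveI hCn : Cn.Normal := by rw [hC]; infer_instance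
  rw [← hC] at hcen hn
  have hsyl : ¬ p ∣ ((P : Subgroup X) ⊓ Cn).relIndex Cn :=
    Cfsg.Agent.Lib.Helper32.not_dvd_relIndex_inf_normal P Cn
  have hZp : IsPGroup p (((P : Subgroup X) ⊓ Cn).subgroupOf Cn) :=
    IsPGroup.comap_subtype (P.isPGroup'.to_le inf_le_left)
  obtain ⟨Z', hZ'⟩ : ∃ Z' : Sylow p ↥Cn, Z' = hZp.toSylow hsyl := ⟨_, rfl⟩
  have hZmem : ∀ z : ↥Cn, z ∈ Z' → (z : X) ∈ (P : Subgroup X) ⊓ Cn := by
    intro z hz
    rw [hZ'] at hz
    have hz' := (IsPGroup.mem_toSylow _ _).mp hz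
    exact Subgroup.mem_subgroupOf.mp hz'
  have hZc : (Z' : Subgroup ↥Cn) ≤ Subgroup.center ↥Cn := by
    intro z hz
    rw [Subgroup.mem_center_iff]
    intro y
    have hzQ : (z : X) ∈ Q := hcen (hZmem z hz)
    have hy : (y : X) ∈ centralizer (Q : Set X) := hC ▸ y.2
    have := Subgroup.mem_centralizer_iff.mp hy (z : X) hzQ
    apply Subtype.ext
    simp only [Subgroup.coe_mul]
    exact this.symm
  obtain ⟨KC, hKCn, hKCc, hKCsup, hKCmem⟩ :=
    Cfsg.Agent.Lib.Helper32.exists_normal_pComplement_of_le_center Z' hZc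
  obtain ⟨K₁, hK₁⟩ : ∃ K₁ : Subgroup X, K₁ = KC.map Cn.subtype := ⟨_, rfl⟩
  have hK₁card : Nat.card K₁ = Nat.card KC := by
    rw [hK₁]; exact Subgroup.card_map_of_injective (Subgroup.subtype_injective _)
  haveI hK₁n : K₁.Normal := by
    constructor
    intro k hk n
    rw [hK₁] at hk ⊢
    obtain ⟨kc, hkc, hkc'⟩ := hk
    have hmem : n * (kc : X) * n⁻¹ ∈ Cn := hCn.conj_mem _ kc.2 n
    refine ⟨⟨_, hmem⟩, ?_, ?_⟩
    · rw [SetLike.mem_coe, hKCmem, Subgroup.orderOf_mk]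
      have h3 : orderOf (n * (kc : X) * n⁻¹) = orderOf (kc : X) := by
        have := (MulAut.conj n).orderOf_eq (kc : X)
        rwa [MulAut.conj_apply] at this
      rw [h3, Subgroup.orderOf_coe]
      exact (hKCmem kc).mp hkc
    · simp only [Subgroup.coe_subtype]
      rw [← hkc']
      rfl
  have hK₁C : K₁ ≤ Cn := by rw [hK₁]; exact Subgroup.map_subtype_le KC
  have hCK : Cn ≤ K₁ ⊔ Q := by
    intro c hc
    have h1 : (⟨c, hc⟩ : ↥Cn) ∈ KC ⊔ (Z' : Subgroup ↥Cn) := by rw [hKCsup]; exact Subgroup.mem_top _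
    obtain ⟨k, hk, z, hz, hkz⟩ := Subgroup.mem_sup_of_normal_left.mp h1
    have h2 : c = (k : X) * (z : X) := by
      have := congrArg Subtype.val hkz
      simpa using this.symm
    rw [h2]
    apply Subgroup.mul_mem
    · apply Subgroup.mem_sup_left
      rw [hK₁]; exact ⟨k, hk, rfl⟩
    · exact Subgroup.mem_sup_right (hcen (hZmem z hz))
  have hsupeq : T ⊔ Cn = T ⊔ K₁ := by
    apply le_antisymm
    · apply sup_le le_sup_left
      exact hCK.trans (sup_le le_sup_right (hQT.trans le_sup_left))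
    · exact sup_le_sup_left hK₁C T
  have hcop : (Nat.card K₁).Coprime p := by rw [hK₁card]; exact hKCc
  apply ctl_lift_pprime P K₁ hcop T hTP
  apply ctl_of_normal
  have h3 : T.map (QuotientGroup.mk' K₁) = (T ⊔ Cn).map (QuotientGroup.mk' K₁) := by
    rw [hsupeq, Subgroup.map_sup]
    have : K₁.map (QuotientGroup.mk' K₁) = ⊥ := by
      rw [eq_bot_iff]
      rintro _ ⟨k, hk, rfl⟩
      rw [Subgroup.mem_bot, ← MonoidHom.mem_ker, QuotientGroup.ker_mk']
      exact hk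
    rw [this, sup_bot_eq]
  rw [h3]
  exact Subgroup.Normal.map hn _ (QuotientGroup.mk'_surjective K₁)

end Cfsg.Agent.Lib.Helper51
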