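import Cfsg.Agent.Lib.Helper51.QdClosed

set_option autoImplicit false
set_option linter.style.haveILetI false
set_option linter.unusedSectionVars false

/-!
# Variants of the case 4 / case 5 reductions without the minimal counterexample hypothesis
-/

namespace Cfsg.Agent.Lib.Helper51

open Cfsg Subgroup Cfsg.Agent.Lib.Helper33 Cfsg.Agent.Lib.Helper11

variable {X : Type*} [Group X] [Finite X] {p : ℕ} [Fact p.Prime] {P : Sylow p X}
  {𝓦 : Set (Subgroup X → Subgroup X)}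

/-- **Case 4 variant**: a normal subgroup `C`; fusion by elements of `P C` and of `N(P ∩ C)` is good. -/
theorem ctlAt_case4' (C : Subgroup X) [hC : C.Normal]
    (h1 : ∀ (A : Set X) (g : X), g ∈ (P : Subgroup X) ⊔ C → A ⊆ (P : Subgroup X) →
      rc g A ⊆ (P : Subgroup X) → GoodF 𝓦 (P : Subgroup X) A g)
    (h2 : ∀ (A : Set X) (g : X), g ∈ normalizer ((((P : Subgroup X) ⊓ C : Subgroup X)) : Set X) →
      A ⊆ (P : Subgroup X) → rc g A ⊆ (P : Subgroup X) → GoodF 𝓦 (P : Subgroup X) A g) :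
    CtlAt 𝓦 (P : Subgroup X) := by
  intro A g hA hAg
  apply ag_induction P (GoodF 𝓦 (P : Subgroup X)) (fun h hBA => h.mono hBA)
    (fun h1 h2 => h1.trans h2) (fun hc => GoodF.cent hc) ?_ A g hA hAg
  intro U hU x hx hbig
  obtain ⟨hUP, hfn, -⟩ := hU
  -- Frattini decomposition inside `N(U)`
  obtain ⟨R₁, hR₁⟩ : ∃ R₁ : Subgroup X,
      R₁ = (P : Subgroup X) ⊓ normalizer (U : Set X) ⊓ (normalizer (U : Set X) ⊓ C) := ⟨_, rfl⟩
  have hMn : normalizer (U : Set X) ≤ normalizer ((normalizer (U : Set X) ⊓ C : Subgroup X) : Set X) := by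
    intro n hn
    rw [← cj_eq_self_iff, cj_inf, cj_eq_self_of_mem hn]
    congr 1
    apply cj_eq_self_iff.mpr
    rw [Subgroup.normalizer_eq_top C]; exact Subgroup.mem_top _
  have hR₁i : ¬ p ∣ R₁.relIndex (normalizer (U : Set X) ⊓ C) := by
    rw [hR₁]
    exact sylow_inf_normal (N := normalizer (U : Set X)) inf_le_right
      (P.isPGroup'.to_le inf_le_left) hfn inf_le_left hMn
  have hR₁p : IsPGroup p R₁ := by
    rw [hR₁]; exact P.isPGroup'.to_le (inf_le_left.trans inf_le_left)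
  obtain ⟨x₁, hx₁, y, hy, rfl⟩ := frattini_gen (H := normalizer (U : Set X))
    (M := normalizer (U : Set X) ⊓ C) (R := R₁) hMn inf_le_left (by rw [hR₁]; exact inf_le_right)
    hR₁p hR₁i hx
  have hrcU : ∀ n ∈ normalizer (U : Set X), rc n (U : Set X) = U := by
    intro n hn
    rw [rc_coe, cj_eq_self_iff.mpr (inv_mem hn)]
  -- first factor
  have hg1 : GoodF 𝓦 (P : Subgroup X) (U : Set X) x₁ := by
    apply h1 (U : Set X) x₁ (le_sup_right (a := (P : Subgroup X)) hx₁.2) hUP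
    rw [hrcU x₁ hx₁.1]; exact hUP
  apply hg1.trans
  rw [hrcU x₁ hx₁.1]
  -- second factor
  have hR₁eq : R₁ = (P : Subgroup X) ⊓ normalizer (U : Set X) ⊓ C := by
    rw [hR₁]
    apply le_antisymm
    · exact le_inf inf_le_left (inf_le_right.trans inf_le_right)
    · exact le_inf inf_le_left (le_inf (inf_le_left.trans inf_le_right) inf_le_right)
  by_cases hRU : R₁ ≤ U
  · -- `P ∩ C ≤ U`
    have hP₁U : (P : Subgroup X) ⊓ C ≤ U := inf_le_of_normalizer_inf_le hUP C (hR₁eq ▸ hRU)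
    have hP₁eq : (P : Subgroup X) ⊓ C = U ⊓ C :=
      le_antisymm (le_inf hP₁U inf_le_right) (inf_le_inf_right _ hUP)
    have hyN : y ∈ normalizer ((((P : Subgroup X) ⊓ C : Subgroup X)) : Set X) := by
      rw [hP₁eq, ← cj_eq_self_iff, cj_inf, cj_eq_self_iff.mpr hy.1]
      congr 1
      apply cj_eq_self_iff.mpr
      rw [Subgroup.normalizer_eq_top C]; exact Subgroup.mem_top _
    apply h2 (U : Set X) y hyN hUP
    rw [hrcU y hy.1]; exact hUP
  · -- bigger set
    have hyUR : y ∈ normalizer ((U ⊔ R₁ : Subgroup X) : Set X) := by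
      rw [← cj_eq_self_iff, cj_sup, cj_eq_self_iff.mpr hy.1, cj_eq_self_iff.mpr hy.2]
    have hURP : U ⊔ R₁ ≤ (P : Subgroup X) :=
      sup_le hUP (by rw [hR₁]; exact inf_le_left.trans inf_le_left)
    have hlt : U < U ⊔ R₁ :=
      lt_of_le_of_ne le_sup_left (fun he => hRU (le_sup_right.trans he.symm.le))
    have hbigger : GoodF 𝓦 (P : Subgroup X) ((U ⊔ R₁ : Subgroup X) : Set X) y := by
      apply hbig _ y hURP
      · rw [rc_coe, cj_eq_self_iff.mpr (inv_mem hyUR)]; exact hURP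
      · rw [Subgroup.closure_eq]
        exact Cfsg.Agent.Lib.Helper33.card_lt_of_lt hlt
    exact hbigger.mono (by exact_mod_cast (le_sup_left : U ≤ U ⊔ R₁))

/-- **Case 5 variant**: all `p'`-elements centralize the normal `p`-subgroup `Q`, fusion is
controlled modulo `Q`, and conjugation by elements of `P` is good. -/
theorem ctlAt_case5' (Q : Subgroup X) [hQ : Q.Normal]
    (hQP : Q ≤ (P : Subgroup X))
    (hPg : ∀ (A : Set X) (u : X), u ∈ (P : Subgroup X) → A ⊆ (P : Subgroup X) →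
      GoodF 𝓦 (P : Subgroup X) A u)
    (hC : ∀ b : X, ∀ m : ℕ, m.Coprime p → b ^ m = 1 → b ∈ centralizer (Q : Set X))
    (hquot : ∀ U : Subgroup X, U ≤ (P : Subgroup X) → Q ≤ U → ∀ x ∈ normalizer (U : Set X),
      ∃ g' : X, GoodF 𝓦 (P : Subgroup X) (U : Set X) g' ∧
        ∀ u ∈ U, (g'⁻¹ * u * g')⁻¹ * (x⁻¹ * u * x) ∈ Q) :
    CtlAt 𝓦 (P : Subgroup X) := by
  intro A g hA hAg
  apply ag_induction P (GoodF 𝓦 (P : Subgroup X)) (fun h hBA => h.mono hBA)
    (fun h1 h2 => h1.trans h2) (fun hc => GoodF.cent hc) ?_ A g hA hAg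
  intro U hU x hx _
  have hUP : U ≤ (P : Subgroup X) := hU.1
  have hUp : IsPGroup p U := P.isPGroup'.to_le hUP
  have hQp : IsPGroup p Q := P.isPGroup'.to_le hQP
  have hQU : Q ≤ U := normal_le_of_mem_agFamily Q hQP hU
  obtain ⟨g', hg', hagree⟩ := hquot U hUP hQU x hx
  -- `g'` normalizes `U`
  have hg'U : ∀ u ∈ U, g'⁻¹ * u * g' ∈ U := by
    intro u hu
    have h1 := hagree u hu
    have h2 : x⁻¹ * u * x ∈ U := by
      have := (Subgroup.mem_normalizer_iff.mp (Subgroup.inv_mem _ hx) u).mp hu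
      simpa using this
    have h3 : g'⁻¹ * u * g' = (x⁻¹ * u * x) * ((g'⁻¹ * u * g')⁻¹ * (x⁻¹ * u * x))⁻¹ := by group
    rw [h3]
    exact U.mul_mem h2 (U.inv_mem (hQU h1))
  have hg'N : g' ∈ normalizer (U : Set X) := by
    have h1 : cj g'⁻¹ U ≤ U := by
      intro y hy
      obtain ⟨u, hu, rfl⟩ := mem_cj'.mp hy
      have := hg'U u hu
      simpa using this
    have h2 := cj_eq_of_le h1
    have := cj_eq_self_iff.mp h2
    simpa using Subgroup.inv_mem _ this
  have hrcU : ∀ n ∈ normalizer (U : Set X), rc n (U : Set X) = U := by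
    intro n hn
    rw [rc_coe, cj_eq_self_iff.mpr (inv_mem hn)]
  -- the difference `d`
  obtain ⟨d, hd⟩ : ∃ d : X, d = g'⁻¹ * x := ⟨_, rfl⟩
  have hxe : x = g' * d := by rw [hd]; group
  have hdN : d ∈ normalizer (U : Set X) := by
    rw [hd]; exact Subgroup.mul_mem _ (Subgroup.inv_mem _ hg'N) hx
  have hdD : d ∈ stabMod U Q := by
    refine ⟨hdN, ?_⟩
    intro u hu
    have hv : x * u * x⁻¹ ∈ U := (Subgroup.mem_normalizer_iff.mp hx u).mp hu
    have h1 := hagree _ hv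
    have e1 : (g'⁻¹ * (x * u * x⁻¹) * g')⁻¹ * (x⁻¹ * (x * u * x⁻¹) * x) = (d * u * d⁻¹)⁻¹ * u := by
      rw [hd]; group
    rw [e1] at h1
    have h2 := hQ.conj_mem _ (Q.inv_mem h1) u
    have e2 : u * ((d * u * d⁻¹)⁻¹ * u)⁻¹ * u⁻¹ = d * u * d⁻¹ * u⁻¹ := by group
    rwa [e2] at h2
  rw [hxe]
  apply hg'.trans
  rw [hrcU g' hg'N]
  -- `D ≤ lG p U`
  have hDl : stabMod U Q ≤ lG p U := by
    apply le_lG_of_subnormal P hU (normalizer (U : Set X)) _ le_rfl Subgroup.le_normalizer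
      (stabMod_le U Q) (normalizer_le_normalizer_stabMod U Q)
    intro d hd
    obtain ⟨a, m, hm, hord⟩ := Nat.exists_eq_pow_mul_and_not_dvd (orderOf_pos d).ne' p
      (Fact.out : p.Prime).ne_one
    refine ⟨a, ?_⟩
    have hbm : (d ^ p ^ a) ^ m = 1 := by
      rw [← pow_mul, ← hord]; exact pow_orderOf_eq_one d
    have hmc : m.Coprime p :=
      (Nat.Coprime.symm ((Nat.Prime.coprime_iff_not_dvd Fact.out).mpr hm))
    have hbD : d ^ p ^ a ∈ stabMod U Q := Subgroup.pow_mem _ hd _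
    have hbC := hC _ m hmc hbm
    apply centralizes_of_stab (U₀ := Q) hQp hmc hbm hbD.2
    intro z hz
    have := Subgroup.mem_centralizer_iff.mp hbC z hz
    rw [← this, mul_inv_cancel_right]
  have hdl : d ∈ lG p U := hDl hdD
  obtain ⟨-, -, -, -, -, hcomm, -, hsup⟩ := hU
  have hUk : U ≤ normalizer ((kG p U : Subgroup X) : Set X) := by
    intro u hu
    rw [Subgroup.mem_normalizer_iff]
    intro k
    have key : ∀ k ∈ kG p U, u * k * u⁻¹ = k := by
      intro k hk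
      rw [← hcomm k hk u hu, mul_inv_cancel_right]
    constructor
    · intro hk
      rw [key k hk]; exact hk
    · intro hk
      have h1 := key _ hk
      have h2 : u * k * u⁻¹ = k := by
        have h3 : u * (u * k * u⁻¹) * u⁻¹ = u * k * u⁻¹ := h1
        have h4 : u * (u * k * u⁻¹) = u * k := by
          calc u * (u * k * u⁻¹) = (u * (u * k * u⁻¹) * u⁻¹) * u := by group
            _ = u * k * u⁻¹ * u := by rw [h3]
            _ = u * k := by group
        exact mul_left_cancel h4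
      rw [h2] at hk; exact hk
  have hmul := Subgroup.coe_mul_of_left_le_normalizer_right U (kG p U) hUk
  have hd1 : d ∈ ((U ⊔ kG p U : Subgroup X) : Set X) := by
    rw [sup_comm, hsup]; exact hdl
  rw [hmul] at hd1
  obtain ⟨u₀, hu₀, k, hk, hde⟩ := hd1
  have hu₀' : u₀ ∈ U := hu₀
  have hk' : k ∈ kG p U := hk
  have hgu₀ : GoodF 𝓦 (P : Subgroup X) (U : Set X) u₀ := hPg (U : Set X) u₀ (hUP hu₀') hUP
  apply hgu₀.of_eq
  intro a ha
  have ha' : u₀⁻¹ * a * u₀ ∈ U := U.mul_mem (U.mul_mem (U.inv_mem hu₀') ha) hu₀'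
  have h1 := hcomm k hk' _ ha'
  rw [← hde]
  calc u₀⁻¹ * a * u₀ = k⁻¹ * (k * (u₀⁻¹ * a * u₀)) := by group
    _ = k⁻¹ * ((u₀⁻¹ * a * u₀) * k) := by rw [h1]
    _ = (u₀ * k)⁻¹ * a * (u₀ * k) := by group

end Cfsg.Agent.Lib.Helper51
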