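import Cfsg.Agent.Lib.Helper51.CrAbs

set_option autoImplicit false
set_option linter.style.haveILetI false
set_option linter.unusedSectionVars false

/-!
# Minimality: a subgroup whose normalizer controls fusion lies in every centric radical subgroup
-/

universe u
namespace Cfsg.Agent.Lib.Helper51

open Cfsg Subgroup Cfsg.Agent.Lib.Helper33 Cfsg.Agent.Lib.Helper11

/-- if `K` normalizes `H` then `|K H : H|` divides `|K|` -/
theorem relIndex_sup_dvd_card {G : Type*} [Group G] [Finite G] (K H : Subgroup G)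
    (hKH : K ≤ normalizer (H : Set G)) : H.relIndex (K ⊔ H) ∣ Nat.card K := by
  have hN : K ⊔ H ≤ normalizer (H : Set G) := sup_le hKH Subgroup.le_normalizer
  haveI : (H.subgroupOf (K ⊔ H)).Normal := Subgroup.normal_subgroupOf_of_le_normalizer hN
  obtain ⟨f, hf⟩ : ∃ f : ↥K →* ↥(K ⊔ H) ⧸ H.subgroupOf (K ⊔ H),
      f = (QuotientGroup.mk' (H.subgroupOf (K ⊔ H))).comp (Subgroup.inclusion le_sup_left) := ⟨_, rfl⟩
  have hsurj : Function.Surjective f := by
    intro w
    obtain ⟨⟨x, hx⟩, rfl⟩ := QuotientGroup.mk'_surjective _ w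
    have hx' : x ∈ ((K ⊔ H : Subgroup G) : Set G) := hx
    rw [Subgroup.coe_mul_of_left_le_normalizer_right K H hKH] at hx'
    obtain ⟨k, hk, h, hh, rfl⟩ := hx'
    refine ⟨⟨k, hk⟩, ?_⟩
    rw [hf]
    simp only [MonoidHom.coe_comp, Function.comp_apply, QuotientGroup.mk'_apply]
    rw [QuotientGroup.eq]
    rw [Subgroup.mem_subgroupOf]
    simp only [Subgroup.coe_mul, InvMemClass.coe_inv, Subgroup.coe_inclusion]
    have : k⁻¹ * (k * h) = h := by group
    rw [this]; exact hh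
  have := Subgroup.card_dvd_of_surjective f hsurj
  rwa [← Subgroup.index_eq_card] at this

end Cfsg.Agent.Lib.Helper51

namespace Cfsg.Agent.Lib.Helper51

open Cfsg Subgroup Cfsg.Agent.Lib.Helper33 Cfsg.Agent.Lib.Helper11

theorem le_normalizer_of_ctl {G : Type*} [Group G] {P Q : Subgroup G} (hQP : Q ≤ P)
    (hQ : Ctl P Q) : P ≤ normalizer (Q : Set G) := by
  have key : ∀ g ∈ P, ∀ q ∈ Q, g⁻¹ * q * g ∈ Q := by
    intro g hg q hq
    obtain ⟨x, hx, hxa⟩ := hQ (P : Set G) g le_rfl (by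
      rintro _ ⟨a, ha, rfl⟩
      exact P.mul_mem (P.mul_mem (P.inv_mem hg) ha) hg)
    rw [← hxa q (hQP hq)]
    have := (Subgroup.mem_normalizer_iff.mp (Subgroup.inv_mem _ hx) q).mp hq
    simpa using this
  intro g hg
  rw [Subgroup.mem_normalizer_iff]
  intro h
  constructor
  · intro hh
    have := key g⁻¹ (P.inv_mem hg) h hh
    simpa using this
  · intro hh
    have := key g hg _ hh
    have e : g⁻¹ * (g * h * g⁻¹) * g = h := by group
    rwa [e] at this

theorem normalizer_le_normalizer_centralizer {G : Type*} [Group G] (R : Subgroup G) :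
    normalizer (R : Set G) ≤ normalizer ((centralizer (R : Set G) : Subgroup G) : Set G) := by
  have key : ∀ n ∈ normalizer (R : Set G), ∀ c ∈ centralizer (R : Set G),
      n * c * n⁻¹ ∈ centralizer (R : Set G) := by
    intro n hn c hc
    rw [Subgroup.mem_centralizer_iff]
    intro r hr
    have hr' : n⁻¹ * r * n ∈ R := by
      have := (Subgroup.mem_normalizer_iff.mp (Subgroup.inv_mem _ hn) r).mp hr
      simpa using this
    have h1 := Subgroup.mem_centralizer_iff.mp hc _ hr'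
    calc r * (n * c * n⁻¹) = n * ((n⁻¹ * r * n) * c) * n⁻¹ := by group
      _ = n * (c * (n⁻¹ * r * n)) * n⁻¹ := by rw [h1]
      _ = n * c * n⁻¹ * r := by group
  intro n hn
  rw [Subgroup.mem_normalizer_iff]
  intro c
  constructor
  · exact key n hn c
  · intro h
    have := key n⁻¹ (Subgroup.inv_mem _ hn) _ h
    have e : n⁻¹ * (n * c * n⁻¹) * n⁻¹⁻¹ = c := by group
    rwa [e] at this

/-- **Minimality**: a subgroup `Q` of `P` whose normalizer controls fusion lies in every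
centric radical subgroup `R` of `P`. -/
theorem le_of_centric_radical {G : Type*} [Group G] [Finite G] {p : ℕ} [Fact p.Prime]
    (P : Sylow p G) (Q : Subgroup G) (hQP : Q ≤ (P : Subgroup G)) (hQ : Ctl (P : Subgroup G) Q)
    (R : Subgroup G) (hRP : R ≤ (P : Subgroup G))
    (hsyl : ∃ S : Sylow p ↥(centralizer (R : Set G)),
      (S : Subgroup ↥(centralizer (R : Set G))).map (centralizer (R : Set G)).subtype =
        R ⊓ centralizer (R : Set G))
    (hrad : ∀ X : Subgroup G, X ≤ normalizer (R : Set G) →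
      (∀ n ∈ normalizer (R : Set G), X.map (MulAut.conj n).toMonoidHom = X) →
      R ⊔ centralizer (R : Set G) ≤ X →
      (∃ k : ℕ, (R ⊔ centralizer (R : Set G)).relIndex X = p ^ k) →
      X = R ⊔ centralizer (R : Set G)) : Q ≤ R := by
  by_contra hQR
  have hPQ : (P : Subgroup G) ≤ normalizer (Q : Set G) := le_normalizer_of_ctl hQP hQ
  obtain ⟨C, hC⟩ : ∃ C : Subgroup G, C = centralizer (R : Set G) := ⟨_, rfl⟩
  rw [← hC] at hsyl hrad
  have hlt : R < Q ⊔ R :=
    lt_of_le_of_ne le_sup_right (fun he => hQR (le_sup_left.trans he.symm.le))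
  have hQRP : Q ⊔ R ≤ (P : Subgroup G) := sup_le hQP hRP
  have hg := normalizer_growth (P.isPGroup'.to_le hQRP) hlt
  obtain ⟨R₁, hR₁⟩ : ∃ R₁ : Subgroup G, R₁ = (Q ⊔ R) ⊓ normalizer (R : Set G) := ⟨_, rfl⟩
  rw [← hR₁] at hg
  have hR₁N : R₁ ≤ normalizer (R : Set G) := hR₁ ▸ inf_le_right
  have hR₁P : R₁ ≤ (P : Subgroup G) := hR₁ ▸ (inf_le_left.trans hQRP)
  have hR₁p : IsPGroup p R₁ := P.isPGroup'.to_le hR₁P
  have hCN : C ≤ normalizer (R : Set G) := hC ▸ Subgroup.centralizer_le_normalizer _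
  have hNC : normalizer (R : Set G) ≤ normalizer (C : Set G) :=
    hC ▸ normalizer_le_normalizer_centralizer R
  have hinv : ∀ n ∈ normalizer (R : Set G), n ∈ normalizer ((R₁ ⊔ C : Subgroup G) : Set G) := by
    intro n hn
    obtain ⟨x, hx, hxa⟩ := hQ (R : Set G) n hRP (by
      rw [rc_coe, cj_eq_self_iff.mpr (inv_mem hn)]; exact hRP)
    have hc : n * x⁻¹ ∈ C := by
      rw [hC, Subgroup.mem_centralizer_iff]
      intro a ha
      have h1 := hxa a ha
      have h2 : x⁻¹ * a * x = n⁻¹ * a * n := h1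
      calc a * (n * x⁻¹) = n * (n⁻¹ * a * n) * x⁻¹ := by group
        _ = n * (x⁻¹ * a * x) * x⁻¹ := by rw [h2]
        _ = n * x⁻¹ * a := by group
    have hxR : x ∈ normalizer (R : Set G) := by
      have h1 : x = (n * x⁻¹)⁻¹ * n := by group
      rw [h1]
      exact Subgroup.mul_mem _ (Subgroup.inv_mem _ (hCN hc)) hn
    have hxN : x ∈ normalizer ((R₁ ⊔ C : Subgroup G) : Set G) := by
      rw [← cj_eq_self_iff, cj_sup, cj_eq_self_iff.mpr (hNC hxR)]
      congr 1
      rw [hR₁, cj_inf, cj_sup, cj_eq_self_iff.mpr hx, cj_eq_self_iff.mpr hxR,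
        cj_eq_self_iff.mpr (Subgroup.le_normalizer hxR)]
    have h1 : n = (n * x⁻¹) * x := by group
    rw [h1]
    exact Subgroup.mul_mem _ (Subgroup.le_normalizer (Subgroup.mem_sup_right hc)) hxN
  have hX : R₁ ⊔ C = R ⊔ C := by
    apply hrad (R₁ ⊔ C) (sup_le hR₁N hCN) ?_ (sup_le_sup_right hg.le C) ?_
    · intro n hn
      exact cj_eq_self_iff.mpr (hinv n hn)
    · have h1 : (R ⊔ C).relIndex (R₁ ⊔ C) ∣ C.relIndex (R₁ ⊔ C) :=
        Subgroup.relIndex_dvd_of_le_left _ le_sup_right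
      have h2 := relIndex_sup_dvd_card R₁ C (hR₁N.trans hNC)
      obtain ⟨a, ha⟩ := IsPGroup.iff_card.mp hR₁p
      rw [ha] at h2
      exact (Nat.dvd_prime_pow Fact.out).mp (h1.trans h2) |>.imp fun k hk => hk.2
  -- `R₁ ≤ R`
  obtain ⟨S, hS⟩ := hsyl
  obtain ⟨B, hB⟩ : ∃ B : Subgroup G, B = R₁ ⊓ C := ⟨_, rfl⟩
  have hBp : IsPGroup p (B.subgroupOf C) :=
    IsPGroup.comap_subtype (hR₁p.to_le (hB ▸ inf_le_left))
  have hSB : (S : Subgroup ↥C) ≤ B.subgroupOf C := by
    intro s hs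
    rw [Subgroup.mem_subgroupOf, hB]
    have : (s : G) ∈ R ⊓ C := by rw [← hS]; exact ⟨s, hs, rfl⟩
    exact ⟨hg.le this.1, this.2⟩
  have hBS : B.subgroupOf C = (S : Subgroup ↥C) := S.is_maximal' hBp hSB
  have hBR : B ≤ R := by
    intro b hb
    have hbC : b ∈ C := by rw [hB] at hb; exact hb.2
    have : (⟨b, hbC⟩ : ↥C) ∈ (S : Subgroup ↥C) := by
      rw [← hBS, Subgroup.mem_subgroupOf]; exact hb
    have h2 : b ∈ R ⊓ C := by rw [← hS]; exact ⟨⟨b, hbC⟩, this, rfl⟩
    exact h2.1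
  apply not_le_of_gt hg
  intro r₁ hr₁
  have h1 : r₁ ∈ ((R ⊔ C : Subgroup G) : Set G) := by
    rw [← hX]; exact Subgroup.mem_sup_left hr₁
  rw [Subgroup.coe_mul_of_left_le_normalizer_right R C (Subgroup.le_normalizer.trans hNC)] at h1
  obtain ⟨r, hr, c, hc, rfl⟩ := h1
  have hr' : r ∈ R := hr
  have hc' : c ∈ C := hc
  have hcR₁ : c ∈ R₁ := by
    have h2 : c = r⁻¹ * (r * c) := by group
    rw [h2]
    exact R₁.mul_mem (R₁.inv_mem (hg.le hr')) hr₁
  exact R.mul_mem hr' (hBR (hB ▸ ⟨hcR₁, hc'⟩))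

end Cfsg.Agent.Lib.Helper51
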