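import Cfsg.Agent.Lib.Helper51.CrLeast

set_option autoImplicit false
set_option linter.style.haveILetI false
set_option linter.unusedSectionVars false

/-!
# The largest subgroup whose normalizer controls fusion is centric and radical (`Qd(p)`-free case)
-/

universe u

namespace Cfsg.Agent.Lib.Helper51

open Cfsg Subgroup Cfsg.Agent.Lib.Helper33 Cfsg.Agent.Lib.Helper11

theorem ctl_bot {G : Type*} [Group G] (P : Subgroup G) : Ctl P ⊥ := by
  intro A g _ _
  refine ⟨g, ?_, fun a _ => rfl⟩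
  rw [Subgroup.normalizer_eq_top (⊥ : Subgroup G)]; exact Subgroup.mem_top g

theorem ctl_sup {G : Type*} [Group G] [Finite G] {P T₁ T₂ : Subgroup G} (hT₁P : T₁ ≤ P)
    (h₁ : Ctl P T₁) (h₂ : Ctl P T₂) : Ctl P (T₁ ⊔ T₂) := by
  intro A g hA hAg
  obtain ⟨x₁, hx₁, hxa₁⟩ := h₁ A g hA hAg
  have hx₁T : ∀ t ∈ T₁, x₁⁻¹ * t * x₁ ∈ T₁ := by
    intro t ht
    have := (Subgroup.mem_normalizer_iff.mp (Subgroup.inv_mem _ hx₁) t).mp ht
    simpa using this
  obtain ⟨x₂, hx₂, hxa₂⟩ := h₂ (A ∪ (T₁ : Set G)) x₁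
    (Set.union_subset hA hT₁P)
    (by
      rintro _ ⟨a, ha | ha, rfl⟩
      · show x₁⁻¹ * a * x₁ ∈ P
        rw [hxa₁ a ha]; exact hAg ⟨a, ha, rfl⟩
      · exact hT₁P (hx₁T a ha))
  have hx₂T : x₂ ∈ normalizer (T₁ : Set G) := by
    have h1 : cj x₂⁻¹ T₁ ≤ T₁ := by
      intro y hy
      obtain ⟨t, ht, rfl⟩ := mem_cj'.mp hy
      have := hxa₂ t (Or.inr ht)
      rw [inv_inv, this]
      exact hx₁T t ht
    have h2 := cj_eq_of_le h1
    have := cj_eq_self_iff.mp h2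
    simpa using Subgroup.inv_mem _ this
  refine ⟨x₂, ?_, ?_⟩
  · rw [← cj_eq_self_iff, cj_sup, cj_eq_self_iff.mpr hx₂T, cj_eq_self_iff.mpr hx₂]
  · intro a ha
    rw [hxa₂ a (Or.inl ha), hxa₁ a ha]

/-- the largest subgroup of `P` whose normalizer controls fusion in `P` -/
theorem exists_max_ctl {G : Type*} [Group G] [Finite G] (P : Subgroup G) :
    ∃ Q : Subgroup G, Q ≤ P ∧ Ctl P Q ∧ ∀ T : Subgroup G, T ≤ P → Ctl P T → T ≤ Q := by
  obtain ⟨Q, hQ, hmax⟩ := Set.exists_max_image {T : Subgroup G | T ≤ P ∧ Ctl P T}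
    (fun T => Nat.card T) (Set.toFinite _) ⟨⊥, bot_le, ctl_bot P⟩
  refine ⟨Q, hQ.1, hQ.2, ?_⟩
  intro T hTP hT
  have h1 : Q ⊔ T ∈ {T : Subgroup G | T ≤ P ∧ Ctl P T} :=
    ⟨sup_le hQ.1 hTP, ctl_sup hQ.1 hQ.2 hT⟩
  have h2 := hmax _ h1
  have h3 : Q = Q ⊔ T := Subgroup.eq_of_le_of_card_ge le_sup_left h2
  rw [h3]; exact le_sup_right


variable {p : ℕ} [Fact p.Prime] {𝒵 : ∀ (X : Type u) [Group X], Subgroup X → Subgroup X}

/-- **Main theorem** (for `Qd(p)`-free groups): the largest subgroup `Q` of `P` whose normalizer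
controls fusion is centric and radical. -/
theorem exists_centric_radical_ctl (h𝒵 : ZFun p 𝒵) {G : Type u} [Group G] [Finite G]
    (hqd : ¬ Involves ↥(qd p) G) (P : Sylow p G) :
    ∃ Q : Subgroup G, Q ≤ (P : Subgroup G) ∧ Ctl (P : Subgroup G) Q ∧
      (P : Subgroup G) ⊓ centralizer (Q : Set G) ≤ Q ∧
      ∀ X : Subgroup G, X ≤ normalizer (Q : Set G) →
        (∀ n ∈ normalizer (Q : Set G), X.map (MulAut.conj n).toMonoidHom = X) →
        Q ⊔ centralizer (Q : Set G) ≤ X →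
        (∃ k : ℕ, (Q ⊔ centralizer (Q : Set G)).relIndex X = p ^ k) →
        X = Q ⊔ centralizer (Q : Set G) := by
  obtain ⟨Q, hQP, hQ, hmax⟩ := exists_max_ctl (P : Subgroup G)
  obtain ⟨N, hN⟩ : ∃ N : Subgroup G, N = normalizer (Q : Set G) := ⟨_, rfl⟩
  obtain ⟨C, hC⟩ : ∃ C : Subgroup G, C = centralizer (Q : Set G) := ⟨_, rfl⟩
  have hPN : (P : Subgroup G) ≤ N := hN ▸ le_normalizer_of_ctl hQP hQ
  have hQN : Q ≤ N := hQP.trans hPN
  have hCN : C ≤ N := by rw [hC, hN]; exact Subgroup.centralizer_le_normalizer _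
  obtain ⟨PN, hPNc⟩ : ∃ PN : Sylow p ↥N, (PN : Subgroup ↥N) = (P : Subgroup G).subgroupOf N :=
    ⟨P.subtype hPN, Sylow.coe_subtype _ _⟩
  have hPNmap : (PN : Subgroup ↥N).map N.subtype = (P : Subgroup G) := by
    rw [hPNc, Subgroup.map_subgroupOf_eq_of_le hPN]
  haveI hQNn : (Q.subgroupOf N).Normal := by
    rw [hN]; exact Subgroup.normal_in_normalizer
  have hqdN : ¬ Involves ↥(qd p) ↥N := fun h =>
    hqd (involves_of_injective N.subtype (Subgroup.subtype_injective N) h)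
  have hQPN : Q.subgroupOf N ≤ (PN : Subgroup ↥N) := by
    rw [hPNc]
    intro z hz
    rw [Subgroup.mem_subgroupOf] at hz ⊢
    exact hQP hz
  -- transport of control from `N` to `G`
  have htrans : ∀ T' : Subgroup ↥N, T' ≤ (PN : Subgroup ↥N) → Ctl (PN : Subgroup ↥N) T' →
      T'.map N.subtype ≤ Q := by
    intro T' hT'P hT'
    have h1 := ctlIn_of_ctl_sub N _ _ hT'
    rw [hPNmap] at h1
    have h2 := ctl_comp hQ hN.ge h1
    apply hmax _ _ h2
    rw [← hPNmap]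
    exact Subgroup.map_mono hT'P
  have hmaxN : ∀ T' : Subgroup ↥N, T' ≤ (PN : Subgroup ↥N) → Ctl (PN : Subgroup ↥N) T' →
      T' ≤ Q.subgroupOf N := by
    intro T' hT'P hT' t ht
    rw [Subgroup.mem_subgroupOf]
    exact htrans T' hT'P hT' ⟨t, ht, rfl⟩
  have hcentN : centralizer ((Q.subgroupOf N : Subgroup ↥N) : Set ↥N) = C.subgroupOf N := by
    ext y
    rw [Subgroup.mem_subgroupOf, hC, Subgroup.mem_centralizer_iff, Subgroup.mem_centralizer_iff]
    constructor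
    · intro h q hq
      have := h ⟨q, hQN hq⟩ (Subgroup.mem_subgroupOf.mpr hq)
      exact congrArg Subtype.val this
    · intro h z hz
      apply Subtype.ext
      exact h (z : G) (Subgroup.mem_subgroupOf.mp hz)
  have hcenN := centric_of_max h𝒵 hqdN PN (Q.subgroupOf N) hQPN hmaxN
  have hcen : (P : Subgroup G) ⊓ C ≤ Q := by
    intro y hy
    have hyN : y ∈ N := hPN hy.1
    have h1 : (⟨y, hyN⟩ : ↥N) ∈ (PN : Subgroup ↥N) ⊓
        centralizer ((Q.subgroupOf N : Subgroup ↥N) : Set ↥N) := by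
      rw [hcentN, hPNc]
      exact ⟨Subgroup.mem_subgroupOf.mpr hy.1, Subgroup.mem_subgroupOf.mpr hy.2⟩
    exact Subgroup.mem_subgroupOf.mp (hcenN h1)
  refine ⟨Q, hQP, hQ, hC ▸ hcen, ?_⟩
  rw [← hN, ← hC]
  intro X hXN hXinv hQCX hidx
  have hNX : N ≤ normalizer (X : Set G) := by
    intro n hn
    exact cj_eq_self_iff.mp (hXinv n hn)
  obtain ⟨T, hT⟩ : ∃ T : Subgroup G, T = (P : Subgroup G) ⊓ X := ⟨_, rfl⟩
  have hTP : T ≤ (P : Subgroup G) := hT ▸ inf_le_left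
  have hTX : T ≤ X := hT ▸ inf_le_right
  have hQT : Q ≤ T := hT ▸ le_inf hQP (le_sup_left.trans hQCX)
  have hCX : C ≤ X := le_sup_right.trans hQCX
  have hTN : T ≤ N := hTP.trans hPN
  -- `X = T C`
  have hXTC : X ≤ T ⊔ C := by
    rw [← Subgroup.relIndex_eq_one]
    have h1 : (T ⊔ C).relIndex X ∣ (Q ⊔ C).relIndex X :=
      Subgroup.relIndex_dvd_of_le_left X (sup_le_sup_right hQT C)
    have h2 : (T ⊔ C).relIndex X ∣ T.relIndex X :=
      Subgroup.relIndex_dvd_of_le_left X le_sup_left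
    have h3 : ¬ p ∣ T.relIndex X := by
      rw [hT]
      exact sylow_inf_normal (N := N) hPN P.isPGroup' (sylow_not_dvd_relIndex P hPN) hXN hNX
    obtain ⟨k, hk⟩ := hidx
    rw [hk] at h1
    obtain ⟨j, -, hj⟩ := (Nat.dvd_prime_pow Fact.out).mp h1
    rcases Nat.eq_zero_or_pos j with rfl | hjpos
    · rw [hj, pow_zero]
    · exfalso
      apply h3
      apply Dvd.dvd.trans _ h2
      rw [hj]
      exact dvd_pow_self p hjpos.ne'
  have hXeq : T ⊔ C = X := le_antisymm (sup_le hTX hCX) hXTC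
  -- `T ≤ Q`
  have hTNn : ((T.subgroupOf N) ⊔ centralizer ((Q.subgroupOf N : Subgroup ↥N) : Set ↥N)).Normal := by
    rw [hcentN, ← Subgroup.subgroupOf_sup hTN hCN, hXeq]
    exact Subgroup.normal_subgroupOf_of_le_normalizer hNX
  have hTPN : T.subgroupOf N ≤ (PN : Subgroup ↥N) := by
    rw [hPNc]
    intro z hz
    rw [Subgroup.mem_subgroupOf] at hz ⊢
    exact hTP hz
  have hQTN : Q.subgroupOf N ≤ T.subgroupOf N := by
    intro z hz
    rw [Subgroup.mem_subgroupOf] at hz ⊢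
    exact hQT hz
  have hctlN := ctl_of_normal_sup_centralizer PN (Q.subgroupOf N) hcenN (T.subgroupOf N)
    hTPN hQTN hTNn
  have hTQ : T ≤ Q := by
    have := htrans _ hTPN hctlN
    rwa [Subgroup.map_subgroupOf_eq_of_le hTN] at this
  rw [← hXeq]
  exact le_antisymm (sup_le_sup_right hTQ C) (sup_le_sup_right hQT C)

end Cfsg.Agent.Lib.Helper51
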