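import Cfsg.Agent.Lib.Helper51.CrStepOne

set_option autoImplicit false
set_option linter.style.haveILetI false
set_option linter.unusedSectionVars false

/-!
# Relative control of fusion and functoriality of the preimage of `𝒵 (D / Z)`
-/

universe u

namespace Cfsg.Agent.Lib.Helper51

open Cfsg Subgroup Cfsg.Agent.Lib.Helper33 Cfsg.Agent.Lib.Helper11

/-- relative control: fusion in `P` by elements of `H` is controlled by `H ∩ N(T)` -/
def CtlIn {X : Type*} [Group X] (H P T : Subgroup X) : Prop :=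
  ∀ (A : Set X) (g : X), g ∈ H → A ⊆ (P : Set X) → rc g A ⊆ (P : Set X) →
    ∃ x ∈ H ⊓ normalizer (T : Set X), ∀ a ∈ A, x⁻¹ * a * x = g⁻¹ * a * g

theorem ctlIn_of_ctl_sub {X : Type*} [Group X] (H : Subgroup X) (P' T' : Subgroup ↥H)
    (h : Ctl P' T') : CtlIn H (P'.map H.subtype) (T'.map H.subtype) := by
  intro A g hg hA hAg
  have hAH : ∀ a ∈ A, a ∈ H := fun a ha => Subgroup.map_subtype_le P' (hA ha)
  obtain ⟨x, hxN, hx⟩ := h {y : ↥H | (y : X) ∈ A} ⟨g, hg⟩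
    (by
      intro y hy
      obtain ⟨z, hz, hzy⟩ := hA hy
      have : z = y := Subtype.ext hzy
      rw [← this]; exact hz)
    (by
      rintro _ ⟨y, hy, rfl⟩
      obtain ⟨z, hz, hzy⟩ := hAg ⟨(y : X), hy, rfl⟩
      have : z = (⟨g, hg⟩ : ↥H)⁻¹ * y * ⟨g, hg⟩ := Subtype.ext hzy
      show (⟨g, hg⟩ : ↥H)⁻¹ * y * ⟨g, hg⟩ ∈ P'
      rw [← this]; exact hz)
  refine ⟨(x : X), ⟨x.2, ?_⟩, ?_⟩
  · exact Subgroup.le_normalizer_map H.subtype ⟨x, hxN, rfl⟩
  · intro a ha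
    have := hx ⟨a, hAH a ha⟩ ha
    exact congrArg Subtype.val this

theorem ctl_comp {X : Type*} [Group X] {P Q T N : Subgroup X} (hQ : Ctl P Q)
    (hN : normalizer (Q : Set X) ≤ N) (hT : CtlIn N P T) : Ctl P T := by
  intro A g hA hAg
  obtain ⟨x, hx, hxa⟩ := hQ A g hA hAg
  obtain ⟨y, hy, hya⟩ := hT A x (hN hx) hA (by rw [rc_congr hxa]; exact hAg)
  exact ⟨y, hy.2, fun a ha => (hya a ha).trans (hxa a ha)⟩

variable {p : ℕ} [Fact p.Prime] {𝒵 : ∀ (X : Type u) [Group X], Subgroup X → Subgroup X}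

/-- the preimage of `𝒵 (D / Z)` computed in a subgroup `Y` agrees with the one computed in `X` -/
theorem comap_zfun_subgroup (h𝒵 : ZFun p 𝒵) {X : Type u} [Group X] [Finite X]
    (Y Z D : Subgroup X) [hZ : Z.Normal] (hDY : D ≤ Y) (hZD : Z ≤ D) :
    ((𝒵 (↥Y ⧸ Z.subgroupOf Y) ((D.subgroupOf Y).map (QuotientGroup.mk' (Z.subgroupOf Y)))).comap
      (QuotientGroup.mk' (Z.subgroupOf Y))).map Y.subtype =
    (𝒵 (X ⧸ Z) (D.map (QuotientGroup.mk' Z))).comap (QuotientGroup.mk' Z) := by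
  obtain ⟨ι, hι⟩ : ∃ ι : ↥Y ⧸ Z.subgroupOf Y →* X ⧸ Z,
      ι = QuotientGroup.map (Z.subgroupOf Y) Z Y.subtype le_rfl := ⟨_, rfl⟩
  have hιmk : ∀ y : ↥Y, ι (QuotientGroup.mk' (Z.subgroupOf Y) y) = QuotientGroup.mk' Z (y : X) := by
    intro y
    rw [hι]
    rfl
  have hιinj : Function.Injective ι := by
    rw [injective_iff_map_eq_one]
    intro w hw
    obtain ⟨y, rfl⟩ := QuotientGroup.mk'_surjective (Z.subgroupOf Y) w
    rw [hιmk] at hw
    have h1 : (y : X) ∈ Z := by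
      rw [← QuotientGroup.ker_mk' Z, MonoidHom.mem_ker]; exact hw
    have h2 : y ∈ (QuotientGroup.mk' (Z.subgroupOf Y)).ker := by
      rw [QuotientGroup.ker_mk', Subgroup.mem_subgroupOf]; exact h1
    exact h2
  obtain ⟨E, hE⟩ : ∃ E : Subgroup (↥Y ⧸ Z.subgroupOf Y),
      E = (D.subgroupOf Y).map (QuotientGroup.mk' (Z.subgroupOf Y)) := ⟨_, rfl⟩
  have hEmap : E.map ι = D.map (QuotientGroup.mk' Z) := by
    rw [hE, Subgroup.map_map]
    have hcomp : ι.comp (QuotientGroup.mk' (Z.subgroupOf Y)) = (QuotientGroup.mk' Z).comp Y.subtype := by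
      ext y
      exact hιmk y
    rw [hcomp, ← Subgroup.map_map, Subgroup.map_subgroupOf_eq_of_le hDY]
  have hmap := h𝒵.map (↥Y ⧸ Z.subgroupOf Y) (X ⧸ Z) ι E (fun x _ hx => hιinj (by rw [hx, map_one]))
  rw [hEmap] at hmap
  rw [← hE, hmap]
  ext t
  constructor
  · rintro ⟨y, hy, rfl⟩
    rw [Subgroup.mem_comap]
    refine ⟨QuotientGroup.mk' (Z.subgroupOf Y) y, hy, ?_⟩
    exact hιmk y
  · intro ht
    rw [Subgroup.mem_comap] at ht
    obtain ⟨w, hw, hwt⟩ := ht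
    have hwD : ι w ∈ D.map (QuotientGroup.mk' Z) := by
      rw [← hEmap]
      exact ⟨w, h𝒵.le _ E hw, rfl⟩
    rw [hwt] at hwD
    obtain ⟨d, hd, hdt⟩ := hwD
    have h5 : d⁻¹ * t ∈ Z := by
      rw [← QuotientGroup.ker_mk' Z, MonoidHom.mem_ker, map_mul, map_inv, hdt, inv_mul_cancel]
    have htD : t ∈ D := by
      have h6 : t = d * (d⁻¹ * t) := by group
      rw [h6]
      exact D.mul_mem hd (hZD h5)
    refine ⟨⟨t, hDY htD⟩, ?_, rfl⟩
    rw [SetLike.mem_coe, Subgroup.mem_comap]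
    have : QuotientGroup.mk' (Z.subgroupOf Y) ⟨t, hDY htD⟩ = w := by
      apply hιinj
      rw [hιmk, hwt]
    rw [this]; exact hw

end Cfsg.Agent.Lib.Helper51
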