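import Cfsg.Agent.Lib.Helper51.CrLeast
import Cfsg.Agent.Lib.Helper46.QdSylow

set_option autoImplicit false
set_option linter.style.haveILetI false
set_option linter.unusedSectionVars false

/-!
# From an involved `Qd(p)` to an `SL₂(p)` section of an automizer
-/

universe u

namespace Cfsg.Agent.Lib.Helper51

open Cfsg Subgroup

/-- a section `H / K` of `N(S) / C(S)` from a homomorphism into `N(S)` -/
theorem exists_section_of_hom {G L M : Type*} [Group G] [Group L] [Group M] (S : Subgroup G)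
    (ι : L →* G) (hι : ∀ l, ι l ∈ normalizer (S : Set G)) (ψ : L →* M)
    (hψ : Function.Surjective ψ) (hker : ∀ l, ι l ∈ centralizer (S : Set G) → ψ l = 1) :
    ∃ (H K : Subgroup G) (_ : (K.subgroupOf H).Normal),
      centralizer (S : Set G) ≤ K ∧ K ≤ H ∧ H ≤ normalizer (S : Set G) ∧
      Nonempty ((↥H ⧸ K.subgroupOf H) ≃* M) := by
  obtain ⟨C, hC⟩ : ∃ C : Subgroup G, C = centralizer (S : Set G) := ⟨_, rfl⟩
  rw [← hC] at hker ⊢
  have hNC : normalizer (S : Set G) ≤ normalizer (C : Set G) :=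
    hC ▸ normalizer_le_normalizer_centralizer S
  have hCN : C ≤ normalizer (S : Set G) := hC ▸ Subgroup.centralizer_le_normalizer _
  have hrN : ι.range ≤ normalizer (C : Set G) := by
    rintro _ ⟨l, rfl⟩
    exact hNC (hι l)
  obtain ⟨H, hH⟩ : ∃ H : Subgroup G, H = ι.range ⊔ C := ⟨_, rfl⟩
  have hdec : ∀ h : ↥H, ∃ l : L, ∃ c ∈ C, (h : G) = ι l * c := by
    intro h
    have h1 : (h : G) ∈ ((ι.range ⊔ C : Subgroup G) : Set G) := hH ▸ h.2
    rw [Subgroup.coe_mul_of_left_le_normalizer_right _ _ hrN] at h1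
    obtain ⟨_, ⟨l, rfl⟩, c, hc, h2⟩ := h1
    exact ⟨l, c, hc, h2.symm⟩
  obtain ⟨f, hf⟩ : ∃ f : ↥H → M, ∀ h : ↥H, f h = ψ (Classical.choose (hdec h)) := ⟨_, fun _ => rfl⟩
  have key : ∀ (h : ↥H) (l : L) (c : G), c ∈ C → (h : G) = ι l * c → f h = ψ l := by
    intro h l c hc hlc
    rw [hf]
    obtain ⟨c₀, hc₀, hlc₀⟩ := Classical.choose_spec (hdec h)
    set l₀ := Classical.choose (hdec h)
    have h1 : ι (l⁻¹ * l₀) = c * c₀⁻¹ := by
      rw [map_mul, map_inv]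
      have : ι l₀ = ι l * c * c₀⁻¹ := by rw [← hlc, hlc₀]; group
      rw [this]; group
    have h2 : ψ (l⁻¹ * l₀) = 1 := hker _ (by rw [h1]; exact C.mul_mem hc (C.inv_mem hc₀))
    rw [map_mul, map_inv] at h2
    have := eq_of_inv_mul_eq_one h2
    exact this.symm
  have hmul : ∀ a b : ↥H, f (a * b) = f a * f b := by
    intro a b
    obtain ⟨l₁, c₁, hc₁, h1⟩ := hdec a
    obtain ⟨l₂, c₂, hc₂, h2⟩ := hdec b
    rw [key a l₁ c₁ hc₁ h1, key b l₂ c₂ hc₂ h2, ← map_mul]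
    apply key (a * b) (l₁ * l₂) ((ι l₂)⁻¹ * c₁ * ι l₂ * c₂)
    · apply C.mul_mem _ hc₂
      have h3 : (ι l₂)⁻¹ ∈ normalizer (C : Set G) := Subgroup.inv_mem _ (hNC (hι l₂))
      have := (Subgroup.mem_normalizer_iff.mp h3 c₁).mp hc₁
      simpa using this
    · rw [Subgroup.coe_mul, h1, h2, map_mul]; group
  obtain ⟨F, hF⟩ : ∃ F : ↥H →* M, ∀ h, F h = f h := ⟨MonoidHom.mk' f hmul, fun _ => rfl⟩
  have hιH : ∀ l, ι l ∈ H := fun l => hH ▸ Subgroup.mem_sup_left ⟨l, rfl⟩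
  have hCH : C ≤ H := hH ▸ le_sup_right
  have hFsurj : Function.Surjective F := by
    intro m
    obtain ⟨l, rfl⟩ := hψ m
    refine ⟨⟨ι l, hιH l⟩, ?_⟩
    rw [hF]
    exact key _ l 1 C.one_mem (by simp)
  obtain ⟨K, hK⟩ : ∃ K : Subgroup G, K = F.ker.map H.subtype := ⟨_, rfl⟩
  have hKH : K.subgroupOf H = F.ker := by
    rw [hK]
    exact Subgroup.comap_map_eq_self_of_injective (Subgroup.subtype_injective H) _
  haveI hKn : (K.subgroupOf H).Normal := by rw [hKH]; infer_instance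
  refine ⟨H, K, hKn, ?_, ?_, ?_, ?_⟩
  · intro c hc
    rw [hK]
    refine ⟨⟨c, hCH hc⟩, ?_, rfl⟩
    rw [SetLike.mem_coe, MonoidHom.mem_ker, hF]
    rw [key _ 1 c hc (by simp), map_one]
  · rw [hK]; exact Subgroup.map_subtype_le _
  · rw [hH]
    apply sup_le _ hCN
    rintro _ ⟨l, rfl⟩
    exact hι l
  · exact ⟨(QuotientGroup.quotientMulEquivOfEq hKH).trans
      (QuotientGroup.quotientKerEquivOfSurjective F hFsurj)⟩


open Cfsg.Agent.Lib.Helper46.QdOver Cfsg.Agent.Lib.Helper46.SL2 Cfsg.Agent.Lib.Helper46.QdSylow in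
/-- the translation subgroup of `Qd` is self-centralizing -/
theorem centralizer_VV_le {F : Type*} [Field F] :
    centralizer ((VV F : Subgroup (QG F)) : Set (QG F)) ≤ VV F := by
  intro g hg
  rw [MonoidHom.mem_ker]
  apply ext_mv
  intro x
  rw [mv_one]
  have hv : tr x ∈ VV F := tr_mem_ker x
  have h1 := Subgroup.mem_centralizer_iff.mp hg (tr x) hv
  have h2 : g * tr x * g⁻¹ = tr x := by rw [← h1]; group
  have h3 := col_conj' g (tr x) hv
  rw [h2, col_tr] at h3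
  exact h3.symm

open Cfsg.Agent.Lib.Helper46.QdOver Cfsg.Agent.Lib.Helper46.SL2 Cfsg.Agent.Lib.Helper46.QdSylow in
/-- if `Qd(p)` is involved in `G`, some `p`-subgroup `S` has a section of `N(S)/C(S)` isomorphic
to `SL₂(p)` -/
theorem section_of_involves_qd {G : Type*} [Group G] [Finite G] {p : ℕ} [Fact p.Prime]
    (hinv : Involves ↥(qd p) G) :
    ∃ S : Subgroup G, IsPGroup p ↥S ∧ ∃ (H K : Subgroup G) (_ : (K.subgroupOf H).Normal),
      centralizer (S : Set G) ≤ K ∧ K ≤ H ∧ H ≤ normalizer (S : Set G) ∧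
      Nonempty ((↥H ⧸ K.subgroupOf H) ≃* Matrix.SpecialLinearGroup (Fin 2) (ZMod p)) := by
  obtain ⟨K₀, R₀, hn, ⟨e⟩⟩ := hinv
  obtain ⟨φ, hφ⟩ : ∃ φ : ↥K₀ →* QG (ZMod p),
      φ = e.toMonoidHom.comp (QuotientGroup.mk' (R₀.subgroupOf K₀)) := ⟨_, rfl⟩
  have hφs : Function.Surjective φ := by
    rw [hφ]
    exact e.surjective.comp (QuotientGroup.mk'_surjective _)
  obtain ⟨V, hV⟩ : ∃ V : Subgroup (QG (ZMod p)), V = VV (ZMod p) := ⟨_, rfl⟩
  haveI hVn : V.Normal := by rw [hV]; infer_instance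
  have hVp : IsPGroup p ↥V := by rw [hV]; exact ker_isPGroup p
  obtain ⟨Vh, hVh⟩ : ∃ Vh : Subgroup ↥K₀, Vh = V.comap φ := ⟨_, rfl⟩
  haveI hVhn : Vh.Normal := by rw [hVh]; infer_instance
  obtain ⟨S₁⟩ : Nonempty (Sylow p ↥Vh) := inferInstance
  obtain ⟨SK, hSK⟩ : ∃ SK : Subgroup ↥K₀, SK = (S₁ : Subgroup ↥Vh).map Vh.subtype := ⟨_, rfl⟩
  have hfrat : normalizer (SK : Set ↥K₀) ⊔ Vh = ⊤ := by
    rw [hSK]; exact Sylow.normalizer_sup_eq_top S₁
  -- `φ` maps `SK` onto `V`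
  have hφSK : ∀ v ∈ V, ∃ s ∈ SK, φ s = v := by
    intro v hv
    subst hVh
    have hsurj := MonoidHom.subgroupComap_surjective_of_surjective φ V hφs
    have h1 : ((S₁.mapSurjective hsurj : Sylow p ↥V) : Subgroup ↥V) = ⊤ :=
      ((S₁.mapSurjective hsurj).is_maximal' (hVp.to_subgroup ⊤) le_top).symm
    have h2 : (⟨v, hv⟩ : ↥V) ∈ ((S₁.mapSurjective hsurj : Sylow p ↥V) : Subgroup ↥V) := by
      rw [h1]; exact Subgroup.mem_top _
    rw [Sylow.coe_mapSurjective] at h2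
    obtain ⟨s₁, hs₁, hs₁v⟩ := h2
    refine ⟨(s₁ : ↥K₀), ?_, ?_⟩
    · rw [hSK]; exact ⟨s₁, hs₁, rfl⟩
    · have := congrArg Subtype.val hs₁v
      exact this
  obtain ⟨H₀, hH₀⟩ : ∃ H₀ : Subgroup ↥K₀, H₀ = normalizer (SK : Set ↥K₀) := ⟨_, rfl⟩
  rw [← hH₀] at hfrat
  obtain ⟨S, hS⟩ : ∃ S : Subgroup G, S = SK.map K₀.subtype := ⟨_, rfl⟩
  have hSp : IsPGroup p ↥S := by
    rw [hS, hSK]
    exact (S₁.2.map _).map _
  refine ⟨S, hSp, ?_⟩
  apply exists_section_of_hom S (K₀.subtype.comp H₀.subtype) ?_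
    ((blk : QG (ZMod p) →* SL (ZMod p)).comp (φ.comp H₀.subtype)) ?_ ?_
  · intro l
    rw [hS]
    apply Subgroup.le_normalizer_map K₀.subtype
    refine ⟨(l : ↥K₀), ?_, rfl⟩
    rw [SetLike.mem_coe, ← hH₀]
    exact l.2
  · intro A
    obtain ⟨g, rfl⟩ := blk_surjective (F := ZMod p) A
    obtain ⟨k, rfl⟩ := hφs g
    have hk : k ∈ H₀ ⊔ Vh := by rw [hfrat]; exact Subgroup.mem_top _
    obtain ⟨h, hh, v, hv, rfl⟩ := Subgroup.mem_sup_of_normal_right.mp hk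
    refine ⟨⟨h, hh⟩, ?_⟩
    simp only [MonoidHom.coe_comp, Function.comp_apply, Subgroup.coe_subtype, map_mul]
    have hv' : φ v ∈ VV (ZMod p) := by
      rw [hVh, Subgroup.mem_comap, hV] at hv; exact hv
    rw [MonoidHom.mem_ker.mp hv', mul_one]
  · intro l hl
    simp only [MonoidHom.coe_comp, Function.comp_apply, Subgroup.coe_subtype] at hl ⊢
    have hcen : φ (l : ↥K₀) ∈ centralizer ((VV (ZMod p) : Subgroup (QG (ZMod p))) : Set (QG (ZMod p))) := by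
      rw [Subgroup.mem_centralizer_iff]
      intro v hv
      obtain ⟨s, hs, rfl⟩ := hφSK v (hV ▸ hv)
      have hsS : ((s : ↥K₀) : G) ∈ S := by rw [hS]; exact ⟨s, hs, rfl⟩
      have h1 := Subgroup.mem_centralizer_iff.mp hl _ hsS
      have h2 : s * (l : ↥K₀) = (l : ↥K₀) * s := by
        apply Subtype.ext
        simp only [Subgroup.coe_mul]
        exact h1
      rw [← map_mul, ← map_mul, h2]
    exact MonoidHom.mem_ker.mp (centralizer_VV_le hcen)

end Cfsg.Agent.Lib.Helper51
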