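import Cfsg.Agent.Lib.Helper51.CrCases

set_option autoImplicit false
set_option linter.style.haveILetI false
set_option linter.unusedSectionVars false

/-!
# Control of fusion modulo a normal `p`-subgroup centralized by all `p'`-elements
-/

universe u

namespace Cfsg.Agent.Lib.Helper51

open Cfsg Subgroup Cfsg.Agent.Lib.Helper33 Cfsg.Agent.Lib.Helper11

variable {p : ℕ} [Fact p.Prime] {𝒵 : ∀ (X : Type u) [Group X], Subgroup X → Subgroup X}

/-- `P` normalizes `D` when `D` is strongly closed in `P`. -/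
theorem le_normalizer_of_stronglyClosed {X : Type*} [Group X] {P D : Subgroup X}
    (hD : IsStronglyClosed D P) : P ≤ normalizer (D : Set X) := by
  intro t ht
  rw [Subgroup.mem_normalizer_iff]
  intro d
  constructor
  · intro hd
    exact stronglyClosed_conj_mem hD ht hd
  · intro hd
    have := stronglyClosed_conj_mem hD (P.inv_mem ht) hd
    have e : t⁻¹ * (t * d * t⁻¹) * t⁻¹⁻¹ = d := by group
    rwa [e] at this

/-- the preimage of `𝒵 (D Z / Z)` is normalized by the normalizer of `D` -/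
theorem normalizer_le_normalizer_comap (h𝒵 : ZFun p 𝒵) {Y : Type u} [Group Y] [Finite Y]
    (Z : Subgroup Y) [Z.Normal] (D : Subgroup Y) :
    normalizer (D : Set Y) ≤ normalizer
      (((𝒵 (Y ⧸ Z) (D.map (QuotientGroup.mk' Z))).comap (QuotientGroup.mk' Z) : Subgroup Y) :
        Set Y) := by
  rw [← Subgroup.comap_normalizer_eq_of_surjective _ (QuotientGroup.mk'_surjective Z)]
  intro t ht
  rw [Subgroup.mem_comap]
  apply h𝒵.normalizer_le (D.map (QuotientGroup.mk' Z))
  apply Subgroup.le_normalizer_map (QuotientGroup.mk' Z)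
  exact ⟨t, ht, rfl⟩

/-- **Step 1**: in a `Qd(p)`-free group in which all `p'`-elements centralize the normal
`p`-subgroup `Z`, the preimage of `𝒵 (D Z / Z)` controls fusion. -/
theorem ctl_mod_central (h𝒵 : ZFun p 𝒵) (Y : Type u) [Group Y] [Finite Y]
    (hqd : ¬ Involves ↥(qd p) Y) (P : Sylow p Y) (Z : Subgroup Y) [hZn : Z.Normal]
    (hZP : Z ≤ (P : Subgroup Y))
    (hC : ∀ b : Y, ∀ m : ℕ, m.Coprime p → b ^ m = 1 → b ∈ centralizer (Z : Set Y))
    (D : Subgroup Y) (hD : IsStronglyClosed D (P : Subgroup Y)) :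
    Ctl (P : Subgroup Y)
      ((𝒵 (Y ⧸ Z) (D.map (QuotientGroup.mk' Z))).comap (QuotientGroup.mk' Z)) := by
  obtain ⟨T, hT⟩ : ∃ T : Subgroup Y,
    T = (𝒵 (Y ⧸ Z) (D.map (QuotientGroup.mk' Z))).comap (QuotientGroup.mk' Z) := ⟨_, rfl⟩
  rw [← hT]
  have hPT : (P : Subgroup Y) ≤ normalizer (T : Set Y) := by
    rw [hT]
    exact (le_normalizer_of_stronglyClosed hD).trans (normalizer_le_normalizer_comap h𝒵 Z D)
  have hq : Ctl ((P : Subgroup Y).map (QuotientGroup.mk' Z))
      (𝒵 (Y ⧸ Z) (D.map (QuotientGroup.mk' Z))) := by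
    have hPb : IsPGroup p ((P : Subgroup Y).map (QuotientGroup.mk' Z)) := P.isPGroup'.map _
    have hPi := not_dvd_index_map P (QuotientGroup.mk' Z) (QuotientGroup.mk'_surjective Z)
    have h1 := closed_master h𝒵 (Nat.card (Y ⧸ Z)) (Y ⧸ Z) rfl
      (fun h => hqd (involves_of_surjective (QuotientGroup.mk' Z)
        (QuotientGroup.mk'_surjective Z) h)) (hPb.toSylow hPi) (D.map (QuotientGroup.mk' Z))
      (by
        rw [IsPGroup.toSylow_coe]
        exact stronglyClosed_map_of_surjective P hD _ (QuotientGroup.mk'_surjective Z))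
    rwa [IsPGroup.toSylow_coe] at h1
  obtain ⟨π, hπ⟩ : ∃ π : Y →* Y ⧸ Z, π = QuotientGroup.mk' Z := ⟨_, rfl⟩
  have hπs : Function.Surjective π := by rw [hπ]; exact QuotientGroup.mk'_surjective Z
  have hker : π.ker = Z := by rw [hπ]; exact QuotientGroup.ker_mk' Z
  rw [← hπ] at hq hT
  apply ctl_of_ctlAt
  apply ctlAt_case5' Z hZP ?_ hC ?_
  · intro A u hu hA
    apply goodF_of_mem (hPT hu) (fun a _ => rfl)
    rintro _ ⟨a, ha, rfl⟩
    exact (P : Subgroup Y).mul_mem ((P : Subgroup Y).mul_mem ((P : Subgroup Y).inv_mem hu) (hA ha)) hu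
  · intro U hUP hQU x hx
    have hA' : π '' (U : Set Y) ⊆ ((P : Subgroup Y).map π : Subgroup (Y ⧸ Z)) := by
      rintro _ ⟨a, ha, rfl⟩
      exact ⟨a, hUP ha, rfl⟩
    have hrcU : rc x (U : Set Y) = U := by
      rw [rc_coe, cj_eq_self_iff.mpr (inv_mem hx)]
    have hAg' : rc (π x) (π '' (U : Set Y)) ⊆ ((P : Subgroup Y).map π : Subgroup (Y ⧸ Z)) := by
      rw [← image_rc, hrcU]; exact hA'
    obtain ⟨xb, hxb, hxa⟩ := hq (π '' (U : Set Y)) (π x) hA' hAg'
    obtain ⟨g', rfl⟩ := hπs xb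
    have hg'N : g' ∈ normalizer (T : Set Y) := by
      rw [hT, ← Subgroup.comap_normalizer_eq_of_surjective _ hπs, Subgroup.mem_comap]
      exact hxb
    have hmod : ∀ u ∈ U, (g'⁻¹ * u * g')⁻¹ * (x⁻¹ * u * x) ∈ Z := by
      intro u hu
      rw [← hker, MonoidHom.mem_ker]
      have := hxa (π u) ⟨u, hu, rfl⟩
      simp only [map_mul, map_inv]
      rw [this]
      group
    refine ⟨g', ?_, hmod⟩
    apply goodF_of_mem hg'N (fun a _ => rfl)
    rintro _ ⟨u, hu, rfl⟩
    apply hUP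
    have h1 := hmod u hu
    have h2 : x⁻¹ * u * x ∈ U := by
      have := (Subgroup.mem_normalizer_iff.mp (Subgroup.inv_mem _ hx) u).mp hu
      simpa using this
    have h3 : g'⁻¹ * u * g' = (x⁻¹ * u * x) * ((g'⁻¹ * u * g')⁻¹ * (x⁻¹ * u * x))⁻¹ := by group
    show g'⁻¹ * u * g' ∈ U
    rw [h3]
    exact U.mul_mem h2 (U.inv_mem (hQU h1))

end Cfsg.Agent.Lib.Helper51
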