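import Cfsg.Agent.Lib.Helper88.CravDefs
import Cfsg.Agent.Lib.Helper87.FusionBasic
import Cfsg.Agent.Lib.Helper87.Saturation
import Cfsg.Agent.Lib.Helper87.Alperin
import Cfsg.Agent.Lib.Helper87.Lemma26
import Cfsg.Agent.Lib.Helper87.HypAct
import Cfsg.Agent.Lib.Helper87.ModExt
import Cfsg.Agent.Lib.Helper87.NRInvariant
import Cfsg.Agent.Lib.Helper87.NormalizerSystem
import Cfsg.Agent.Lib.Helper87.AutTransport
import Cfsg.Agent.Lib.Helper85.FullyNormalized
import Cfsg.Agent.Lib.Helper85.DirectFactor2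
import Cfsg.Agent.Lib.Helper85.PPowerNormal4

/-!
# Leaf CR-L2 of S5141 (owner helper88): `pElt_mem_niceHom`
-/

set_option autoImplicit false

namespace Cfsg.Agent.Lib.Helper88.Crav

open Cfsg Cfsg.FusionSystem Cfsg.Agent.Lib.Helper88 Cfsg.Agent.Lib.Helper87

variable {Ω : Type*} [Group Ω] {S T : Subgroup Ω}

/-- a conjugation preserving `P'` both ways is in the normalizer -/
theorem h51_mem_normalizer_of_aut {P' : Subgroup Ω} (α : MulAut P') (t : Ω)
    (h : ∀ x : P', ((α x : P') : Ω) = t * x * t⁻¹) : t ∈ Subgroup.normalizer (P' : Set Ω) := by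
  rw [Subgroup.mem_normalizer_iff]
  intro n
  constructor
  · intro hn
    rw [← h ⟨n, hn⟩]
    exact (α ⟨n, hn⟩).2
  · intro hn
    have h1 := h (α⁻¹ ⟨t * n * t⁻¹, hn⟩)
    have h2 : α (α⁻¹ ⟨t * n * t⁻¹, hn⟩) = ⟨t * n * t⁻¹, hn⟩ := by
      show α (α.symm _) = _
      simp
    rw [h2] at h1
    have h3 : n = ((α⁻¹ ⟨t * n * t⁻¹, hn⟩ : P') : Ω) := by
      have h4 : t * n * t⁻¹ = t * ((α⁻¹ ⟨t * n * t⁻¹, hn⟩ : P') : Ω) * t⁻¹ := h1
      exact mul_left_cancel (mul_right_cancel h4)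
    rw [h3]
    exact (α⁻¹ ⟨t * n * t⁻¹, hn⟩).2

/-- an element of `S` normalizing `P'` normalizes `P' ⊔ C_S(P')` -/
theorem h51_mem_normalizer_sup {P' : Subgroup Ω} {t : Ω} (htS : t ∈ S)
    (ht : t ∈ Subgroup.normalizer (P' : Set Ω)) :
    t ∈ Subgroup.normalizer ((P' ⊔ centralizerIn S P' : Subgroup Ω) : Set Ω) := by
  have key : ∀ s : Ω, s ∈ S → s ∈ Subgroup.normalizer (P' : Set Ω) →
      ∀ n ∈ P' ⊔ centralizerIn S P', s * n * s⁻¹ ∈ P' ⊔ centralizerIn S P' := by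
    intro s hsS hs n hn
    have hle : P' ⊔ centralizerIn S P' ≤
        (P' ⊔ centralizerIn S P').comap (MulAut.conj s).toMonoidHom := by
      apply sup_le
      · intro x hx
        rw [Subgroup.mem_comap]
        show s * x * s⁻¹ ∈ (P' ⊔ centralizerIn S P' : Subgroup Ω)
        exact (le_sup_left : P' ≤ P' ⊔ centralizerIn S P')
          ((Subgroup.mem_normalizer_iff.mp hs x).mp hx)
      · intro c hc
        rw [Subgroup.mem_comap]
        show s * c * s⁻¹ ∈ (P' ⊔ centralizerIn S P' : Subgroup Ω)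
        refine (le_sup_right : centralizerIn S P' ≤ P' ⊔ centralizerIn S P')
          ⟨S.mul_mem (S.mul_mem hsS hc.1) (S.inv_mem hsS), ?_⟩
        show s * c * s⁻¹ ∈ Subgroup.centralizer (P' : Set Ω)
        rw [Subgroup.mem_centralizer_iff]
        intro y hy
        have hy' : s⁻¹ * y * s ∈ P' := by
          have := (Subgroup.mem_normalizer_iff.mp (Subgroup.inv_mem _ hs) y).mp hy
          simpa using this
        have h1 := Subgroup.mem_centralizer_iff.mp hc.2 _ hy'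
        calc y * (s * c * s⁻¹) = s * ((s⁻¹ * y * s) * c) * s⁻¹ := by group
          _ = s * (c * (s⁻¹ * y * s)) * s⁻¹ := by rw [h1]
          _ = s * c * s⁻¹ * y := by group
    exact hle hn
  rw [Subgroup.mem_normalizer_iff]
  intro n
  constructor
  · exact key t htS ht n
  · intro hn
    have := key t⁻¹ (S.inv_mem htS) (Subgroup.inv_mem _ ht) _ hn
    have e : t⁻¹ * (t * n * t⁻¹) * t⁻¹⁻¹ = n := by group
    rwa [e] at this


/-- an automorphism in `F` of a receptive subgroup extends to `P' C_S(P')` -/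
theorem h51_extend_aut [Finite S] (F : FusionSystem S) {P' : Subgroup Ω} (hP'S : P' ≤ S)
    (hrec : F.IsReceptive P') {β : MulAut P'} (hβ : β ∈ F.autGroup P') :
    ∃ βh ∈ F.autGroup (P' ⊔ centralizerIn S P'), ∀ x : P',
      ((βh (Subgroup.inclusion le_sup_left x) : ↥(P' ⊔ centralizerIn S P')) : Ω) =
        ((β x : P') : Ω) := by
  have hMS : P' ⊔ centralizerIn S P' ≤ S := sup_le hP'S (centralizerIn_le S P')
  haveI : Finite ↥(P' ⊔ centralizerIn S P') := finite_of_le hMS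
  have hφ : P'.subtype.comp β.toMonoidHom ∈ F.Hom P' := (mem_autGroup_iff F hP'S β).mp hβ
  have hr : (P'.subtype.comp β.toMonoidHom).range = P' := by
    apply le_antisymm
    · rintro _ ⟨x, rfl⟩
      exact (β x).2
    · intro y hy
      refine ⟨β⁻¹ ⟨y, hy⟩, ?_⟩
      show ((β (β⁻¹ ⟨y, hy⟩) : P') : Ω) = y
      have : β (β⁻¹ ⟨y, hy⟩) = ⟨y, hy⟩ := by
        show β (β.symm _) = _
        simp
      rw [this]
  have hM : P' ⊔ centralizerIn S P' ≤ extender S P' (P'.subtype.comp β.toMonoidHom) :=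
    sup_le (self_le_extender F hφ) (centralizerIn_le_extender' P' _)
  obtain ⟨ψ, hψ, hψe⟩ := extend_to_sub F hφ hr hrec hM
  have hψP : ∀ x : P', ψ (Subgroup.inclusion le_sup_left x) = ((β x : P') : Ω) := by
    intro x
    exact hψe x x.2 ((le_sup_left : P' ≤ P' ⊔ centralizerIn S P') x.2)
  have hmaps : ∀ z : ↥(P' ⊔ centralizerIn S P'), ψ z ∈ P' ⊔ centralizerIn S P' := by
    have := forall_sup_of_subgroup (P := P') (Q := centralizerIn S P')
      ((P' ⊔ centralizerIn S P').comap ψ) ?_ ?_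
    · intro z
      exact this z
    · intro x hx
      rw [Subgroup.mem_comap]
      have := hψP ⟨x, hx⟩
      have e : (Subgroup.inclusion (le_sup_left : P' ≤ P' ⊔ centralizerIn S P') ⟨x, hx⟩) =
          ⟨x, (le_sup_left : P' ≤ P' ⊔ centralizerIn S P') hx⟩ := rfl
      rw [e] at this
      rw [this]
      exact (le_sup_left : P' ≤ P' ⊔ centralizerIn S P') (β ⟨x, hx⟩).2
    · intro c hc
      rw [Subgroup.mem_comap]
      refine (le_sup_right : centralizerIn S P' ≤ P' ⊔ centralizerIn S P')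
        ⟨hom_mem_S F hψ _, ?_⟩
      exact Cfsg.Agent.Lib.Helper85.map_mem_centralizer
        (le_sup_left : P' ≤ P' ⊔ centralizerIn S P') ψ β hψP hc.2
  obtain ⟨βh, hβh, hβhe⟩ := exists_aut_of_hom F hψ hmaps
  exact ⟨βh, hβh, fun x => by rw [hβhe, hψP]⟩

/-- conjugation by an element of `T` is trivial modulo `T` -/
theorem h51_conjAut_mem_modKer (F : FusionSystem S) (hT : F.StronglyClosed T) {M : Subgroup Ω}
    (hMS : M ≤ S) {t : Ω} (htT : t ∈ T) (ht : t ∈ Subgroup.normalizer (M : Set Ω)) :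
    conjAut M t ht ∈ modKer F T M := by
  have hTS : T ≤ S := hT.1
  refine ⟨autInducedBy_le_autGroup F hMS (conjAut_mem_autInducedBy (hTS htT) ht), fun x => ?_⟩
  rw [conjAut_coe]
  have hxS : (x : Ω)⁻¹ ∈ S := S.inv_mem (hMS x.2)
  have h1 := (Subgroup.mem_normalizer_iff.mp
    (Cfsg.Agent.Lib.Helper85.le_normalizer_of_stronglyClosed F hT hxS) t).mp htT
  have e : (x : Ω)⁻¹ * (t * (x : Ω) * t⁻¹) = ((x : Ω)⁻¹ * t * ((x : Ω)⁻¹)⁻¹) * t⁻¹ := by group
  rw [e]
  exact T.mul_mem h1 (T.inv_mem htT)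

/-- transport of an automorphism trivial modulo `T` back along a map of `F` -/
theorem h51_transport (F : FusionSystem S) (hT : F.StronglyClosed T) {N Q M : Subgroup Ω}
    (hQN : Q ≤ N) {ρ : N →* Ω} (hρ : ρ ∈ F.Hom N) (hMS : M ≤ S)
    (hmaps : ∀ z : Q, ρ (Subgroup.inclusion hQN z) ∈ M)
    {γh : MulAut M} (hγh : γh ∈ modKer F T M)
    (hpres : ∀ z : Q, ∃ z' : Q,
      ρ (Subgroup.inclusion hQN z') = ((γh ⟨_, hmaps z⟩ : M) : Ω)) :
    ∃ ψ ∈ F.Hom Q, (∀ z : Q, ∃ z' : Q, ψ z = (z' : Ω) ∧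
        ρ (Subgroup.inclusion hQN z') = ((γh ⟨_, hmaps z⟩ : M) : Ω)) ∧
      ∀ z : Q, (z : Ω)⁻¹ * ψ z ∈ T := by
  have hρQ : ρ.comp (Subgroup.inclusion hQN) ∈ F.Hom Q := restrict_mem F hρ hQN
  obtain ⟨ρinv, hρinv, hρinve, -⟩ := inv_exists F hρQ rfl
  have hM₀M : (ρ.comp (Subgroup.inclusion hQN)).range ≤ M := by
    rintro _ ⟨z, rfl⟩
    exact hmaps z
  have hg : M.subtype.comp γh.toMonoidHom ∈ F.Hom M := (mem_autGroup_iff F hMS γh).mp hγh.1
  have hg₀ := restrict_mem F hg hM₀M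
  have hg₀m : ∀ w : (ρ.comp (Subgroup.inclusion hQN)).range,
      ((M.subtype.comp γh.toMonoidHom).comp (Subgroup.inclusion hM₀M)) w ∈
        (ρ.comp (Subgroup.inclusion hQN)).range := by
    rintro ⟨_, z, rfl⟩
    obtain ⟨z', hz'⟩ := hpres z
    exact ⟨z', hz'⟩
  have hm1 : ∀ z : Q, (ρ.comp (Subgroup.inclusion hQN)) z ∈
      (ρ.comp (Subgroup.inclusion hQN)).range := fun z => ⟨z, rfl⟩
  have c1 := F.comp_mem hρQ hg₀ hm1
  have hm2 : ∀ z : Q, (((M.subtype.comp γh.toMonoidHom).comp (Subgroup.inclusion hM₀M)).comp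
      ((ρ.comp (Subgroup.inclusion hQN)).codRestrict _ hm1)) z ∈
        (ρ.comp (Subgroup.inclusion hQN)).range := fun z => hg₀m _
  have c2 := F.comp_mem c1 hρinv hm2
  have key : ∀ z : Q, ∃ z' : Q, (ρinv.comp ((((M.subtype.comp γh.toMonoidHom).comp
      (Subgroup.inclusion hM₀M)).comp
      ((ρ.comp (Subgroup.inclusion hQN)).codRestrict _ hm1)).codRestrict _ hm2)) z = (z' : Ω) ∧
        ρ (Subgroup.inclusion hQN z') = ((γh ⟨_, hmaps z⟩ : M) : Ω) := by
    intro z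
    obtain ⟨z', hz'⟩ := hpres z
    refine ⟨z', ?_, hz'⟩
    have h1 := hρinve z' ⟨z', rfl⟩
    rw [← h1]
    show ρinv ⟨((γh ⟨ρ (Subgroup.inclusion hQN z), _⟩ : M) : Ω), _⟩ = _
    congr 1
    apply Subtype.ext
    exact hz'.symm
  refine ⟨_, c2, key, fun z => ?_⟩
  obtain ⟨z', hz'1, hz'2⟩ := key z
  rw [hz'1]
  -- `z⁻¹ z' = ρinv (ρ (z⁻¹ z'))`
  have h2 := hρinve (z⁻¹ * z') ⟨_, rfl⟩
  have h3 : ((z⁻¹ * z' : Q) : Ω) = (z : Ω)⁻¹ * (z' : Ω) := rfl
  rw [← h3, ← h2]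
  apply stronglyClosed_map_mem F hT hρinv
  show (ρ.comp (Subgroup.inclusion hQN)) (z⁻¹ * z') ∈ T
  rw [map_mul, map_inv]
  show (ρ (Subgroup.inclusion hQN z))⁻¹ * ρ (Subgroup.inclusion hQN z') ∈ T
  rw [hz'2]
  exact hγh.2 ⟨_, hmaps z⟩

variable [Finite S] {p : ℕ} [Fact p.Prime]
  {F : FusionSystem S} {E : FusionSystem T}

/-- CR-L2. -/
theorem pElt_mem_niceHom (h : WN p F E) {P : Subgroup Ω} (hPc : E.IsCentric P) (γ : MulAut P)
    (hγ : γ ∈ E.autGroup P) (k : ℕ) (hk : orderOf γ = p ^ k) :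
    P.subtype.comp γ.toMonoidHom ∈ niceHom F E P := by
  have hEF : E.IsSubsystemOf F := h.hinvar.1
  have hT : F.StronglyClosed T := h.hinvar.2.1
  have hTS : T ≤ S := hT.1
  have hPT : P ≤ T := hPc.1
  have hPS : P ≤ S := hPT.trans hTS
  haveI : Finite T := finite_of_le hTS
  have hTp : IsPGroup p T := h.hS.to_le hTS
  refine ⟨(mem_autGroup_iff E hPT γ).mp hγ, ?_⟩
  -- Step 1 : a fully normalized conjugate
  obtain ⟨P', hcPP', hfn⟩ := exists_fullyNormalized_conj F hPS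
  obtain ⟨hfc, hfa⟩ := fc_fa_of_fullyNormalized h.hS F h.hF hfn
  have hrec := receptive_of_fullyNormalized h.hS F h.hF hfn
  obtain ⟨ρ, hρ, hρN, hρP, hρsurj⟩ := exists_normalizer_map h.hS F hfa hrec hcPP'
  have hP'S : P' ≤ S := hfn.1
  have hPN : P ≤ normalizerIn S P := le_normalizerIn hPS
  have hρP_mem : ρ.comp (Subgroup.inclusion hPN) ∈ F.Hom P := restrict_mem F hρ hPN
  have hr : (ρ.comp (Subgroup.inclusion hPN)).range = P' := by
    apply le_antisymm
    · rintro _ ⟨x, rfl⟩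
      exact hρP _ x.2
    · intro q hq
      obtain ⟨x, hx, rfl⟩ := hρsurj q hq
      exact ⟨⟨x, hx⟩, rfl⟩
  have hP'T : P' ≤ T := by
    intro q hq
    obtain ⟨x, hx, rfl⟩ := hρsurj q hq
    exact stronglyClosed_map_mem F hT hρ x (hPT hx)
  -- Step 2 : transport `γ`
  let e : P ≃* P' := isoOfHom _ (F.injective_of_mem hρP_mem) hr
  have he : ∀ x : P, ((e x : P') : Ω) = ρ (Subgroup.inclusion hPN x) := fun x => rfl
  obtain ⟨χ, hχ, hχinv, hχr⟩ := inv_exists F hρP_mem hr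
  have hχe : ∀ y : P', χ y = ((e.symm y : P) : Ω) := by
    intro y
    have h1 : (ρ.comp (Subgroup.inclusion hPN)) (e.symm y) ∈ P' := by
      have := (e (e.symm y)).2
      rwa [he] at this
    have h2 := hχinv (e.symm y) h1
    have h3 : (⟨(ρ.comp (Subgroup.inclusion hPN)) (e.symm y), h1⟩ : P') = y := by
      apply Subtype.ext
      show ρ (Subgroup.inclusion hPN (e.symm y)) = y
      rw [← he]
      simp
    rw [h3] at h2
    exact h2
  have hχP : ∀ y : P', χ y ∈ P := fun y => by rw [hχe]; exact (e.symm y).2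
  have hγ' : MulAut.congr e γ ∈ E.autGroup P' := by
    refine NR.aut_mem_of_conj F E h.hinvar hP'T hPT hχ hχP hγ (fun y => ?_)
    have e1 : e.symm ((MulAut.congr e γ) y) = γ (e.symm y) := by simp [MulAut.congr]
    have e2 : (⟨χ y, hχP y⟩ : P) = e.symm y := Subtype.ext (hχe y)
    rw [hχe ((MulAut.congr e γ) y), e1, e2]
  have hord : orderOf (MulAut.congr e γ) = p ^ k := by
    rw [MulEquiv.orderOf_eq]
    exact hk
  have hpz : IsPGroup p (Subgroup.zpowers (MulAut.congr e γ)) := by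
    apply IsPGroup.of_card (n := k)
    rw [Nat.card_zpowers, hord]
  -- Step 3 : `P'` is fully automized in `E`
  have hfnE : E.IsFullyNormalized P' :=
    Cfsg.Agent.Lib.Helper85.fullyNormalized_of_stronglyClosed h.hS F h.hF E hEF hT hP'T hfn
  have hfaE : E.IsFullyAutomized p P' := (fc_fa_of_fullyNormalized hTp E h.hE hfnE).2
  -- Step 4 : conjugate into `Aut_T(P')`
  obtain ⟨β, hβ, hβc⟩ := exists_conj_into_autS E hfaE (Subgroup.zpowers (MulAut.congr e γ))
    (Subgroup.zpowers_le.mpr hγ') hpz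
  have h1 := hβc _ (Subgroup.mem_zpowers _)
  obtain ⟨t, htT, htα⟩ := (mem_autInducedBy_iff T P' _).mp h1
  have htS : t ∈ S := hTS htT
  have htN : t ∈ Subgroup.normalizer (P' : Set Ω) := h51_mem_normalizer_of_aut _ t htα
  -- Step 5 : extend `β`
  obtain ⟨βh, hβh, hβhe⟩ := h51_extend_aut F hP'S hrec
    (NR.autGroup_le_of_isSubsystemOf hEF P' hβ)
  have hMS : P' ⊔ centralizerIn S P' ≤ S := sup_le hP'S (centralizerIn_le S P')
  have htM : t ∈ Subgroup.normalizer ((P' ⊔ centralizerIn S P' : Subgroup Ω) : Set Ω) :=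
    h51_mem_normalizer_sup htS htN
  have hct := h51_conjAut_mem_modKer F hT hMS htT htM
  have hγh : βh⁻¹ * conjAut _ t htM * βh⁻¹⁻¹ ∈ modKer F T (P' ⊔ centralizerIn S P') :=
    conj_mem_modKer F hT hMS ((F.autGroup _).inv_mem hβh) hct
  have hβi : ∀ x : P', βh (Subgroup.inclusion le_sup_left x) =
      Subgroup.inclusion le_sup_left (β x) := fun x => Subtype.ext (hβhe x)
  have hγhP : ∀ y : P', (βh⁻¹ * conjAut _ t htM * βh⁻¹⁻¹) (Subgroup.inclusion le_sup_left y) =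
      Subgroup.inclusion le_sup_left (MulAut.congr e γ y) := by
    intro y
    rw [inv_inv]
    show βh⁻¹ (conjAut _ t htM (βh (Subgroup.inclusion le_sup_left y))) = _
    rw [hβi]
    have h2 : conjAut _ t htM (Subgroup.inclusion le_sup_left (β y)) =
        Subgroup.inclusion le_sup_left ((β * MulAut.congr e γ * β⁻¹) (β y)) := by
      apply Subtype.ext
      rw [conjAut_coe]
      exact (htα (β y)).symm
    rw [h2]
    have h3 : (β * MulAut.congr e γ * β⁻¹) (β y) = β (MulAut.congr e γ y) := by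
      show β (MulAut.congr e γ (β⁻¹ (β y))) = _
      have : β⁻¹ (β y) = y := by
        show β.symm (β y) = y
        simp
      rw [this]
    rw [h3, ← hβi]
    show βh.symm (βh _) = _
    simp
  -- Step 8 : transport back
  have hCN : centralizerIn S T ≤ normalizerIn S P := by
    intro c hc
    refine ⟨hc.1, ?_⟩
    have hcomm : ∀ x ∈ P, c * x * c⁻¹ = x := fun x hx => by
      have := Subgroup.mem_centralizer_iff.mp hc.2 x (hPT hx)
      rw [← this]
      group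
    show c ∈ Subgroup.normalizer (P : Set Ω)
    rw [Subgroup.mem_normalizer_iff]
    intro n
    constructor
    · intro hn
      rw [hcomm n hn]
      exact hn
    · intro hn
      have h2 := hcomm _ hn
      have h3 : c * n * c⁻¹ = n := by
        have h4 : c * (c * n * c⁻¹) * c⁻¹ = c * n * c⁻¹ := h2
        exact mul_left_cancel (mul_right_cancel h4)
      rw [← h3]
      exact hn
  have hQN : P ⊔ centralizerIn S T ≤ normalizerIn S P := sup_le hPN hCN
  have hρC : ∀ (c : Ω) (hc : c ∈ centralizerIn S T), ρ ⟨c, hCN hc⟩ ∈ centralizerIn S P' := by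
    intro c hc
    refine ⟨hom_mem_S F hρ _, ?_⟩
    show ρ ⟨c, hCN hc⟩ ∈ Subgroup.centralizer (P' : Set Ω)
    rw [Subgroup.mem_centralizer_iff]
    intro q hq
    obtain ⟨x, hx, rfl⟩ := hρsurj q hq
    rw [← map_mul, ← map_mul]
    congr 1
    apply Subtype.ext
    exact Subgroup.mem_centralizer_iff.mp hc.2 x (hPT hx)
  have hmaps : ∀ z : ↥(P ⊔ centralizerIn S T),
      ρ (Subgroup.inclusion hQN z) ∈ P' ⊔ centralizerIn S P' := by
    have := forall_sup_of_subgroup (P := P) (Q := centralizerIn S T)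
      ((P' ⊔ centralizerIn S P').comap (ρ.comp (Subgroup.inclusion hQN))) ?_ ?_
    · intro z
      exact this z
    · intro x hx
      rw [Subgroup.mem_comap]
      exact (le_sup_left : P' ≤ P' ⊔ centralizerIn S P') (hρP ⟨x, hPN hx⟩ hx)
    · intro c hc
      rw [Subgroup.mem_comap]
      exact (le_sup_right : centralizerIn S P' ≤ P' ⊔ centralizerIn S P') (hρC c hc)
  have hcent : centralizerIn T P' ≤ P' := NR.centralizerIn_le_of_isConj F E h.hinvar hPc hcPP'
  have hpres : ∀ z : ↥(P ⊔ centralizerIn S T), ∃ z' : ↥(P ⊔ centralizerIn S T),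
      ρ (Subgroup.inclusion hQN z') =
        (((βh⁻¹ * conjAut _ t htM * βh⁻¹⁻¹) ⟨_, hmaps z⟩ : ↥(P' ⊔ centralizerIn S P')) : Ω) := by
    have := forall_sup_of_subgroup (P := P) (Q := centralizerIn S T)
      ((ρ.comp (Subgroup.inclusion hQN)).range.comap
        (((P' ⊔ centralizerIn S P').subtype.comp
          (βh⁻¹ * conjAut _ t htM * βh⁻¹⁻¹).toMonoidHom).comp
          ((ρ.comp (Subgroup.inclusion hQN)).codRestrict _ hmaps))) ?_ ?_
    · intro z
      obtain ⟨z', hz'⟩ := this z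
      exact ⟨z', hz'⟩
    · intro x hx
      rw [Subgroup.mem_comap]
      refine ⟨⟨((γ ⟨x, hx⟩ : P) : Ω), (le_sup_left : P ≤ P ⊔ centralizerIn S T) (γ ⟨x, hx⟩).2⟩, ?_⟩
      show ρ _ = (((βh⁻¹ * conjAut _ t htM * βh⁻¹⁻¹) ⟨ρ ⟨x, _⟩, _⟩ : ↥(P' ⊔ centralizerIn S P')) : Ω)
      have e1 : (⟨ρ ⟨x, hQN ((le_sup_left : P ≤ P ⊔ centralizerIn S T) hx)⟩,
          hmaps ⟨x, (le_sup_left : P ≤ P ⊔ centralizerIn S T) hx⟩⟩ : ↥(P' ⊔ centralizerIn S P')) =
          Subgroup.inclusion le_sup_left (e ⟨x, hx⟩) := Subtype.ext rfl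
      rw [e1, hγhP]
      show _ = ((e (γ (e.symm (e ⟨x, hx⟩))) : P') : Ω)
      rw [MulEquiv.symm_apply_apply, he]
      rfl
    · intro c hc
      rw [Subgroup.mem_comap]
      -- `u = (ρ c)⁻¹ * γh (ρ c)`
      have hcM := hmaps ⟨c, (le_sup_right : centralizerIn S T ≤ P ⊔ centralizerIn S T) hc⟩
      have huT := hγh.2 ⟨_, hcM⟩
      have hρc := hρC c hc
      have hγc : (((βh⁻¹ * conjAut _ t htM * βh⁻¹⁻¹) ⟨_, hcM⟩ : ↥(P' ⊔ centralizerIn S P')) : Ω) ∈
          Subgroup.centralizer (P' : Set Ω) :=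
        Cfsg.Agent.Lib.Helper85.map_mem_centralizer
          (le_sup_left : P' ≤ P' ⊔ centralizerIn S P')
          ((P' ⊔ centralizerIn S P').subtype.comp
            (βh⁻¹ * conjAut _ t htM * βh⁻¹⁻¹).toMonoidHom) (MulAut.congr e γ)
          (fun y => by
            show (((βh⁻¹ * conjAut _ t htM * βh⁻¹⁻¹) (Subgroup.inclusion le_sup_left y) :
              ↥(P' ⊔ centralizerIn S P')) : Ω) = _
            rw [hγhP]
            rfl) (c := ⟨_, hcM⟩) hρc.2
      have hu : (ρ (Subgroup.inclusion hQN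
          ⟨c, (le_sup_right : centralizerIn S T ≤ P ⊔ centralizerIn S T) hc⟩))⁻¹ *
          (((βh⁻¹ * conjAut _ t htM * βh⁻¹⁻¹) ⟨_, hcM⟩ : ↥(P' ⊔ centralizerIn S P')) : Ω) ∈ P' := by
        apply hcent
        refine ⟨huT, ?_⟩
        exact Subgroup.mul_mem _ (Subgroup.inv_mem _ hρc.2) hγc
      obtain ⟨xu, hxu, hxue⟩ := hρsurj _ hu
      refine ⟨⟨c * (xu : Ω), Subgroup.mul_mem _
        ((le_sup_right : centralizerIn S T ≤ P ⊔ centralizerIn S T) hc)
        ((le_sup_left : P ≤ P ⊔ centralizerIn S T) hxu)⟩, ?_⟩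
      show ρ _ = (((βh⁻¹ * conjAut _ t htM * βh⁻¹⁻¹) ⟨_, hcM⟩ : ↥(P' ⊔ centralizerIn S P')) : Ω)
      have e2 : (Subgroup.inclusion hQN ⟨c * (xu : Ω), Subgroup.mul_mem _
          ((le_sup_right : centralizerIn S T ≤ P ⊔ centralizerIn S T) hc)
          ((le_sup_left : P ≤ P ⊔ centralizerIn S T) hxu)⟩ : ↥(normalizerIn S P)) =
          ⟨c, hCN hc⟩ * xu := Subtype.ext rfl
      rw [e2, map_mul, hxue]
      show ρ ⟨c, hCN hc⟩ * ((ρ ⟨c, _⟩)⁻¹ * _) = _
      rw [mul_inv_cancel_left]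
  obtain ⟨ψ, hψ, hψe, hψT⟩ := h51_transport F hT hQN hρ hMS hmaps hγh hpres
  refine ⟨ψ, hψ, fun x => ?_, hψT⟩
  obtain ⟨z', hz'1, hz'2⟩ := hψe (Subgroup.inclusion le_sup_left x)
  rw [hz'1]
  have e1 : (⟨ρ (Subgroup.inclusion hQN (Subgroup.inclusion le_sup_left x)),
      hmaps (Subgroup.inclusion le_sup_left x)⟩ : ↥(P' ⊔ centralizerIn S P')) =
      Subgroup.inclusion le_sup_left (e x) := Subtype.ext rfl
  rw [e1, hγhP] at hz'2
  have e3 : ((Subgroup.inclusion (le_sup_left : P' ≤ P' ⊔ centralizerIn S P')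
      (MulAut.congr e γ (e x)) : ↥(P' ⊔ centralizerIn S P')) : Ω) =
      ρ (Subgroup.inclusion hPN (γ x)) := by
    show ((e (γ (e.symm (e x))) : P') : Ω) = _
    rw [MulEquiv.symm_apply_apply, he]
  rw [e3] at hz'2
  have h4 := F.injective_of_mem hρ hz'2
  have h5 := congrArg (fun z : ↥(normalizerIn S P) => (z : Ω)) h4
  exact h5

end Cfsg.Agent.Lib.Helper88.Crav
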