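import Cfsg.Agent.Lib.Helper12.D3Defs
import Cfsg.Agent.Lib.Helper75.D4gMEM

/-!
# D3 hive (S2183), leaf D3-RS1: `x_a(s)` is conjugate to `x_a(1)` in `³D₄(q)`, `q` even
(torus element `h_S(z)` with `z ^ 2 * s = 1`).
-/

set_option autoImplicit false

namespace Cfsg.Agent.Lib.Helper12.D3

open Cfsg Cfsg.Lie Cfsg.Agent.Lib.Helper36 Cfsg.Agent.Lib.Helper75.D4g

variable (K : Type*) [Field K] (φ : K →+* K)

theorem d3rs1_sqrt [Fintype K] [CharP K 2] (s : K) (hs : s ≠ 0) :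
    ∃ z : K, z ≠ 0 ∧ z ^ 2 * s = 1 := by
  have hinj : Function.Injective (frobenius K 2) := (frobenius K 2).injective
  have hsurj : Function.Surjective (frobenius K 2) := Finite.surjective_of_injective hinj
  obtain ⟨z, hz⟩ := hsurj s⁻¹
  rw [frobenius_def] at hz
  refine ⟨z, ?_, ?_⟩
  · rintro rfl
    rw [zero_pow (by norm_num)] at hz
    exact hs (inv_eq_zero.1 hz.symm)
  · rw [hz, inv_mul_cancel₀ hs]

theorem d3rs1_conj3 {M : Type*} [Group M] (A B C X : M) :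
    (A * B * C) * X * (A * B * C)⁻¹ = A * (B * (C * X * C⁻¹) * B⁻¹) * A⁻¹ := by
  group

theorem d3rs1_split {M : Type*} [Group M] (h x y w : M) :
    h * (x * y * w) * h⁻¹ = (h * x * h⁻¹) * (h * y * h⁻¹) * (h * w * h⁻¹) := by
  group

theorem d3rs1_key (a b c : K) (ha : a ≠ 0) (hb : b ≠ 0) (hc : c ≠ 0) (r : ℕ)
    (hr : r < chevD4.nroots) (t : K) :
    (hg K 18 a * hg K 13 b * hg K 12 c) * xg K r t * (hg K 18 a * hg K 13 b * hg K 12 c)⁻¹ =
      xg K r (a ^ gc chevD4 18 r * (b ^ gc chevD4 13 r * (c ^ gc chevD4 12 r * t))) := by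
  rw [d3rs1_conj3, hGL_conj_xGL chevD4 hD4 K 12 r (by decide) hr c hc,
    hGL_conj_xGL chevD4 hD4 K 13 r (by decide) hr b hb,
    hGL_conj_xGL chevD4 hD4 K 18 r (by decide) hr a ha]

/-- D3-RS1 -/
theorem rs1 [Fintype K] [CharP K 2] {q : ℕ} (hK : Fintype.card K = q ^ 3) (hφ : ∀ t : K, φ t = t ^ q)
    (s : K) (hs : s ≠ 0) : Cj K q (xa K φ s) (xa K φ 1) := by
  obtain ⟨z, hz0, hz⟩ := d3rs1_sqrt K s hs
  have hφz : φ z ≠ 0 := (map_ne_zero φ).2 hz0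
  have hφφz : φ (φ z) ≠ 0 := (map_ne_zero φ).2 hφz
  refine ⟨tA K φ z, tA_mem hK φ hφ z hz0, ?_⟩
  unfold tA xa
  rw [d3rs1_split, d3rs1_key K z (φ z) (φ (φ z)) hz0 hφz hφφz 18 (by decide),
    d3rs1_key K z (φ z) (φ (φ z)) hz0 hφz hφφz 13 (by decide),
    d3rs1_key K z (φ z) (φ (φ z)) hz0 hφz hφφz 12 (by decide)]
  have g1 : gc chevD4 18 18 = 2 := by decide
  have g2 : gc chevD4 13 18 = 0 := by decide
  have g3 : gc chevD4 12 18 = 0 := by decide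
  have g4 : gc chevD4 18 13 = 0 := by decide
  have g5 : gc chevD4 13 13 = 2 := by decide
  have g6 : gc chevD4 12 13 = 0 := by decide
  have g7 : gc chevD4 18 12 = 0 := by decide
  have g8 : gc chevD4 13 12 = 0 := by decide
  have g9 : gc chevD4 12 12 = 2 := by decide
  rw [g1, g2, g3, g4, g5, g6, g7, g8, g9]
  simp only [zpow_zero, one_mul]
  have e1 : z ^ (2 : ℤ) * s = 1 := by
    rw [zpow_ofNat]; exact hz
  have e2 : (φ z) ^ (2 : ℤ) * φ s = φ 1 := by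
    rw [zpow_ofNat, ← map_pow, ← map_mul, hz]
  have e3 : (φ (φ z)) ^ (2 : ℤ) * φ (φ s) = φ (φ 1) := by
    rw [zpow_ofNat, ← map_pow, ← map_pow, ← map_mul, ← map_mul, hz]
  rw [e1, e2, e3]

end Cfsg.Agent.Lib.Helper12.D3
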