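import Mathlib
import Cfsg.Agent.Lib.Helper6.FH.ADefs

/-!
# Leaf FH-C1 of S1142 (owner helper6): `arith_odd`
-/

set_option autoImplicit false

namespace Cfsg.Agent.Lib.Helper6.FH

/-- strict bounds on the cosine of an angle strictly between `0` and `π` -/
theorem c1_cos_bounds {θ : ℝ} (h0 : 0 < θ) (hπ : θ < Real.pi) :
    -1 < Real.cos θ ∧ Real.cos θ < 1 := by
  constructor
  · have := Real.cos_lt_cos_of_nonneg_of_le_pi h0.le le_rfl hπ
    simpa using this
  · have := Real.cos_lt_cos_of_nonneg_of_le_pi le_rfl hπ.le h0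
    simpa using this

/-- `2 π j / n` lies strictly between `0` and `π` when `0 < 2 j < n` -/
theorem c1_angle_bounds {n j : ℕ} (hj : 0 < j) (hjn : 2 * j < n) :
    0 < 2 * Real.pi * (j : ℝ) / (n : ℝ) ∧ 2 * Real.pi * (j : ℝ) / (n : ℝ) < Real.pi := by
  have hn : (0 : ℝ) < n := by
    have : 0 < n := by omega
    exact_mod_cast this
  have hjR : (0 : ℝ) < j := by exact_mod_cast hj
  have hjnR : (2 : ℝ) * j < n := by exact_mod_cast hjn
  constructor
  · positivity
  · rw [div_lt_iff₀ hn]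
    nlinarith [Real.pi_pos]

/-! ### FH-C1 (n odd) -/
theorem arith_odd {n u N : ℕ} (hn : 3 ≤ n) (hodd : Odd n) (hu : 2 ≤ u) (hN : 0 < N)
    (h : ∃ d : ℕ, (d : ℝ) * Dfun n u u 1 = 2 * N) : n = 3 := by
  obtain ⟨d, hd⟩ := h
  have hnR : (0 : ℝ) < n := by
    have : 0 < n := by omega
    exact_mod_cast this
  have huR : (2 : ℝ) ≤ u := by exact_mod_cast hu
  have hu0 : (0 : ℝ) < u := by linarith
  have hNR : (0 : ℝ) < N := by exact_mod_cast hN
  obtain ⟨hθ0, hθπ⟩ := c1_angle_bounds (n := n) (j := 1) one_pos (by omega)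
  obtain ⟨c, hc⟩ : ∃ c : ℝ, c = Real.cos (2 * Real.pi * ((1 : ℕ) : ℝ) / (n : ℝ)) := ⟨_, rfl⟩
  obtain ⟨hcm1, hc1⟩ := c1_cos_bounds hθ0 hθπ
  rw [← hc] at hcm1 hc1
  obtain ⟨α, hα⟩ : ∃ α : ℝ, α = ((u : ℝ) - 1) ^ 2 / u := ⟨_, rfl⟩
  have hαpos : 0 < α := by
    rw [hα]
    have : (0 : ℝ) < (u : ℝ) - 1 := by linarith
    positivity
  have hs : 0 < 1 - c ^ 2 := by nlinarith
  unfold Dfun at hd
  rw [← hc, Real.sqrt_mul_self hu0.le] at hd
  have e1 : ((u : ℝ) - 1) * ((u : ℝ) - 1) / u = α := by rw [hα]; ring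
  rw [e1, ← hα] at hd
  rw [← mul_div_assoc, div_eq_iff (by positivity)] at hd
  -- hd : d * (n * (α + α + 2 * α * c + 4 * (1 - c ^ 2))) = 2 * N * (2 * (1 - c ^ 2))
  have key0 : (1 + c) * ((1 - c) * (4 * (N : ℝ) - 4 * d * n) - 2 * d * n * α) = 0 := by
    linear_combination (-1 : ℝ) * hd
  have key : (1 - c) * (4 * (N : ℝ) - 4 * d * n) = 2 * d * n * α := by
    rcases mul_eq_zero.mp key0 with h1 | h1
    · linarith
    · linarith
  have hd0 : (0 : ℝ) < d := by
    rcases Nat.eq_zero_or_pos d with h0 | h0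
    · subst h0
      simp at hd
      rcases hd with h1 | h1
      · omega
      · linarith
    · exact_mod_cast h0
  have hne : 4 * (N : ℝ) - 4 * d * n ≠ 0 := by
    intro h0
    rw [h0, mul_zero] at key
    have : 0 < 2 * (d : ℝ) * n * α := by positivity
    linarith
  have hceq : c = 1 - 2 * d * n * α / (4 * (N : ℝ) - 4 * d * n) := by
    have h1 : 1 - c = 2 * d * n * α / (4 * (N : ℝ) - 4 * d * n) := by
      rw [eq_div_iff hne]
      exact key
    linarith
  have hq : ∃ q : ℚ, Real.cos (((2 / n : ℚ) : ℝ) * Real.pi) = q := by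
    refine ⟨1 - 2 * d * n * (((u : ℚ) - 1) ^ 2 / u) / (4 * (N : ℚ) - 4 * d * n), ?_⟩
    have e2 : (((2 / n : ℚ) : ℝ)) * Real.pi = 2 * Real.pi * ((1 : ℕ) : ℝ) / (n : ℝ) := by
      push_cast
      ring
    rw [e2, ← hc, hceq, hα]
    push_cast
    ring
  have hbnd : (2 / n : ℚ) ∈ Set.Icc (0 : ℚ) 1 := by
    have hnQ : (3 : ℚ) ≤ n := by exact_mod_cast hn
    constructor
    · positivity
    · rw [div_le_one (by linarith)]
      linarith
  have hnQ0 : (n : ℚ) ≠ 0 := by
    have : (3 : ℚ) ≤ n := by exact_mod_cast hn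
    linarith
  have hres := niven_angle_div_pi_eq hq hbnd
  simp only [Set.mem_insert_iff, Set.mem_singleton_iff] at hres
  rcases hres with h0 | h0 | h0 | h0 | h0
  · exfalso
    rw [div_eq_zero_iff] at h0
    rcases h0 with h0 | h0
    · norm_num at h0
    · exact hnQ0 h0
  · exfalso
    have : (n : ℚ) = 6 := by
      field_simp at h0
      linarith
    have h6 : n = 6 := by exact_mod_cast this
    subst h6
    exact absurd hodd (by decide)
  · exfalso
    have : (n : ℚ) = 4 := by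
      field_simp at h0
      linarith
    have h4 : n = 4 := by exact_mod_cast this
    subst h4
    exact absurd hodd (by decide)
  · have : (n : ℚ) = 3 := by
      field_simp at h0
      linarith
    exact_mod_cast this
  · exfalso
    have : (n : ℚ) = 2 := by
      field_simp at h0
      linarith
    have h2 : n = 2 := by exact_mod_cast this
    omega

end Cfsg.Agent.Lib.Helper6.FH
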