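import Mathlib
import Cfsg.Agent.Lib.Helper6.FH.ADefs
import Cfsg.Agent.Lib.Helper51.FH_C1

/-!
# Leaf FH-C2 of S1142 (owner helper6): `arith_even`
-/

set_option autoImplicit false

namespace Cfsg.Agent.Lib.Helper6.FH

/-! ### FH-C2 (n even) -/
theorem arith_even {n u v N : ℕ} (hn : 4 ≤ n) (heven : Even n) (hu : 2 ≤ u) (hv : 2 ≤ v) (hN : 0 < N)
    (h : ∀ j : ℕ, 0 < j → 2 * j < n → ∃ d : ℕ, (d : ℝ) * Dfun n u v j = 2 * N) :
    n = 4 ∨ n = 6 ∨ n = 8 ∨ n = 12 := by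
  obtain ⟨m, hm⟩ := heven
  have hm2 : 2 ≤ m := by omega
  obtain ⟨d₁, hd₁⟩ := h 1 one_pos (by omega)
  obtain ⟨d₂, hd₂⟩ := h (m - 1) (by omega) (by omega)
  have hnR : (0 : ℝ) < n := by
    have : 0 < n := by omega
    exact_mod_cast this
  have hnm : (n : ℝ) = (m : ℝ) + m := by exact_mod_cast hm
  have hmR : (0 : ℝ) < m := by
    have : 0 < m := by omega
    exact_mod_cast this
  have huR : (2 : ℝ) ≤ u := by exact_mod_cast hu
  have hvR : (2 : ℝ) ≤ v := by exact_mod_cast hv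
  have hu0 : (0 : ℝ) < u := by linarith
  have hv0 : (0 : ℝ) < v := by linarith
  have hNR : (0 : ℝ) < N := by exact_mod_cast hN
  obtain ⟨hθ0, hθπ⟩ := c1_angle_bounds (n := n) (j := 1) one_pos (by omega)
  obtain ⟨c, hc⟩ : ∃ c : ℝ, c = Real.cos (2 * Real.pi * ((1 : ℕ) : ℝ) / (n : ℝ)) := ⟨_, rfl⟩
  obtain ⟨hcm1, hc1⟩ := c1_cos_bounds hθ0 hθπ
  rw [← hc] at hcm1 hc1
  have hc' : Real.cos (2 * Real.pi * ((m - 1 : ℕ) : ℝ) / (n : ℝ)) = -c := by
    have e : 2 * Real.pi * ((m - 1 : ℕ) : ℝ) / (n : ℝ) =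
        Real.pi - 2 * Real.pi * ((1 : ℕ) : ℝ) / (n : ℝ) := by
      rw [Nat.cast_sub (by omega : 1 ≤ m), hnm]
      push_cast
      field_simp
      ring
    rw [e, Real.cos_pi_sub, hc]
  obtain ⟨a, ha⟩ : ∃ a : ℝ, a = ((u : ℝ) - 1) ^ 2 / u + ((v : ℝ) - 1) ^ 2 / v := ⟨_, rfl⟩
  have hapos : 0 < a := by
    rw [ha]
    have h1 : (0 : ℝ) < (u : ℝ) - 1 := by linarith
    have h2 : (0 : ℝ) < (v : ℝ) - 1 := by linarith
    positivity
  obtain ⟨γ, hγ⟩ : ∃ γ : ℝ, γ = ((u : ℝ) - 1) * ((v : ℝ) - 1) / Real.sqrt (u * v) := ⟨_, rfl⟩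
  have hs : 0 < 1 - c ^ 2 := by nlinarith
  unfold Dfun at hd₁ hd₂
  rw [hc'] at hd₂
  rw [← hc] at hd₁
  rw [← hγ, ← ha] at hd₁ hd₂
  rw [show (-c) ^ 2 = c ^ 2 by ring] at hd₂
  rw [← mul_div_assoc, div_eq_iff (by positivity)] at hd₁ hd₂
  have key : (1 - c ^ 2) * (4 * (N : ℝ) * (d₁ + d₂) - 8 * d₁ * d₂ * n) = 2 * d₁ * d₂ * n * a := by
    linear_combination (-(d₂ : ℝ)) * hd₁ + (-(d₁ : ℝ)) * hd₂
  have hdpos : ∀ d : ℕ, (d : ℝ) * ((n : ℝ) * (a + 2 * γ * c + 4 * (1 - c ^ 2))) =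
      2 * (N : ℝ) * (2 * (1 - c ^ 2)) ∨ (d : ℝ) * ((n : ℝ) * (a + 2 * γ * -c + 4 * (1 - c ^ 2))) =
      2 * (N : ℝ) * (2 * (1 - c ^ 2)) → (0 : ℝ) < d := by
    intro d hd
    rcases Nat.eq_zero_or_pos d with h0 | h0
    · subst h0
      exfalso
      rcases hd with hd | hd
      · simp at hd
        rcases hd with h1 | h1
        · omega
        · linarith
      · simp at hd
        rcases hd with h1 | h1
        · omega
        · linarith
    · exact_mod_cast h0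
  have hd₁0 : (0 : ℝ) < d₁ := hdpos d₁ (Or.inl hd₁)
  have hd₂0 : (0 : ℝ) < d₂ := hdpos d₂ (Or.inr hd₂)
  have hne : 4 * (N : ℝ) * (d₁ + d₂) - 8 * d₁ * d₂ * n ≠ 0 := by
    intro h0
    rw [h0, mul_zero] at key
    have : 0 < 2 * (d₁ : ℝ) * d₂ * n * a := by positivity
    linarith
  have hseq : 1 - c ^ 2 = 2 * d₁ * d₂ * n * a / (4 * (N : ℝ) * (d₁ + d₂) - 8 * d₁ * d₂ * n) := by
    rw [eq_div_iff hne]
    exact key
  have hq : ∃ q : ℚ, Real.cos (((4 / n : ℚ) : ℝ) * Real.pi) = q := by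
    refine ⟨1 - 2 * (2 * d₁ * d₂ * n * (((u : ℚ) - 1) ^ 2 / u + ((v : ℚ) - 1) ^ 2 / v) /
      (4 * (N : ℚ) * (d₁ + d₂) - 8 * d₁ * d₂ * n)), ?_⟩
    have e2 : (((4 / n : ℚ) : ℝ)) * Real.pi = 2 * (2 * Real.pi * ((1 : ℕ) : ℝ) / (n : ℝ)) := by
      push_cast
      ring
    rw [e2, Real.cos_two_mul, ← hc]
    have e3 : 2 * c ^ 2 - 1 = 1 - 2 * (1 - c ^ 2) := by ring
    rw [e3, hseq, ha]
    push_cast
    ring
  have hnQ : (4 : ℚ) ≤ n := by exact_mod_cast hn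
  have hbnd : (4 / n : ℚ) ∈ Set.Icc (0 : ℚ) 1 := by
    constructor
    · positivity
    · rw [div_le_one (by linarith)]
      exact hnQ
  have hnQ0 : (n : ℚ) ≠ 0 := by linarith
  have hres := niven_angle_div_pi_eq hq hbnd
  simp only [Set.mem_insert_iff, Set.mem_singleton_iff] at hres
  rcases hres with h0 | h0 | h0 | h0 | h0
  · exfalso
    rw [div_eq_zero_iff] at h0
    rcases h0 with h0 | h0
    · norm_num at h0
    · exact hnQ0 h0
  · right; right; right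
    have : (n : ℚ) = 12 := by
      field_simp at h0
      linarith
    exact_mod_cast this
  · right; right; left
    have : (n : ℚ) = 8 := by
      field_simp at h0
      linarith
    exact_mod_cast this
  · right; left
    have : (n : ℚ) = 6 := by
      field_simp at h0
      linarith
    exact_mod_cast this
  · left
    have : (n : ℚ) = 4 := by
      field_simp at h0
      linarith
    exact_mod_cast this

end Cfsg.Agent.Lib.Helper6.FH
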