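import Mathlib
import Cfsg.Agent.Lib.Helper6.FH.ADefs

/-!
# Leaf FH-C3 of S1142 (owner helper6): `arith_twelve`
-/

set_option autoImplicit false

namespace Cfsg.Agent.Lib.Helper6.FH

/-! ### FH-C3 (n = 12 is impossible) -/
theorem arith_twelve {u v N : ℕ} (hu : 2 ≤ u) (hv : 2 ≤ v) (hN : 0 < N)
    (h : ∀ j : ℕ, 0 < j → 2 * j < 12 → ∃ d : ℕ, (d : ℝ) * Dfun 12 u v j = 2 * N) : False := by
  obtain ⟨d₁, hd₁⟩ := h 1 (by norm_num) (by norm_num)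
  obtain ⟨d₂, hd₂⟩ := h 2 (by norm_num) (by norm_num)
  obtain ⟨d₄, hd₄⟩ := h 4 (by norm_num) (by norm_num)
  obtain ⟨d₅, hd₅⟩ := h 5 (by norm_num) (by norm_num)
  have c1 : Real.cos (2 * Real.pi * ((1 : ℕ) : ℝ) / ((12 : ℕ) : ℝ)) = Real.sqrt 3 / 2 := by
    rw [show 2 * Real.pi * ((1 : ℕ) : ℝ) / ((12 : ℕ) : ℝ) = Real.pi / 6 by push_cast; ring]
    exact Real.cos_pi_div_six
  have c2 : Real.cos (2 * Real.pi * ((2 : ℕ) : ℝ) / ((12 : ℕ) : ℝ)) = 1 / 2 := by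
    rw [show 2 * Real.pi * ((2 : ℕ) : ℝ) / ((12 : ℕ) : ℝ) = Real.pi / 3 by push_cast; ring]
    exact Real.cos_pi_div_three
  have c4 : Real.cos (2 * Real.pi * ((4 : ℕ) : ℝ) / ((12 : ℕ) : ℝ)) = -(1 / 2) := by
    rw [show 2 * Real.pi * ((4 : ℕ) : ℝ) / ((12 : ℕ) : ℝ) = Real.pi - Real.pi / 3 by
      push_cast; ring]
    rw [Real.cos_pi_sub, Real.cos_pi_div_three]
  have c5 : Real.cos (2 * Real.pi * ((5 : ℕ) : ℝ) / ((12 : ℕ) : ℝ)) = -(Real.sqrt 3 / 2) := by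
    rw [show 2 * Real.pi * ((5 : ℕ) : ℝ) / ((12 : ℕ) : ℝ) = Real.pi - Real.pi / 6 by
      push_cast; ring]
    rw [Real.cos_pi_sub, Real.cos_pi_div_six]
  have huR : (2 : ℝ) ≤ u := by exact_mod_cast hu
  have hvR : (2 : ℝ) ≤ v := by exact_mod_cast hv
  have hu0 : (0 : ℝ) < u := by linarith
  have hv0 : (0 : ℝ) < v := by linarith
  have hNR : (0 : ℝ) < N := by exact_mod_cast hN
  obtain ⟨a, ha⟩ : ∃ a : ℝ, a = ((u : ℝ) - 1) ^ 2 / u + ((v : ℝ) - 1) ^ 2 / v := ⟨_, rfl⟩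
  obtain ⟨γ, hγ⟩ : ∃ γ : ℝ, γ = ((u : ℝ) - 1) * ((v : ℝ) - 1) / Real.sqrt (u * v) := ⟨_, rfl⟩
  have hγpos : 0 < γ := by
    rw [hγ]
    have h1 : (0 : ℝ) < (u : ℝ) - 1 := by linarith
    have h2 : (0 : ℝ) < (v : ℝ) - 1 := by linarith
    have h3 : (0 : ℝ) < Real.sqrt (u * v) := Real.sqrt_pos.mpr (by positivity)
    positivity
  obtain ⟨t, ht⟩ : ∃ t : ℝ, t = Real.sqrt 3 := ⟨_, rfl⟩
  have ht2 : t ^ 2 = 3 := by
    rw [ht]
    exact Real.sq_sqrt (by norm_num)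
  unfold Dfun at hd₁ hd₂ hd₄ hd₅
  rw [c1, ← hγ, ← ha, ← ht] at hd₁
  rw [c2, ← hγ, ← ha] at hd₂
  rw [c4, ← hγ, ← ha] at hd₄
  rw [c5, ← hγ, ← ha, ← ht] at hd₅
  have e1 : (d₁ : ℝ) * (24 * (a + γ * t + 1)) = 2 * N := by
    rw [← hd₁]
    have : (1 : ℝ) - (t / 2) ^ 2 = 1 / 4 := by
      rw [div_pow, ht2]; norm_num
    rw [this]
    push_cast
    ring
  have e5 : (d₅ : ℝ) * (24 * (a - γ * t + 1)) = 2 * N := by
    rw [← hd₅]
    have : (1 : ℝ) - (-(t / 2)) ^ 2 = 1 / 4 := by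
      rw [neg_sq, div_pow, ht2]; norm_num
    rw [this]
    push_cast
    ring
  have e2 : (d₂ : ℝ) * (8 * (a + γ + 3)) = 2 * N := by
    rw [← hd₂]
    push_cast
    ring
  have e4 : (d₄ : ℝ) * (8 * (a - γ + 3)) = 2 * N := by
    rw [← hd₄]
    push_cast
    ring
  have hdne : ∀ (d : ℕ) (x : ℝ), (d : ℝ) * x = 2 * N → (d : ℝ) ≠ 0 := by
    intro d x hx h0
    rw [h0, zero_mul] at hx
    linarith
  have n1 := hdne _ _ e1
  have n2 := hdne _ _ e2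
  have n4 := hdne _ _ e4
  have n5 := hdne _ _ e5
  -- γ rational
  have hγq : γ = ((2 * (N : ℚ) / d₂ - 2 * N / d₄) / 16 : ℚ) := by
    push_cast
    have h2 : 8 * (a + γ + 3) = 2 * N / d₂ := by
      rw [eq_div_iff n2]; linarith
    have h4 : 8 * (a - γ + 3) = 2 * N / d₄ := by
      rw [eq_div_iff n4]; linarith
    linarith
  have hγtq : γ * t = ((2 * (N : ℚ) / d₁ - 2 * N / d₅) / 48 : ℚ) := by
    push_cast
    have h1 : 24 * (a + γ * t + 1) = 2 * N / d₁ := by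
      rw [eq_div_iff n1]; linarith
    have h5 : 24 * (a - γ * t + 1) = 2 * N / d₅ := by
      rw [eq_div_iff n5]; linarith
    linarith
  have hirr : Irrational (Real.sqrt 3) := by
    have := Nat.prime_three.irrational_sqrt
    simpa using this
  apply hirr
  refine ⟨((2 * (N : ℚ) / d₁ - 2 * N / d₅) / 48) / ((2 * (N : ℚ) / d₂ - 2 * N / d₄) / 16), ?_⟩
  rw [Rat.cast_div, ← hγtq, ← hγq, ← ht]
  field_simp

end Cfsg.Agent.Lib.Helper6.FH
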