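import Mathlib
import Cfsg.Agent.S3062

set_option autoImplicit false

/-!
# An abelian `2`-group of offenders acting on an abelian group of odd order
-/

namespace Cfsg.Agent.Lib.Helper51

section lin2
variable {V : Type*} [CommGroup V]

/-- common fixed points of a group of automorphisms -/
def fixedSub (B : Subgroup (MulAut V)) : Subgroup V where
  carrier := {v | ∀ β ∈ B, β v = v}
  mul_mem' := by
    intro a b ha hb β hβ
    rw [map_mul, ha β hβ, hb β hβ]
  one_mem' := by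
    intro β _
    exact map_one β
  inv_mem' := by
    intro a ha β hβ
    rw [map_inv, ha β hβ]

theorem mem_fixedSub {B : Subgroup (MulAut V)} {v : V} :
    v ∈ fixedSub B ↔ ∀ β ∈ B, β v = v := Iff.rfl

/-- the homomorphism `v ↦ y v * v⁻¹` -/
def deltaHom (y : MulAut V) : V →* V where
  toFun v := y v * v⁻¹
  map_one' := by simp
  map_mul' := by
    intro a b
    rw [map_mul, mul_inv]
    exact mul_mul_mul_comm _ _ _ _

theorem deltaHom_apply (y : MulAut V) (v : V) : deltaHom y v = y v * v⁻¹ := rfl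

/-- iterating an automorphism on `v` when `y v = v * x` with `x` fixed -/
theorem iter_of_fixed (y : MulAut V) (v x : V) (hv : y v = v * x) (hx : y x = x) (i : ℕ) :
    (y ^ i) v = v * x ^ i := by
  induction i with
  | zero => simp
  | succ i ih =>
    rw [pow_succ', MulAut.mul_apply, ih, map_mul, map_pow, hx, hv, pow_succ', mul_assoc]

/-- A commutator `y v * v⁻¹` fixed by `y` is trivial, when orders are coprime. -/
theorem delta_fixed_eq_one (y : MulAut V) (v : V) (m : ℕ) (hm : (orderOf y).Coprime m)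
    (hxm : (y v * v⁻¹) ^ m = 1) (hfix : y (y v * v⁻¹) = y v * v⁻¹) : y v * v⁻¹ = 1 := by
  set x := y v * v⁻¹ with hx
  have hv : y v = v * x := by rw [hx, mul_comm (y v), mul_inv_cancel_left]
  have h2 := iter_of_fixed y v x hv hfix (orderOf y)
  rw [pow_orderOf_eq_one, MulAut.one_apply] at h2
  have hwm : x ^ orderOf y = 1 := by
    have h3 : v * x ^ orderOf y = v * 1 := by rw [← h2, mul_one]
    exact mul_left_cancel h3
  have ho1 : orderOf x ∣ orderOf y := orderOf_dvd_of_pow_eq_one hwm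
  have ho2 : orderOf x ∣ m := orderOf_dvd_of_pow_eq_one hxm
  have ho3 : orderOf x = 1 := Nat.eq_one_of_dvd_coprimes hm ho1 ho2
  exact orderOf_eq_one_iff.1 ho3

/-- an automorphism of odd order fixes what its square fixes -/
theorem fix_of_sq_fix (y : MulAut V) (hy : Odd (orderOf y)) (x : V) (h : y (y x) = x) :
    y x = x := by
  obtain ⟨k, hk⟩ := hy
  have h1 : ∀ j : ℕ, ((y * y) ^ j) x = x := by
    intro j
    induction j with
    | zero => simp
    | succ j ih => rw [pow_succ, MulAut.mul_apply, MulAut.mul_apply, h, ih]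
  have h2 : (y * y) ^ (k + 1) = y := by
    rw [← pow_two, ← pow_mul]
    have : 2 * (k + 1) = orderOf y + 1 := by omega
    rw [this, pow_succ, pow_orderOf_eq_one, one_mul]
  have := h1 (k + 1)
  rwa [h2] at this

end lin2

section fixedpoint
variable {V : Type*} [CommGroup V] [Finite V]

/-- a `p`-group of automorphisms of a `p`-group fixes a nontrivial element of every nontrivial
invariant subgroup -/
theorem exists_fixed_ne_one {p : ℕ} [hp : Fact p.Prime] (hV : IsPGroup p V)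
    (B : Subgroup (MulAut V)) (hB : IsPGroup p B) (E : Subgroup V) (hE1 : E ≠ ⊥)
    (hBE : ∀ β ∈ B, ∀ e ∈ E, β e ∈ E) : ∃ e ∈ E, e ≠ 1 ∧ ∀ β ∈ B, β e = e := by
  letI : MulAction B E :=
    { smul := fun β e => ⟨(β : MulAut V) e, hBE β β.2 e e.2⟩
      one_smul := fun e => Subtype.ext rfl
      mul_smul := fun a b e => Subtype.ext rfl }
  have hEp : IsPGroup p E := hV.to_subgroup E
  obtain ⟨k, hk⟩ := IsPGroup.iff_card.mp hEp
  have hk1 : k ≠ 0 := by
    intro h0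
    rw [h0, pow_zero] at hk
    exact hE1 (Subgroup.card_eq_one.1 hk)
  have hdvd : p ∣ Nat.card E := by
    rw [hk]; exact dvd_pow_self p hk1
  have h1 : (1 : E) ∈ MulAction.fixedPoints B E := by
    intro β
    exact Subtype.ext (map_one (β : MulAut V))
  obtain ⟨b, hb, hne⟩ := hB.exists_fixed_point_of_prime_dvd_card_of_fixed_point E hdvd h1
  refine ⟨b, b.2, ?_, ?_⟩
  · intro h
    apply hne
    exact Subtype.ext h.symm
  · intro β hβ
    have := hb ⟨β, hβ⟩
    exact congrArg Subtype.val this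

end fixedpoint


section main
variable {V : Type*} [CommGroup V] [Finite V]

theorem lin2 (h2 : ∀ v : V, v * v = 1)
    (Y A : Subgroup (MulAut V))
    (hYc : ∀ a ∈ Y, ∀ b ∈ Y, a * b = b * a) (hYodd : Odd (Nat.card Y))
    (hAc : ∀ a ∈ A, ∀ b ∈ A, a * b = b * a) (hA2 : ∀ a ∈ A, a * a = 1)
    (hAY : ∀ a ∈ A, ∀ y ∈ Y, a * y * a⁻¹ ∈ Y)
    (hfaith : ∀ a ∈ A, (∀ y ∈ Y, a * y = y * a) → a = 1)
    (hA1 : A ≠ ⊥)
    (hoff : ∀ B : Subgroup (MulAut V), B ≤ A →
      Nat.card B * Nat.card (fixedSub B) ≤ Nat.card A * Nat.card (fixedSub A)) :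
    ∃ (X : Subgroup V) (y : MulAut V) (a : MulAut V), y ∈ Y ∧ a ∈ A ∧ Nat.card X = 4 ∧
      (∀ x ∈ X, y x ∈ X) ∧ (∀ x ∈ X, a x ∈ X) ∧ (∃ x ∈ X, y x ≠ x) ∧ (∃ x ∈ X, a x ≠ x) := by
  classical
  have hV2 : IsPGroup 2 V := by
    intro v
    exact ⟨1, by rw [pow_one, pow_two, h2]⟩
  have hAinv : ∀ a ∈ A, a⁻¹ = a := fun a ha => inv_eq_of_mul_eq_one_left (hA2 a ha)
  have hYoddel : ∀ y ∈ Y, Odd (orderOf y) := by
    intro y hy
    have h1 : orderOf (⟨y, hy⟩ : Y) ∣ Nat.card Y := orderOf_dvd_natCard _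
    rw [Subgroup.orderOf_mk] at h1
    exact hYodd.of_dvd_nat h1
  -- step 1: an element of A and an element of Y inverted by it
  obtain ⟨⟨α₁, hα₁A⟩, hα₁ne⟩ := (Subgroup.ne_bot_iff_exists_ne_one).1 hA1
  have hα₁1 : α₁ ≠ 1 := fun h => hα₁ne (Subtype.ext h)
  have hα₁inv : α₁⁻¹ = α₁ := hAinv α₁ hα₁A
  -- the subgroup of Y inverted by α₁
  let Y₁ : Subgroup (MulAut V) :=
    { carrier := {y | y ∈ Y ∧ α₁ * y * α₁⁻¹ = y⁻¹}
      mul_mem' := by
        rintro a b ⟨ha, ha'⟩ ⟨hb, hb'⟩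
        refine ⟨Y.mul_mem ha hb, ?_⟩
        have : α₁ * (a * b) * α₁⁻¹ = (α₁ * a * α₁⁻¹) * (α₁ * b * α₁⁻¹) := by group
        rw [this, ha', hb', mul_inv_rev, hYc _ (Y.inv_mem ha) _ (Y.inv_mem hb)]
      one_mem' := ⟨Y.one_mem, by simp⟩
      inv_mem' := by
        rintro a ⟨ha, ha'⟩
        refine ⟨Y.inv_mem ha, ?_⟩
        have : α₁ * a⁻¹ * α₁⁻¹ = (α₁ * a * α₁⁻¹)⁻¹ := by group
        rw [this, ha'] }
  have hY₁mem : ∀ y, y ∈ Y₁ ↔ y ∈ Y ∧ α₁ * y * α₁⁻¹ = y⁻¹ := fun y => Iff.rfl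
  have hY₁Y : Y₁ ≤ Y := fun y hy => hy.1
  have hY₁ne : Y₁ ≠ ⊥ := by
    have hex : ∃ y' ∈ Y, α₁ * y' ≠ y' * α₁ := by
      by_contra hcon
      apply hα₁1
      apply hfaith α₁ hα₁A
      intro y hy
      by_contra h
      exact hcon ⟨y, hy, h⟩
    obtain ⟨y', hy'Y, hy'⟩ := hex
    have hcY : α₁ * y' * α₁⁻¹ ∈ Y := hAY α₁ hα₁A y' hy'Y
    intro hbot
    have hz : y' * (α₁ * y' * α₁⁻¹)⁻¹ ∈ Y₁ := by
      refine ⟨Y.mul_mem hy'Y (Y.inv_mem hcY), ?_⟩
      have h3 : α₁ * (y' * (α₁ * y' * α₁⁻¹)⁻¹) * α₁⁻¹ =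
          (α₁ * y' * α₁⁻¹) * ((α₁ * α₁) * y' * (α₁ * α₁)⁻¹)⁻¹ := by group
      rw [h3, hA2 α₁ hα₁A]
      simp only [one_mul, inv_one, mul_one, mul_inv_rev, inv_inv]
    rw [hbot, Subgroup.mem_bot] at hz
    apply hy'
    have h4 : y' = α₁ * y' * α₁⁻¹ := by
      have := mul_inv_eq_one.1 hz
      exact this
    calc α₁ * y' = (α₁ * y' * α₁⁻¹) * α₁ := by group
      _ = y' * α₁ := by rw [← h4]
  have hY₁inv : ∀ β ∈ A, ∀ y ∈ Y₁, β * y * β⁻¹ ∈ Y₁ := by
    rintro β hβ y ⟨hy, hy'⟩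
    refine ⟨hAY β hβ y hy, ?_⟩
    have h3 : α₁ * (β * y * β⁻¹) * α₁⁻¹ = (α₁ * β) * y * (α₁ * β)⁻¹ := by group
    rw [h3, hAc α₁ hα₁A β hβ]
    have h4 : (β * α₁) * y * (β * α₁)⁻¹ = β * (α₁ * y * α₁⁻¹) * β⁻¹ := by group
    rw [h4, hy']
    group
  -- step 3: a minimal invariant subgroup
  haveI : Nonempty {Z : Subgroup (MulAut V) // Z ≤ Y₁ ∧ Z ≠ ⊥ ∧
      ∀ β ∈ A, ∀ z ∈ Z, β * z * β⁻¹ ∈ Z} := ⟨⟨Y₁, le_refl _, hY₁ne, hY₁inv⟩⟩
  obtain ⟨⟨Y₂, hY₂le, hY₂ne, hY₂inv⟩, hmin⟩ := Finite.exists_min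
    (fun Z : {Z : Subgroup (MulAut V) // Z ≤ Y₁ ∧ Z ≠ ⊥ ∧
      ∀ β ∈ A, ∀ z ∈ Z, β * z * β⁻¹ ∈ Z} => Nat.card Z.1)
  simp only at hmin
  have hminimal : ∀ Z : Subgroup (MulAut V), Z ≤ Y₂ → Z ≠ ⊥ →
      (∀ β ∈ A, ∀ z ∈ Z, β * z * β⁻¹ ∈ Z) → Z = Y₂ := by
    intro Z hZle hZne hZinv
    have := hmin ⟨Z, hZle.trans hY₂le, hZne, hZinv⟩
    exact Subgroup.eq_of_le_of_card_ge hZle this
  have hY₂Y : Y₂ ≤ Y := hY₂le.trans hY₁Y
  -- step 4: each element of A centralizes or inverts Y₂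
  have hdich : ∀ β ∈ A, (∀ y ∈ Y₂, β * y = y * β) ∨ (∀ y ∈ Y₂, β * y * β⁻¹ = y⁻¹) := by
    intro β hβ
    let Cβ : Subgroup (MulAut V) :=
      { carrier := {y | y ∈ Y₂ ∧ β * y = y * β}
        mul_mem' := by
          rintro a b ⟨ha, ha'⟩ ⟨hb, hb'⟩
          refine ⟨Y₂.mul_mem ha hb, ?_⟩
          rw [← mul_assoc, ha', mul_assoc, hb', mul_assoc]
        one_mem' := ⟨Y₂.one_mem, by simp⟩
        inv_mem' := by
          rintro a ⟨ha, ha'⟩
          refine ⟨Y₂.inv_mem ha, ?_⟩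
          have : β * a⁻¹ = a⁻¹ * (a * β) * a⁻¹ := by group
          rw [this, ← ha']
          group }
    have hCle : Cβ ≤ Y₂ := fun y hy => hy.1
    have hCinv : ∀ γ ∈ A, ∀ z ∈ Cβ, γ * z * γ⁻¹ ∈ Cβ := by
      rintro γ hγ z ⟨hz, hz'⟩
      refine ⟨hY₂inv γ hγ z hz, ?_⟩
      have h3 : β * (γ * z * γ⁻¹) = (β * γ) * z * γ⁻¹ := by group
      rw [h3, hAc β hβ γ hγ]
      have h4 : γ * β * z * γ⁻¹ = γ * (β * z) * γ⁻¹ := by group
      rw [h4, hz']
      have h5 : γ * z * γ⁻¹ * β = γ * z * (γ⁻¹ * β) := by group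
      have h6 : γ⁻¹ * β = β * γ⁻¹ := by
        have := hAc γ⁻¹ (A.inv_mem hγ) β hβ
        exact this
      rw [h5, h6]
      group
    by_cases hCbot : Cβ = ⊥
    · right
      intro y hy
      have hcy : β * y * β⁻¹ ∈ Y₂ := hY₂inv β hβ y hy
      have hw : y * (β * y * β⁻¹) ∈ Cβ := by
        refine ⟨Y₂.mul_mem hy hcy, ?_⟩
        have hβi := hAinv β hβ
        have hcomm : (β * y * β) * y = y * (β * y * β) := by
          have := hYc _ (hY₂Y hcy) _ (hY₂Y hy)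
          rwa [hβi] at this
        rw [hβi]
        calc β * (y * (β * y * β)) = (β * y * β) * y * β := by simp only [mul_assoc]
          _ = y * (β * y * β) * β := by rw [hcomm]
      rw [hCbot, Subgroup.mem_bot] at hw
      exact (eq_inv_of_mul_eq_one_right hw)
    · left
      have := hminimal Cβ hCle hCbot hCinv
      intro y hy
      have hy' : y ∈ Cβ := by rw [this]; exact hy
      exact hy'.2
  -- step 5: the centralizer of Y₂ in A
  let B : Subgroup (MulAut V) :=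
    { carrier := {β | β ∈ A ∧ ∀ y ∈ Y₂, β * y = y * β}
      mul_mem' := by
        rintro a b ⟨ha, ha'⟩ ⟨hb, hb'⟩
        refine ⟨A.mul_mem ha hb, ?_⟩
        intro y hy
        rw [mul_assoc, hb' y hy, ← mul_assoc, ha' y hy, mul_assoc]
      one_mem' := ⟨A.one_mem, by simp⟩
      inv_mem' := by
        rintro a ⟨ha, ha'⟩
        refine ⟨A.inv_mem ha, ?_⟩
        intro y hy
        have : a⁻¹ * y = a⁻¹ * (y * a) * a⁻¹ := by group
        rw [this, ← ha' y hy]
        group }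
  have hBA : B ≤ A := fun β hβ => hβ.1
  have hBmem : ∀ β, β ∈ B ↔ β ∈ A ∧ ∀ y ∈ Y₂, β * y = y * β := fun β => Iff.rfl
  -- a nontrivial element of Y₂
  obtain ⟨⟨y, hyY₂⟩, hyne⟩ := (Subgroup.ne_bot_iff_exists_ne_one).1 hY₂ne
  have hy1 : y ≠ 1 := fun h => hyne (Subtype.ext h)
  have hyY : y ∈ Y := hY₂Y hyY₂
  have hyodd : Odd (orderOf y) := hYoddel y hyY
  have hyinv : α₁ * y * α₁⁻¹ = y⁻¹ := (hY₂le hyY₂).2
  have hysq : y * y ≠ 1 := by
    intro h
    apply hy1
    ext v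
    have := fix_of_sq_fix y hyodd v (by rw [← MulAut.mul_apply, h, MulAut.one_apply])
    rw [this, MulAut.one_apply]
  have hα₁B : α₁ ∉ B := by
    rintro ⟨_, h⟩
    have h3 := h y hyY₂
    have h4 : α₁ * y * α₁⁻¹ = y := by rw [h3]; group
    rw [hyinv] at h4
    apply hysq
    calc y * y = y * y⁻¹ := by rw [h4]
      _ = 1 := mul_inv_cancel y
  have hcoset : ∀ β ∈ A, β ∈ B ∨ β * α₁ ∈ B := by
    intro β hβ
    rcases hdich β hβ with h | h
    · exact Or.inl ⟨hβ, h⟩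
    · right
      refine ⟨A.mul_mem hβ hα₁A, ?_⟩
      intro z hz
      have hz1 : α₁ * z * α₁⁻¹ = z⁻¹ := (hY₂le hz).2
      have hz2 : β * z⁻¹ * β⁻¹ = z⁻¹⁻¹ := h _ (Y₂.inv_mem hz)
      rw [inv_inv] at hz2
      calc β * α₁ * z = β * (α₁ * z * α₁⁻¹) * β⁻¹ * (β * α₁) := by group
        _ = z * (β * α₁) := by rw [hz1, hz2]
  have hcardA : Nat.card A ≤ Nat.card B * 2 := by
    have hinj : Function.Injective (fun β : A =>
        if h : (β : MulAut V) ∈ B then ((⟨β, h⟩ : B), true)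
        else ((⟨(β : MulAut V) * α₁, (hcoset β β.2).resolve_left h⟩ : B), false)) := by
      intro β γ hβγ
      simp only at hβγ
      by_cases hb : (β : MulAut V) ∈ B <;> by_cases hc : (γ : MulAut V) ∈ B
      · rw [dif_pos hb, dif_pos hc] at hβγ
        have := congrArg (fun t => ((t.1 : B) : MulAut V)) hβγ
        exact Subtype.ext this
      · rw [dif_pos hb, dif_neg hc] at hβγ
        have := congrArg (fun t => t.2) hβγ
        simp at this
      · rw [dif_neg hb, dif_pos hc] at hβγ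
        have := congrArg (fun t => t.2) hβγ
        simp at this
      · rw [dif_neg hb, dif_neg hc] at hβγ
        have := congrArg (fun t => ((t.1 : B) : MulAut V)) hβγ
        simp only at this
        exact Subtype.ext (mul_right_cancel this)
    have := Nat.card_le_card_of_injective _ hinj
    rwa [Nat.card_prod, Nat.card_eq_fintype_card (α := Bool), Fintype.card_bool] at this
  -- step 6: fixed points
  set W := fixedSub B with hW
  have hWcard : Nat.card W ≤ 2 * Nat.card (fixedSub A) := by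
    have h3 := hoff B hBA
    have hBpos : 0 < Nat.card B := Nat.card_pos
    have h4 : Nat.card B * Nat.card W ≤ Nat.card B * (2 * Nat.card (fixedSub A)) := by
      calc Nat.card B * Nat.card W ≤ Nat.card A * Nat.card (fixedSub A) := h3
        _ ≤ Nat.card B * 2 * Nat.card (fixedSub A) := Nat.mul_le_mul_right _ hcardA
        _ = Nat.card B * (2 * Nat.card (fixedSub A)) := by ring
    exact Nat.le_of_mul_le_mul_left h4 hBpos
  have hfixA : ∀ w, w ∈ fixedSub A ↔ w ∈ W ∧ α₁ w = w := by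
    intro w
    constructor
    · intro hw
      exact ⟨fun β hβ => hw β (hBA hβ), hw α₁ hα₁A⟩
    · rintro ⟨hw, hw1⟩ β hβ
      rcases hcoset β hβ with h | h
      · exact hw β h
      · have := hw _ h
        rw [MulAut.mul_apply, hw1] at this
        exact this
  -- y and α₁ preserve W
  have hyB : ∀ β ∈ B, β * y = y * β := fun β hβ => hβ.2 y hyY₂
  have hyW : ∀ w ∈ W, y w ∈ W := by
    intro w hw β hβ
    have := congrArg (fun t : MulAut V => t w) (hyB β hβ)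
    simp only [MulAut.mul_apply] at this
    rw [this, hw β hβ]
  have hyinvW : ∀ w ∈ W, y⁻¹ w ∈ W := by
    intro w hw β hβ
    have h3 : β * y⁻¹ = y⁻¹ * β := by
      have := hyB β hβ
      calc β * y⁻¹ = y⁻¹ * (y * β) * y⁻¹ := by group
        _ = y⁻¹ * β := by rw [← this]; group
    have := congrArg (fun t : MulAut V => t w) h3
    simp only [MulAut.mul_apply] at this
    rw [this, hw β hβ]
  have hαW : ∀ w ∈ W, α₁ w ∈ W := by
    intro w hw β hβ
    have := congrArg (fun t : MulAut V => t w) (hAc β (hBA hβ) α₁ hα₁A)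
    simp only [MulAut.mul_apply] at this
    rw [this, hw β hβ]
  -- step 7: y acts nontrivially on W
  haveI : Fact (Nat.Prime 2) := ⟨Nat.prime_two⟩
  have hcop2 : (orderOf y).Coprime 2 := Nat.coprime_two_right.2 hyodd
  have hynontriv : ∃ w ∈ W, y w ≠ w := by
    by_contra hcon
    have hfixW : ∀ w ∈ W, y w = w := by
      intro w hw
      by_contra h
      exact hcon ⟨w, hw, h⟩
    set E := (deltaHom y).range with hE
    have hE1 : E ≠ ⊥ := by
      intro hbot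
      apply hy1
      ext v
      have : deltaHom y v ∈ E := ⟨v, rfl⟩
      rw [hbot, Subgroup.mem_bot, deltaHom_apply] at this
      rw [MulAut.one_apply]
      exact mul_inv_eq_one.1 this
    have hBp : IsPGroup 2 B := by
      intro β
      refine ⟨1, ?_⟩
      rw [pow_one, pow_two]
      exact Subtype.ext (hA2 β (hBA β.2))
    have hBE : ∀ β ∈ B, ∀ e ∈ E, β e ∈ E := by
      rintro β hβ _ ⟨v, rfl⟩
      refine ⟨β v, ?_⟩
      rw [deltaHom_apply, deltaHom_apply, map_mul, map_inv]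
      have := congrArg (fun t : MulAut V => t v) (hyB β hβ)
      simp only [MulAut.mul_apply] at this
      rw [this]
    obtain ⟨e, heE, he1, hefix⟩ := exists_fixed_ne_one hV2 B hBp E hE1 hBE
    have heW : e ∈ W := hefix
    obtain ⟨v, rfl⟩ := heE
    apply he1
    rw [deltaHom_apply]
    apply delta_fixed_eq_one y v 2 hcop2
    · rw [pow_two]; exact h2 _
    · exact hfixW _ heW
  -- step 8: the dihedral argument
  have hαy : ∀ v : V, α₁ (y v) = y⁻¹ (α₁ v) := by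
    intro v
    have h3 : α₁ * y = y⁻¹ * α₁ := by
      calc α₁ * y = (α₁ * y * α₁⁻¹) * α₁ := by group
        _ = y⁻¹ * α₁ := by rw [hyinv]
    have := congrArg (fun t : MulAut V => t v) h3
    simpa only [MulAut.mul_apply] using this
  set P₁ := fixedSub A with hP₁
  have hP₁W : P₁ ≤ W := fun w hw => ((hfixA w).1 hw).1
  set P₂ := P₁.map (y : MulAut V).toMonoidHom with hP₂
  have hP₂W : P₂ ≤ W := by
    rintro _ ⟨u, hu, rfl⟩
    exact hyW u (hP₁W hu)
  have hP₂card : Nat.card P₂ = Nat.card P₁ :=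
    Subgroup.card_map_of_injective (MulEquiv.injective y)
  set δ := deltaHom y with hδ
  set Cy := δ.ker ⊓ W with hCy
  have hinfle : P₁ ⊓ P₂ ≤ Cy := by
    rintro w ⟨hw1, ⟨u, hu, huw⟩⟩
    have huw' : y u = w := huw
    have hw1' := (hfixA w).1 hw1
    have hu' := (hfixA u).1 hu
    refine ⟨MonoidHom.mem_ker.2 ?_, hw1'.1⟩
    rw [hδ, deltaHom_apply]
    -- α₁ (y u) = y u, hence y⁻¹ u = y u
    have h3 : y⁻¹ u = y u := by
      have := hαy u
      rw [hu'.2, huw', hw1'.2] at this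
      rw [huw']; exact this.symm
    have h4 : y (y u) = u := by
      rw [← h3]; simp
    have h5 : y u = u := fix_of_sq_fix y hyodd u h4
    rw [← huw', h5, h5, mul_inv_cancel]
  have hcard1 : Nat.card W ≤ 4 * Nat.card Cy := by
    have h3 := Cfsg.Agent.S3062.card_sup_mul_card_inf P₁ P₂
      (by rw [Subgroup.normalizer_eq_top]; exact le_top)
    have h4 : Nat.card ↥(P₁ ⊔ P₂) ≤ Nat.card W := Subgroup.card_le_of_le (sup_le hP₁W hP₂W)
    have h5 : Nat.card ↥(P₁ ⊓ P₂) ≤ Nat.card Cy := Subgroup.card_le_of_le hinfle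
    rw [hP₂card] at h3
    have hP₁pos : 0 < Nat.card P₁ := Nat.card_pos
    have h6 : Nat.card P₁ * Nat.card P₁ ≤ Nat.card P₁ * (2 * Nat.card ↥(P₁ ⊓ P₂)) := by
      calc Nat.card P₁ * Nat.card P₁ = Nat.card ↥(P₁ ⊔ P₂) * Nat.card ↥(P₁ ⊓ P₂) := h3.symm
        _ ≤ Nat.card W * Nat.card ↥(P₁ ⊓ P₂) := Nat.mul_le_mul_right _ h4
        _ ≤ (2 * Nat.card P₁) * Nat.card ↥(P₁ ⊓ P₂) := Nat.mul_le_mul_right _ hWcard
        _ = Nat.card P₁ * (2 * Nat.card ↥(P₁ ⊓ P₂)) := by ring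
    have h7 : Nat.card P₁ ≤ 2 * Nat.card ↥(P₁ ⊓ P₂) := Nat.le_of_mul_le_mul_left h6 hP₁pos
    omega
  -- step 9: the commutator X = [W, y]
  set X := W.map δ with hX
  have hXcard : Nat.card Cy * Nat.card X = Nat.card W := by
    have h3 := Subgroup.relIndex_ker δ (K := W)
    have h4 := Subgroup.relIndex_mul_relIndex (⊥ : Subgroup V) Cy W bot_le inf_le_right
    rw [Subgroup.relIndex_bot_left, Subgroup.relIndex_bot_left, hCy,
      Subgroup.inf_relIndex_right, h3] at h4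
    exact h4
  have hXle4 : Nat.card X ≤ 4 := by
    have hCpos : 0 < Nat.card Cy := Nat.card_pos
    have : Nat.card Cy * Nat.card X ≤ Nat.card Cy * 4 := by
      rw [hXcard, mul_comm]; exact hcard1
    exact Nat.le_of_mul_le_mul_left this hCpos
  have hXmem : ∀ x, x ∈ X ↔ ∃ w ∈ W, y w * w⁻¹ = x := by
    intro x
    rw [hX, Subgroup.mem_map]
    rfl
  have hXne : X ≠ ⊥ := by
    obtain ⟨w, hw, hyw⟩ := hynontriv
    intro hbot
    have : y w * w⁻¹ ∈ X := (hXmem _).2 ⟨w, hw, rfl⟩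
    rw [hbot, Subgroup.mem_bot] at this
    exact hyw (mul_inv_eq_one.1 this)
  have hXfix : ∀ x ∈ X, y x = x → x = 1 := by
    intro x hx hyx
    obtain ⟨w, _, rfl⟩ := (hXmem x).1 hx
    apply delta_fixed_eq_one y w 2 hcop2
    · rw [pow_two]; exact h2 _
    · exact hyx
  have hyX : ∀ x ∈ X, y x ∈ X := by
    intro x hx
    obtain ⟨w, hw, rfl⟩ := (hXmem x).1 hx
    rw [hXmem]
    exact ⟨y w, hyW w hw, by rw [map_mul, map_inv]⟩
  have hαX : ∀ x ∈ X, α₁ x ∈ X := by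
    intro x hx
    obtain ⟨w, hw, rfl⟩ := (hXmem x).1 hx
    have hw' : y⁻¹ (α₁ w) ∈ W := hyinvW _ (hαW w hw)
    have : α₁ (y w * w⁻¹) = (y (y⁻¹ (α₁ w)) * (y⁻¹ (α₁ w))⁻¹)⁻¹ := by
      rw [map_mul, map_inv, hαy, MulAut.apply_inv_self, mul_inv, inv_inv, mul_comm]
    rw [this]
    exact X.inv_mem ((hXmem _).2 ⟨_, hw', rfl⟩)
  obtain ⟨x₀, hx₀X, hx₀1⟩ : ∃ x ∈ X, x ≠ 1 := by
    by_contra hcon
    apply hXne
    rw [Subgroup.eq_bot_iff_forall]
    intro x hx
    by_contra h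
    exact hcon ⟨x, hx, h⟩
  have hyx₀ : y x₀ ≠ x₀ := fun h => hx₀1 (hXfix x₀ hx₀X h)
  -- the order of X
  have hXp : IsPGroup 2 X := hV2.to_subgroup X
  obtain ⟨k, hk⟩ := IsPGroup.iff_card.mp hXp
  have hXcard4 : Nat.card X = 4 := by
    have hk0 : k ≠ 0 := by
      intro h0
      rw [h0, pow_zero] at hk
      exact hXne (Subgroup.card_eq_one.1 hk)
    have hk1 : k ≠ 1 := by
      intro h1
      rw [h1, pow_one] at hk
      obtain ⟨z, hz⟩ := (Nat.card_eq_two_iff' (1 : X)).1 hk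
      have e1 : (⟨x₀, hx₀X⟩ : X) = z := hz.2 _ (fun h => hx₀1 (congrArg Subtype.val h))
      have e2 : (⟨y x₀, hyX x₀ hx₀X⟩ : X) = z := by
        apply hz.2
        intro h
        have h3 : y x₀ = 1 := congrArg Subtype.val h
        apply hx₀1
        have := (MulEquiv.map_eq_one_iff y).1 h3
        exact this
      apply hyx₀
      have := e2.trans e1.symm
      exact congrArg Subtype.val this
    have hk2 : k ≤ 2 := by
      by_contra hlt
      have : 2 ^ 3 ≤ 2 ^ k := Nat.pow_le_pow_right (by norm_num) (by omega)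
      omega
    have : k = 2 := by omega
    rw [hk, this]
    norm_num
  refine ⟨X, y, α₁, hyY, hα₁A, hXcard4, hyX, hαX, ⟨x₀, hx₀X, hyx₀⟩, ?_⟩
  -- α₁ acts nontrivially on X
  by_contra hcon
  have hαfix : ∀ x ∈ X, α₁ x = x := by
    intro x hx
    by_contra h
    exact hcon ⟨x, hx, h⟩
  apply hyx₀
  apply fix_of_sq_fix y hyodd
  have h3 := hαy x₀
  rw [hαfix x₀ hx₀X, hαfix _ (hyX x₀ hx₀X)] at h3
  rw [h3]
  simp

end main
end Cfsg.Agent.Lib.Helper51
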