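import Mathlib

set_option autoImplicit false

/-!
# Quadratic action and abelian `p'`-groups (odd `p`)

If `α` is an automorphism of a finite abelian `p`-group `V`, `p` odd, acting quadratically
(`(α - 1)² = 0`) and normalizing an abelian group `Y` of automorphisms of order prime to `p`,
then `α` centralizes `Y`.
-/

namespace Cfsg.Agent.Lib.Helper51

open scoped BigOperators

section lemmaQ
variable {V : Type*} [CommGroup V] [Finite V]

/-- the quadratic condition `(α - 1)² = 0`, written multiplicatively -/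
def IsQuad (α : MulAut V) : Prop := ∀ v : V, α (α v) * v = α v * α v

theorem IsQuad.eq_mul_inv {α : MulAut V} (h : IsQuad α) (v : V) :
    α (α v) = α v * α v * v⁻¹ := by
  rw [← h v]; simp

theorem isQuad_conj {α : MulAut V} (h : IsQuad α) (y : MulAut V) : IsQuad (y⁻¹ * α * y) := by
  intro v
  have := h (y v)
  simp only [MulAut.mul_apply]
  have h2 : y⁻¹ (α (α (y v)) * y v) = y⁻¹ (α (y v) * α (y v)) := by rw [this]
  rw [map_mul, map_mul] at h2
  simpa using h2

theorem lemmaQ {p : ℕ} [hp : Fact p.Prime] (hp2 : p ≠ 2) (hV : IsPGroup p V)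
    (α : MulAut V) (hα : IsQuad α) (Y : Subgroup (MulAut V))
    (hYc : ∀ a ∈ Y, ∀ b ∈ Y, a * b = b * a) (hYp : (Nat.card Y).Coprime p)
    (hαY : ∀ y ∈ Y, α * y * α⁻¹ ∈ Y) :
    ∀ y ∈ Y, α * y = y * α := by
  classical
  haveI : Fintype Y := Fintype.ofFinite Y
  -- δ(y) = y⁻¹ (α y α⁻¹)
  set δ : Y → MulAut V := fun y => (y : MulAut V)⁻¹ * (α * y * α⁻¹) with hδ
  have hδY : ∀ y : Y, δ y ∈ Y := fun y => Y.mul_mem (Y.inv_mem y.2) (hαY y y.2)
  have hδmul : ∀ y z : Y, δ (y * z) = δ y * δ z := by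
    intro y z
    have h1 := hYc _ (Y.inv_mem z.2) _ (hδY y)
    calc δ (y * z) = (z : MulAut V)⁻¹ * δ y * (α * z * α⁻¹) := by
          simp only [hδ, Subgroup.coe_mul]; group
      _ = δ y * (z : MulAut V)⁻¹ * (α * z * α⁻¹) := by rw [h1]
      _ = δ y * δ z := by simp only [hδ]; group
  have hδinv : ∀ y : Y, δ y⁻¹ = (δ y)⁻¹ := by
    intro y
    have h1 := hδmul y y⁻¹
    rw [mul_inv_cancel] at h1
    have h0 : δ 1 = 1 := by simp [hδ]
    rw [h0] at h1
    exact eq_inv_of_mul_eq_one_right h1.symm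
  -- y⁻¹ α y = δ y * α
  have hconj : ∀ y : Y, (y : MulAut V)⁻¹ * α * y = δ y * α := by
    intro y; simp only [hδ]; group
  -- P(w) = ∏ δ(y)(w)
  set P : V → V := fun w => ∏ y : Y, δ y w with hP
  have hPmul : ∀ a b : V, P (a * b) = P a * P b := by
    intro a b
    simp only [hP, map_mul, Finset.prod_mul_distrib]
  have hPinv : ∀ a : V, P a⁻¹ = (P a)⁻¹ := by
    intro a
    simp only [hP, map_inv, Finset.prod_inv_distrib]
  -- key identity from quadraticity of the conjugates
  have hkey : ∀ (y : Y) (v : V), α (δ y (α v)) = α v * α v * ((δ y)⁻¹ v)⁻¹ := by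
    intro y v
    have hq := isQuad_conj hα (y : MulAut V)
    rw [hconj] at hq
    have h1 := hq v
    simp only [MulAut.mul_apply] at h1
    have h2 := congrArg (fun w => ((δ y)⁻¹ : MulAut V) w) h1
    simp only [map_mul, MulAut.inv_apply_self] at h2
    rw [← h2]
    simp
  have hn : Fintype.card Y = Nat.card Y := Nat.card_eq_fintype_card.symm
  set n := Nat.card Y with hn'
  -- reindexing by inversion
  have hPinv' : ∀ v : V, ∏ y : Y, (δ y)⁻¹ v = P v := by
    intro v
    have h1 : ∀ y : Y, (δ y)⁻¹ v = δ y⁻¹ v := fun y => by rw [hδinv]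
    simp only [h1, hP]
    exact Equiv.prod_comp (Equiv.inv Y) (fun y => δ y v)
  have hprod : ∀ v : V, α (P (α v)) = (α v * α v) ^ n * (P v)⁻¹ := by
    intro v
    calc α (P (α v)) = ∏ y : Y, α (δ y (α v)) := by simp only [hP, map_prod]
      _ = ∏ y : Y, (α v * α v * ((δ y)⁻¹ v)⁻¹) := by simp only [hkey]
      _ = (α v * α v) ^ n * (P v)⁻¹ := by
        rw [Finset.prod_mul_distrib, Finset.prod_const, Finset.card_univ, hn,
          Finset.prod_inv_distrib, hPinv']
  -- conjugation by α permutes Y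
  have hcinj : Function.Injective (fun y : Y => (⟨α * y * α⁻¹, hαY y y.2⟩ : Y)) := by
    intro a b hab
    have : α * (a : MulAut V) * α⁻¹ = α * b * α⁻¹ := congrArg Subtype.val hab
    apply Subtype.ext
    have h2 : α⁻¹ * (α * (a : MulAut V) * α⁻¹) * α = α⁻¹ * (α * b * α⁻¹) * α := by rw [this]
    simpa [mul_assoc] using h2
  let c : Y ≃ Y := Equiv.ofBijective _ (Finite.injective_iff_bijective.1 hcinj)
  have hcδ : ∀ y : Y, α * δ y * α⁻¹ = δ (c y) := by
    intro y
    simp only [hδ, c, Equiv.ofBijective_apply]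
    group
  have hcomm : ∀ w : V, α (P w) = P (α w) := by
    intro w
    calc α (P w) = ∏ y : Y, α (δ y w) := by simp only [hP, map_prod]
      _ = ∏ y : Y, δ (c y) (α w) := by
        apply Finset.prod_congr rfl
        intro y _
        rw [← hcδ]
        simp
      _ = P (α w) := Equiv.prod_comp c (fun y => δ y (α w))
  -- squares
  have hsq : ∀ x : V, x * x = 1 → x = 1 := by
    intro x hx
    obtain ⟨k, hk⟩ := hV x
    have h1 : orderOf x ∣ 2 := orderOf_dvd_of_pow_eq_one (by rw [pow_two, hx])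
    have h2 : orderOf x ∣ p ^ k := orderOf_dvd_of_pow_eq_one hk
    have hcop : Nat.Coprime 2 (p ^ k) := by
      apply Nat.Coprime.pow_right
      rw [Nat.coprime_primes Nat.prime_two hp.out]
      exact fun h => hp2 h.symm
    have h3 : orderOf x = 1 := Nat.eq_one_of_dvd_coprimes hcop h1 h2
    exact orderOf_eq_one_iff.1 h3
  have hPw : ∀ w : V, P w = w ^ n := by
    intro w
    obtain ⟨v, rfl⟩ := α.surjective w
    have h1 := hprod v
    rw [hcomm, hα.eq_mul_inv v] at h1
    rw [hPmul, hPmul, hPinv] at h1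
    have h2 : P (α v) * P (α v) = (α v * α v) ^ n := mul_right_cancel h1
    have h3 : (P (α v) * ((α v) ^ n)⁻¹) * (P (α v) * ((α v) ^ n)⁻¹) = 1 := by
      have : (P (α v) * ((α v) ^ n)⁻¹) * (P (α v) * ((α v) ^ n)⁻¹)
          = (P (α v) * P (α v)) * ((α v * α v) ^ n)⁻¹ := by
        rw [mul_pow]; simp only [mul_inv]
        rw [mul_mul_mul_comm]
      rw [this, h2, mul_inv_cancel]
    have h4 := hsq _ h3
    exact mul_inv_eq_one.1 h4
  intro y₀ hy₀
  have hfix : ∀ w : V, δ ⟨y₀, hy₀⟩ (P w) = P w := by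
    intro w
    calc δ ⟨y₀, hy₀⟩ (P w) = ∏ y : Y, δ ⟨y₀, hy₀⟩ (δ y w) := by simp only [hP, map_prod]
      _ = ∏ y : Y, δ (⟨y₀, hy₀⟩ * y) w := by
        apply Finset.prod_congr rfl
        intro y _
        rw [hδmul]; rfl
      _ = P w := Equiv.prod_comp (Equiv.mulLeft (⟨y₀, hy₀⟩ : Y)) (fun y => δ y w)
  have hδ1 : δ ⟨y₀, hy₀⟩ = 1 := by
    ext w
    have h1 := hfix w
    rw [hPw, map_pow] at h1
    have h2 : (δ ⟨y₀, hy₀⟩ w * w⁻¹) ^ n = 1 := by
      rw [mul_pow, h1, inv_pow, mul_inv_cancel]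
    obtain ⟨k, hk⟩ := hV (δ ⟨y₀, hy₀⟩ w * w⁻¹)
    have h3 : orderOf (δ ⟨y₀, hy₀⟩ w * w⁻¹) ∣ n := orderOf_dvd_of_pow_eq_one h2
    have h4 : orderOf (δ ⟨y₀, hy₀⟩ w * w⁻¹) ∣ p ^ k := orderOf_dvd_of_pow_eq_one hk
    have hcop : Nat.Coprime n (p ^ k) := Nat.Coprime.pow_right _ hYp
    have h5 : orderOf (δ ⟨y₀, hy₀⟩ w * w⁻¹) = 1 := Nat.eq_one_of_dvd_coprimes hcop h3 h4
    have h6 := orderOf_eq_one_iff.1 h5
    rw [MulAut.one_apply]
    exact mul_inv_eq_one.1 h6
  simp only [hδ] at hδ1
  have h7 : α * y₀ * α⁻¹ = y₀ := by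
    have := congrArg (fun t => y₀ * t) hδ1
    simpa [mul_assoc] using this
  calc α * y₀ = α * y₀ * α⁻¹ * α := by group
    _ = y₀ * α := by rw [h7]

/-- An automorphism of order prime to `p` of a finite abelian `p`-group that fixes all elements
of order dividing `p` is trivial. -/
theorem eq_one_of_fixes_omega {p : ℕ} [hp : Fact p.Prime] (hV : IsPGroup p V) (y : MulAut V)
    (hy : (orderOf y).Coprime p) (h1 : ∀ v : V, v ^ p = 1 → y v = v) : y = 1 := by
  have key : ∀ e : ℕ, ∀ z : V, z ^ (p ^ e) = 1 → y z = z := by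
    intro e
    induction e with
    | zero =>
      intro z hz
      rw [pow_zero, pow_one] at hz
      rw [hz, map_one]
    | succ e ih =>
      intro z hz
      have hzp : y (z ^ p) = z ^ p := ih _ (by rw [← pow_mul, ← pow_succ']; exact hz)
      set w := y z * z⁻¹ with hw
      have hwp : w ^ p = 1 := by
        rw [hw, mul_pow, ← map_pow, hzp, inv_pow, mul_inv_cancel]
      have hyw : y w = w := h1 w hwp
      have hyz : y z = z * w := by
        rw [hw, mul_comm (y z), mul_inv_cancel_left]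
      have hiter : ∀ i : ℕ, (y ^ i) z = z * w ^ i := by
        intro i
        induction i with
        | zero => simp
        | succ i ihi =>
          rw [pow_succ', MulAut.mul_apply, ihi, map_mul, map_pow, hyw, hyz, pow_succ']
          rw [mul_assoc]
      have h2 := hiter (orderOf y)
      rw [pow_orderOf_eq_one, MulAut.one_apply] at h2
      have hwm : w ^ orderOf y = 1 := by
        have h3 : z * w ^ orderOf y = z * 1 := by rw [← h2, mul_one]
        exact mul_left_cancel h3
      have ho1 : orderOf w ∣ orderOf y := orderOf_dvd_of_pow_eq_one hwm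
      have ho2 : orderOf w ∣ p := orderOf_dvd_of_pow_eq_one hwp
      have ho3 : orderOf w = 1 := Nat.eq_one_of_dvd_coprimes hy ho1 ho2
      have hw1 : w = 1 := orderOf_eq_one_iff.1 ho3
      exact mul_inv_eq_one.1 hw1
  ext z
  obtain ⟨e, he⟩ := hV z
  rw [MulAut.one_apply]
  exact key e z he

/-- A quadratic automorphism of an elementary abelian `2`-group is an involution. -/
theorem IsQuad.sq_eq_one {α : MulAut V} (h : IsQuad α) (h2 : ∀ v : V, v * v = 1) :
    α * α = 1 := by
  ext v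
  rw [MulAut.mul_apply, MulAut.one_apply, h.eq_mul_inv v, h2 (α v), one_mul]
  have := h2 v
  exact inv_eq_of_mul_eq_one_left this

end lemmaQ

end Cfsg.Agent.Lib.Helper51
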