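import Cfsg.Agent.Lib.Helper51.TNPC1
import Cfsg.Agent.Lib.Helper51.Quadratic
import Cfsg.Agent.Lib.Helper51.Lin2
import Cfsg.Agent.Lib.Helper51.S4Section
import Cfsg.Agent.Lib.Helper68.PNilp

set_option autoImplicit false
open Cfsg
open scoped Pointwise

/-!
# Thompson's normal `p`-complement theorem: the minimal counterexample does not exist
-/

namespace Cfsg.Agent.Lib.Helper51.TNPC

open Cfsg.Agent.Lib.Helper51 Cfsg.Agent.Lib.Helper33

universe u

section cent
variable {G : Type u} [Group G] [Finite G] {p : ℕ} [hpf : Fact p.Prime]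

theorem zIn_le_zIn_of_cent {U S : Subgroup G} (hUS : U ≤ S)
    (hcent : Subgroup.centralizer (U : Set G) ≤ U) : zIn S ≤ zIn U := by
  intro z hz
  rw [mem_zIn] at hz ⊢
  have hzc : z ∈ Subgroup.centralizer (U : Set G) := by
    rw [Subgroup.mem_centralizer_iff]
    intro u hu
    exact hz.2 u (hUS hu)
  exact ⟨hcent hzc, fun y hy => hz.2 y (hUS hy)⟩

/-- a `p'`-element centralizing `Ω₁(Z(U))` centralizes `Z(U)` -/
theorem centralizes_zIn_of_centralizes_omegaZ {U : Subgroup G} [hUn : U.Normal]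
    (hUp : IsPGroup p U) {g : G} (hgo : (orderOf g).Coprime p)
    (hg : g ∈ Subgroup.centralizer (omegaZ p U : Set G)) :
    g ∈ Subgroup.centralizer (zIn U : Set G) := by
  have hZn : (zIn U).Normal := zIn_normal U
  letI : CommGroup ↥(zIn U) :=
    { (inferInstance : Group ↥(zIn U)) with
      mul_comm := fun a b => Subtype.ext (((mem_zIn.1 a.2).2 b (mem_zIn.1 b.2).1).symm) }
  have hZp : IsPGroup p ↥(zIn U) := hUp.to_le (zIn_le U)
  set y : MulAut ↥(zIn U) := MulAut.conjNormal g with hy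
  have hyo : (orderOf y).Coprime p :=
    Nat.Coprime.coprime_dvd_left (orderOf_map_dvd _ g) hgo
  have hfix : ∀ v : ↥(zIn U), v ^ p = 1 → y v = v := by
    intro v hv
    apply Subtype.ext
    rw [hy, MulAut.conjNormal_apply]
    have hvV : (v : G) ∈ omegaZ p U := ⟨v.2, by simpa using congrArg Subtype.val hv⟩
    have := (Subgroup.mem_centralizer_iff.1 hg) _ hvV
    rw [← this]; group
  have h1 := eq_one_of_fixes_omega hZp y hyo hfix
  rw [Subgroup.mem_centralizer_iff]
  intro z hz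
  have h2 := congrArg (fun α : MulAut ↥(zIn U) => ((α ⟨z, hz⟩ : ↥(zIn U)) : G)) h1
  simp only [hy, MulAut.conjNormal_apply, MulAut.one_apply] at h2
  calc z * g = (g * z * g⁻¹) * g := by rw [h2]
    _ = g * z := by group

theorem centralizer_omegaZ {S : Sylow p G} {U K : Subgroup G} (hc : Core p G S U K) :
    Subgroup.centralizer (omegaZ p U : Set G) = U := by
  have hp := hpf.out
  have hUn := hc.Un
  have hKn := hc.Kn
  have hVn : (omegaZ p U).Normal := omegaZ_normal U
  apply le_antisymm _ (omegaZ_le_centralizer U)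
  set C := Subgroup.centralizer (omegaZ p U : Set G) with hC
  have hCn : C.Normal := Subgroup.normal_centralizer
  have hUC : U ≤ C := omegaZ_le_centralizer U
  have hLn : (C ⊓ K).Normal := inferInstance
  rcases hc.simple (C ⊓ K) (le_inf hUC hc.UK) inf_le_right
      (by rw [Subgroup.normalizer_eq_top_iff.2 hLn]; exact le_top) with hL | hL
  · -- C ∩ K = U: C is a p-group
    have hCp : IsPGroup p C := by
      obtain ⟨k', hk'⟩ := hc.idxK
      have h1 : K.relIndex C ∣ p ^ k' := hk' ▸ Subgroup.relIndex_dvd_index_of_normal K C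
      obtain ⟨j, hj⟩ := exists_eq_pow_of_dvd_pow hp h1
      have h2 := card_mul_relIndex_of_le (inf_le_right : K ⊓ C ≤ C)
      obtain ⟨a, ha⟩ := IsPGroup.iff_card.mp hc.Up
      rw [Subgroup.inf_relIndex_right, hj, inf_comm, hL, ha] at h2
      apply IsPGroup.of_card (n := a + j)
      rw [← h2, pow_add]
    exact hc.Umax C hCn hCp
  · -- K centralizes Ω₁(Z(U)): contradiction
    exfalso
    apply hc.hno
    have hKC : K ≤ C := by rw [← hL]; exact inf_le_left
    have hKZ : K ≤ Subgroup.centralizer (zIn U : Set G) := by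
      intro k hk
      obtain ⟨i, j, hkij, ⟨e, he⟩, hcop⟩ := exists_pow_decomp (p := p) k
      have hiU : k ^ i ∈ U := by
        have hzp : IsPGroup p (Subgroup.zpowers (k ^ i)) := isPGroup_zpowers_of_pow_eq_one he
        exact le_of_isPGroup_of_le hc.Up hc.UK hc.cardK hzp
          (by rw [Subgroup.zpowers_le]; exact K.pow_mem hk i) (Subgroup.mem_zpowers _)
      have hi : k ^ i ∈ Subgroup.centralizer (zIn U : Set G) := by
        rw [Subgroup.mem_centralizer_iff]
        intro z hz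
        exact ((mem_zIn.1 hz).2 _ hiU).symm
      have hj : k ^ j ∈ Subgroup.centralizer (zIn U : Set G) :=
        centralizes_zIn_of_centralizes_omegaZ hc.Up hcop (hKC (K.pow_mem hk j))
      rw [hkij]
      exact Subgroup.mul_mem _ hi hj
    have hZZ : zIn (S : Subgroup G) ≤ zIn U := zIn_le_zIn_of_cent hc.US hc.cent
    have htop : Subgroup.centralizer (zIn (S : Subgroup G) : Set G) = ⊤ := by
      rw [eq_top_iff, ← hc.SK]
      apply sup_le
      · intro s hs
        rw [Subgroup.mem_centralizer_iff]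
        intro z hz
        exact ((mem_zIn.1 hz).2 s hs).symm
      · exact hKZ.trans (Subgroup.centralizer_le hZZ)
    have h1 := hc.cond.1
    rw [htop] at h1
    exact hnpc_top_iff.1 h1

end cent


section cenq
variable {G : Type u} [Group G] [Finite G] {p : ℕ} [hpf : Fact p.Prime]

theorem cj_of_normal (g : G) (N : Subgroup G) [hN : N.Normal] : cj g N = N := by
  rw [cj_eq_self_iff, Subgroup.normalizer_eq_top_iff.2 hN]
  exact Subgroup.mem_top g

theorem le_normalizer_of_conj_mem {T D : Subgroup G}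
    (h : ∀ g ∈ T, ∀ d ∈ D, g * d * g⁻¹ ∈ D) : T ≤ Subgroup.normalizer (D : Set G) := by
  intro g hg
  rw [Subgroup.mem_normalizer_iff]
  intro d
  constructor
  · exact h g hg d
  · intro hd
    have := h g⁻¹ (T.inv_mem hg) _ hd
    have h2 : g⁻¹ * (g * d * g⁻¹) * g⁻¹⁻¹ = d := by group
    rwa [h2] at this

/-- the centralizer of `K/U` in `G` -/
def cenQ (U K : Subgroup G) [U.Normal] : Subgroup G :=
  (Subgroup.centralizer
    ((K.map (QuotientGroup.mk' U) : Subgroup (G ⧸ U)) : Set (G ⧸ U))).comap (QuotientGroup.mk' U)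

theorem mem_cenQ {U K : Subgroup G} [hU : U.Normal] {g : G} :
    g ∈ cenQ U K ↔ ∀ k ∈ K, g * k * g⁻¹ * k⁻¹ ∈ U := by
  unfold cenQ
  rw [Subgroup.mem_comap, Subgroup.mem_centralizer_iff]
  constructor
  · intro h k hk
    have h1 := h _ ⟨k, hk, rfl⟩
    rw [← map_mul, ← map_mul] at h1
    have h2 : (k * g)⁻¹ * (g * k) ∈ U := (QuotientGroup.eq).1 h1
    have h3 : g * k * g⁻¹ * k⁻¹ = (g * k) * ((k * g)⁻¹ * (g * k)) * (g * k)⁻¹ := by group
    rw [h3]
    exact hU.conj_mem _ h2 _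
  · rintro h _ ⟨k, hk, rfl⟩
    rw [← map_mul, ← map_mul]
    apply (QuotientGroup.eq).2
    have h2 := h k hk
    have h3 : (k * g)⁻¹ * (g * k) = (g * k)⁻¹ * (g * k * g⁻¹ * k⁻¹) * (g * k) := by group
    rw [h3]
    have := hU.conj_mem _ h2 (g * k)⁻¹
    rwa [inv_inv] at this

theorem cenQ_normal (U K : Subgroup G) [hU : U.Normal] [hK : K.Normal] : (cenQ U K).Normal := by
  unfold cenQ
  have h1 : (K.map (QuotientGroup.mk' U)).Normal :=
    hK.map _ (QuotientGroup.mk'_surjective U)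
  have h2 : (Subgroup.centralizer
    ((K.map (QuotientGroup.mk' U) : Subgroup (G ⧸ U)) : Set (G ⧸ U))).Normal :=
    Subgroup.normal_centralizer
  exact h2.comap _

theorem le_cenQ (U K : Subgroup G) [hU : U.Normal] : U ≤ cenQ U K := by
  intro u hu
  rw [mem_cenQ]
  intro k _
  have h1 := hU.conj_mem _ (U.inv_mem hu) k
  have h2 : u * k * u⁻¹ * k⁻¹ = u * (k * u⁻¹ * k⁻¹) := by group
  rw [h2]
  exact U.mul_mem hu h1

/-- `S/U` acts faithfully on `K/U` -/
theorem cenQ_inf_le {S : Sylow p G} {U K : Subgroup G} (hc : Core p G S U K) :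
    haveI := hc.Un
    cenQ U K ⊓ (S : Subgroup G) ≤ U := by
  have hUn := hc.Un
  have hKn := hc.Kn
  have hDn : (cenQ U K).Normal := cenQ_normal U K
  set D₀ := cenQ U K ⊓ (S : Subgroup G) with hD₀
  have hS : (S : Subgroup G) ≤ Subgroup.normalizer (D₀ : Set G) := by
    apply le_normalizer_of_conj_mem
    rintro s hs d ⟨hd1, hd2⟩
    exact ⟨hDn.conj_mem d hd1 s, Subgroup.mul_mem _ (Subgroup.mul_mem _ hs hd2) (Subgroup.inv_mem _ hs)⟩
  have hK : K ≤ Subgroup.normalizer (D₀ : Set G) := by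
    apply le_normalizer_of_conj_mem
    rintro k hk d ⟨hd1, hd2⟩
    refine ⟨hDn.conj_mem d hd1 k, ?_⟩
    have h1 := (mem_cenQ.1 hd1) k hk
    have h2 : k * d * k⁻¹ = (d * k * d⁻¹ * k⁻¹)⁻¹ * d := by group
    rw [h2]
    exact Subgroup.mul_mem _ (Subgroup.inv_mem _ (hc.US h1)) hd2
  have htop : Subgroup.normalizer (D₀ : Set G) = ⊤ := by
    rw [eq_top_iff, ← hc.SK]
    exact sup_le hS hK
  have hD₀n : D₀.Normal := Subgroup.normalizer_eq_top_iff.1 htop
  have hD₀p : IsPGroup p D₀ := S.2.to_le inf_le_right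
  exact hc.Umax D₀ hD₀n hD₀p

end cenq

section abelianquot
variable {G : Type u} [Group G] [Finite G] {p : ℕ} [hpf : Fact p.Prime]

/-- `K/U` is abelian -/
theorem le_cenQ_self {S : Sylow p G} {U K : Subgroup G} (hc : Core p G S U K) :
    haveI := hc.Un
    K ≤ cenQ U K := by
  have hp := hpf.out
  have hUn := hc.Un
  have hKn := hc.Kn
  have hDn : (cenQ U K).Normal := cenQ_normal U K
  have hLn : (cenQ U K ⊓ K).Normal := inferInstance
  rcases hc.simple (cenQ U K ⊓ K) (le_inf (le_cenQ U K) hc.UK) inf_le_right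
      (by rw [Subgroup.normalizer_eq_top_iff.2 hLn]; exact le_top) with hL | hL
  swap
  · exact inf_eq_right.1 hL
  exfalso
  obtain ⟨m, hm, hmc⟩ := hc.cardK
  have hm1 : m ≠ 1 := by
    intro h1
    rw [h1, mul_one] at hm
    exact hc.KneU (Subgroup.eq_of_le_of_card_ge hc.UK (le_of_eq hm)).symm
  set q := m.minFac with hq
  have hqp : q.Prime := Nat.minFac_prime hm1
  haveI : Fact q.Prime := ⟨hqp⟩
  have hqm : q ∣ m := Nat.minFac_dvd m
  have hqne : q ≠ p := by
    intro h
    rw [h] at hqm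
    exact (Nat.Prime.coprime_iff_not_dvd hp).1 hmc.symm hqm
  have hqK : q ∣ Nat.card K := by rw [hm]; exact Dvd.dvd.mul_left hqm _
  obtain ⟨Q⟩ := (inferInstance : Nonempty (Sylow q K))
  set Q₀ := (Q : Subgroup K).map K.subtype with hQ₀
  have hQ₀q : IsPGroup q Q₀ := Q.2.map _
  have hQ₀K : Q₀ ≤ K := Subgroup.map_subtype_le _
  have hQ₀ne : Q₀ ≠ ⊥ := by
    intro hbot
    have h1 : Nat.card Q₀ = Nat.card (Q : Subgroup K) :=
      Subgroup.card_map_of_injective K.subtype_injective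
    rw [hbot, Subgroup.card_bot] at h1
    have h2 := Q.card_eq_multiplicity
    rw [← h1] at h2
    have h3 : 1 ≤ (Nat.card K).factorization q :=
      (Nat.Prime.dvd_iff_one_le_factorization hqp Nat.card_pos.ne').1 hqK
    have h4 : q ^ 1 ≤ q ^ (Nat.card K).factorization q :=
      Nat.pow_le_pow_right hqp.pos h3
    rw [pow_one] at h4
    have := hqp.one_lt
    omega
  have hfrat : Subgroup.normalizer (Q₀ : Set G) ⊔ K = ⊤ := Sylow.normalizer_sup_eq_top Q
  -- the normalizer of U Q₀ has index prime to p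
  set N₁ := Subgroup.normalizer ((U ⊔ Q₀ : Subgroup G) : Set G) with hN₁
  set R := Subgroup.normalizer (Q₀ : Set G) ⊔ U with hR
  have hRN₁ : R ≤ N₁ := by
    apply sup_le
    · intro g hg
      rw [hN₁, ← cj_eq_self_iff, cj_sup, cj_of_normal g U, cj_eq_self_iff.2 hg]
    · exact le_sup_left.trans Subgroup.le_normalizer
  have hRK : R ⊔ K = ⊤ := by
    rw [eq_top_iff, ← hfrat]
    exact sup_le_sup_right le_sup_left K
  have hidx : ¬ p ∣ N₁.index := by
    have h1 := Cfsg.Agent.S3062.card_sup_mul_card_inf R K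
      (by rw [Subgroup.normalizer_eq_top_iff.2 hKn]; exact le_top)
    rw [hRK, Subgroup.card_top] at h1
    have h2 := R.card_mul_index
    have hUle : U ≤ R ⊓ K := le_inf le_sup_right hc.UK
    obtain ⟨c, hcc⟩ := Subgroup.card_dvd_of_le hUle
    have hRpos : 0 < Nat.card R := Nat.card_pos
    have hUpos : 0 < Nat.card U := Nat.card_pos
    have h3 : R.index * c = m := by
      have h4 : Nat.card R * (R.index * (Nat.card U * c)) = Nat.card R * (Nat.card U * m) := by
        calc Nat.card R * (R.index * (Nat.card U * c))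
            = (Nat.card R * R.index) * Nat.card ↥(R ⊓ K) := by rw [hcc]; ring
          _ = Nat.card G * Nat.card ↥(R ⊓ K) := by rw [h2]
          _ = Nat.card R * Nat.card K := h1
          _ = Nat.card R * (Nat.card U * m) := by rw [hm]
      have h5 := Nat.eq_of_mul_eq_mul_left hRpos h4
      have h6 : Nat.card U * (R.index * c) = Nat.card U * m := by
        rw [← h5]; ring
      exact Nat.eq_of_mul_eq_mul_left hUpos h6
    intro hpd
    have h7 : p ∣ m := by
      rw [← h3]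
      exact Dvd.dvd.mul_right ((hpd.trans (Subgroup.index_dvd_of_le hRN₁))) c
    exact (Nat.Prime.coprime_iff_not_dvd hp).1 hmc.symm h7
  obtain ⟨P, hPN₁, _⟩ := Cfsg.Agent.Lib.Helper68.exists_sylow_le_of_not_dvd_index N₁ hidx 1
    (Subgroup.one_mem _) ⟨0, by simp⟩
  obtain ⟨g, hg⟩ := sylow_exists_cj P S
  -- S normalizes U ⊔ cj g Q₀
  set Q' := cj g Q₀ with hQ'
  have hSN : (S : Subgroup G) ≤ Subgroup.normalizer ((U ⊔ Q' : Subgroup G) : Set G) := by
    have h1 : cj g (P : Subgroup G) ≤ cj g N₁ := cj_mono hPN₁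
    rw [hg, hN₁, ← normalizer_cj, cj_sup, cj_of_normal g U] at h1
    exact h1
  have hQ'K : Q' ≤ K := by
    have := cj_mono (g := g) hQ₀K
    rwa [cj_of_normal g K] at this
  have hQ'q : IsPGroup q Q' := isPGroup_cj hQ₀q
  have hQ'ne : Q' ≠ ⊥ := fun h => hQ₀ne (cj_eq_bot_iff.1 h)
  have hUQ'disj : ∀ x : G, x ∈ U → x ∈ Q' → x = 1 := by
    intro x hxU hxQ
    obtain ⟨a, ha⟩ := hc.Up ⟨x, hxU⟩
    obtain ⟨b, hb⟩ := hQ'q ⟨x, hxQ⟩
    have ha' : x ^ (p ^ a) = 1 := by simpa using congrArg Subtype.val ha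
    have hb' : x ^ (q ^ b) = 1 := by simpa using congrArg Subtype.val hb
    have ho1 := orderOf_dvd_of_pow_eq_one ha'
    have ho2 := orderOf_dvd_of_pow_eq_one hb'
    have hcop : Nat.Coprime (p ^ a) (q ^ b) :=
      Nat.Coprime.pow _ _ ((Nat.coprime_primes hp hqp).2 (Ne.symm hqne))
    exact orderOf_eq_one_iff.1 (Nat.eq_one_of_dvd_coprimes hcop ho1 ho2)
  rcases hc.simple (U ⊔ Q') le_sup_left (sup_le hc.UK hQ'K) hSN with h | h
  · -- Q' ≤ U impossible
    apply hQ'ne
    rw [Subgroup.eq_bot_iff_forall]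
    intro x hx
    have hxU : x ∈ U := by rw [← h]; exact Subgroup.mem_sup_right hx
    exact hUQ'disj x hxU hx
  · -- K = U Q', use the centre of Q'
    haveI : Nontrivial Q' := (Subgroup.nontrivial_iff_ne_bot Q').2 hQ'ne
    have hcen : Nontrivial (Subgroup.center Q') := hQ'q.center_nontrivial
    obtain ⟨z, hz⟩ := exists_ne (1 : Subgroup.center Q')
    have hzQ' : ((z : Q') : G) ∈ Q' := (z : Q').2
    have hzcomm : ∀ x ∈ Q', x * ((z : Q') : G) = ((z : Q') : G) * x := by
      intro x hx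
      have := Subgroup.mem_center_iff.1 z.2 ⟨x, hx⟩
      exact congrArg Subtype.val this
    have hzD : ((z : Q') : G) ∈ cenQ U K := by
      rw [mem_cenQ]
      intro l hl
      rw [← h] at hl
      obtain ⟨u, hu, x, hx, rfl⟩ := Subgroup.mem_sup_of_normal_left.mp hl
      have h1 := hzcomm x hx
      set z₀ := ((z : Q') : G) with hz₀
      have hx' : x * z₀⁻¹ = z₀⁻¹ * x := by
        calc x * z₀⁻¹ = z₀⁻¹ * (z₀ * x) * z₀⁻¹ := by group
          _ = z₀⁻¹ * (x * z₀) * z₀⁻¹ := by rw [h1]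
          _ = z₀⁻¹ * x := by group
      have h2 : z₀ * (u * x) * z₀⁻¹ * (u * x)⁻¹ = z₀ * u * (x * z₀⁻¹) * x⁻¹ * u⁻¹ := by group
      rw [h2, hx']
      have h3 : z₀ * u * (z₀⁻¹ * x) * x⁻¹ * u⁻¹ = (z₀ * u * z₀⁻¹) * u⁻¹ := by group
      rw [h3]
      exact U.mul_mem (hUn.conj_mem u hu z₀) (U.inv_mem hu)
    have hzU : ((z : Q') : G) ∈ U := by
      rw [← hL]
      exact ⟨hzD, hQ'K hzQ'⟩
    apply hz
    have := hUQ'disj _ hzU hzQ'
    exact Subtype.ext (Subtype.ext this)

end abelianquot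

section goodA

theorem exists_maxAb_normalized {T : Type*} [Group T] [Finite T] {p : ℕ} [Fact p.Prime]
    (hT : IsPGroup p T) (V U : Subgroup T) [V.Normal] (hV : IsMulCommutative V)
    (hVU : V ≤ Subgroup.centralizer (U : Set T))
    (hne : ∃ A ∈ maxAbelianSubgroups T, ¬ A ≤ U) :
    ∃ A ∈ maxAbelianSubgroups T, ¬ A ≤ U ∧ V ≤ Subgroup.normalizer (A : Set T) := by
  obtain ⟨A₀, hA₀, hA₀U⟩ := hne
  haveI : Nonempty {A : Subgroup T // A ∈ maxAbelianSubgroups T ∧ ¬ A ≤ U} := ⟨⟨A₀, hA₀, hA₀U⟩⟩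
  obtain ⟨⟨A, hA, hAU⟩, hmax⟩ := Finite.exists_max
    (fun A : {A : Subgroup T // A ∈ maxAbelianSubgroups T ∧ ¬ A ≤ U} => Nat.card ↥(A.1 ⊓ V))
  refine ⟨A, hA, hAU, ?_⟩
  by_contra hnot
  obtain ⟨x, hxV, hxN, hxA⟩ := Cfsg.Agent.S3062.exists_normalizing hT V A hnot
  obtain ⟨Astar, hAstar, hAsN, hlt⟩ := Cfsg.Agent.S3062.replacement V A hV hA x hxV hxN hxA
  by_cases h : Astar ≤ U
  · have h1 : V ≤ Subgroup.centralizer (Astar : Set T) := hVU.trans (Subgroup.centralizer_le h)
    have h2 := Cfsg.Agent.S3062.le_of_le_centralizer V Astar hV hAstar h1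
    exact hnot (h2.trans hAsN)
  · have := hmax ⟨Astar, hAstar, h⟩
    simp only at this
    omega

variable {G : Type u} [Group G] [Finite G] {p : ℕ} [hpf : Fact p.Prime]

theorem exists_maxAbIn_normalized {S U V : Subgroup G} (hS : IsPGroup p S) (hVS : V ≤ S)
    (hSV : S ≤ Subgroup.normalizer (V : Set G)) (hVc : IsMulCommutative V)
    (hVU : V ≤ Subgroup.centralizer (U : Set G)) (hne : ∃ A ∈ maxAbIn S, ¬ A ≤ U) :
    ∃ A ∈ maxAbIn S, ¬ A ≤ U ∧ V ≤ Subgroup.normalizer (A : Set G) := by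
  have hVn : (V.subgroupOf S).Normal := Subgroup.normal_subgroupOf_of_le_normalizer hSV
  have hVc' : IsMulCommutative (V.subgroupOf S) :=
    isMulComm_comap_of_injective _ S.subtype_injective hVc
  have hVU' : V.subgroupOf S ≤ Subgroup.centralizer ((U.subgroupOf S : Subgroup S) : Set S) := by
    intro v hv
    rw [Subgroup.mem_centralizer_iff]
    intro u hu
    have h1 := (Subgroup.mem_centralizer_iff.1 (hVU (Subgroup.mem_subgroupOf.1 hv))) _
      (Subgroup.mem_subgroupOf.1 hu)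
    exact Subtype.ext h1
  have hne' : ∃ A ∈ maxAbelianSubgroups ↥S, ¬ A ≤ U.subgroupOf S := by
    obtain ⟨A, hA, hAU⟩ := hne
    rw [← mem_image_maxAb_iff] at hA
    obtain ⟨A', hA', rfl⟩ := hA
    refine ⟨A', hA', ?_⟩
    intro hle
    apply hAU
    rintro _ ⟨a, ha, rfl⟩
    exact Subgroup.mem_subgroupOf.1 (hle ha)
  obtain ⟨A', hA', hA'U, hVA'⟩ :=
    exists_maxAb_normalized (p := p) hS (V.subgroupOf S) (U.subgroupOf S) hVc' hVU' hne'
  refine ⟨A'.map S.subtype, (mem_image_maxAb_iff S _).1 ⟨A', hA', rfl⟩, ?_, ?_⟩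
  · intro hle
    apply hA'U
    intro a ha
    rw [Subgroup.mem_subgroupOf]
    exact hle ⟨a, ha, rfl⟩
  · apply le_normalizer_of_conj_mem
    rintro v hv _ ⟨a, ha, rfl⟩
    have hv' : (⟨v, hVS hv⟩ : S) ∈ V.subgroupOf S := Subgroup.mem_subgroupOf.2 hv
    have h1 := (Subgroup.mem_normalizer_iff.1 (hVA' hv') a).1 ha
    exact ⟨_, h1, rfl⟩

theorem omegaZ_isMulComm (U : Subgroup G) : IsMulCommutative (omegaZ p U) := by
  rw [isMulComm_iff]
  exact omegaZ_comm U

theorem exists_good_A {S : Sylow p G} {U K : Subgroup G} (hc : Core p G S U K) :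
    ∃ A ∈ maxAbIn (S : Subgroup G), ¬ A ≤ U ∧
      omegaZ p U ≤ Subgroup.normalizer (A : Set G) := by
  have hUn := hc.Un
  have hVn : (omegaZ p U).Normal := omegaZ_normal U
  apply exists_maxAbIn_normalized S.2 ((omegaZ_le U).trans hc.US)
    (by rw [Subgroup.normalizer_eq_top_iff.2 hVn]; exact le_top) (omegaZ_isMulComm U)
  · -- V ≤ C(U)
    intro v hv
    rw [Subgroup.mem_centralizer_iff]
    intro u hu
    exact (mem_zIn.1 (omegaZ_le_zIn U hv)).2 u hu
  · by_contra hcon
    apply hc.hno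
    have hall : ∀ A ∈ maxAbIn (S : Subgroup G), A ≤ U := by
      intro A hA
      by_contra h
      exact hcon ⟨A, hA, h⟩
    have hJ : thompsonSubgroupAOf (S : Subgroup G) ≤ U := by
      rw [thompsonAOf_eq_sSup]
      exact sSup_le hall
    have hJeq := thompsonAOf_eq_of_le hc.US hJ
    have htop : Subgroup.normalizer (thompsonSubgroupAOf (S : Subgroup G) : Set G) = ⊤ := by
      rw [eq_top_iff, ← hJeq, ← Subgroup.normalizer_eq_top_iff.2 hUn]
      exact normalizer_le_normalizer_thompsonAOf U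
    have h1 := hc.cond.2
    rw [htop] at h1
    exact hnpc_top_iff.1 h1

end goodA

section action
variable {G : Type u} [Group G] [Finite G]

/-- the commutative group structure on an abelian subgroup -/
@[reducible] def commGroupOfComm (V : Subgroup G) (h : ∀ a ∈ V, ∀ b ∈ V, a * b = b * a) :
    CommGroup ↥V :=
  { (inferInstance : Group ↥V) with mul_comm := fun a b => Subtype.ext (h a a.2 b b.2) }

theorem conjNormal_eq_one_iff {V : Subgroup G} [V.Normal] {g : G} :
    (MulAut.conjNormal g : MulAut V) = 1 ↔ g ∈ Subgroup.centralizer (V : Set G) := by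
  constructor
  · intro h
    rw [Subgroup.mem_centralizer_iff]
    intro v hv
    have h1 := congrArg (fun α : MulAut V => ((α ⟨v, hv⟩ : V) : G)) h
    simp only [MulAut.conjNormal_apply, MulAut.one_apply] at h1
    calc v * g = (g * v * g⁻¹) * g := by rw [h1]
      _ = g * v := by group
  · intro h
    ext v
    rw [MulAut.conjNormal_apply, MulAut.one_apply]
    have := (Subgroup.mem_centralizer_iff.1 h) v v.2
    rw [← this]; group

theorem isQuad_conjNormal {V A : Subgroup G} [hVn : V.Normal]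
    (hVc : ∀ a ∈ V, ∀ b ∈ V, a * b = b * a) (hAc : ∀ a ∈ A, ∀ b ∈ A, a * b = b * a)
    (hVA : V ≤ Subgroup.normalizer (A : Set G)) {a : G} (ha : a ∈ A) :
    letI := commGroupOfComm V hVc
    IsQuad (MulAut.conjNormal a : MulAut V) := by
  intro v
  apply Subtype.ext
  simp only [Subgroup.coe_mul, MulAut.conjNormal_apply]
  set c := a * (v : G) * a⁻¹ with hc
  have hcV : c ∈ V := hVn.conj_mem _ v.2 a
  set w := c * (v : G)⁻¹ with hw
  have hwV : w ∈ V := V.mul_mem hcV (V.inv_mem v.2)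
  have hwA : w ∈ A := by
    have h1 : (v : G) * a⁻¹ * (v : G)⁻¹ ∈ A :=
      ((Subgroup.mem_normalizer_iff.1 (hVA v.2)) a⁻¹).1 (A.inv_mem ha)
    have h2 : w = a * ((v : G) * a⁻¹ * (v : G)⁻¹) := by rw [hw, hc]; group
    rw [h2]
    exact A.mul_mem ha h1
  have haw : a * w = w * a := hAc a ha w hwA
  have hcwv : c = w * (v : G) := by rw [hw]; group
  have h3 : a * c * a⁻¹ = w * c := by
    calc a * c * a⁻¹ = (a * w) * (v : G) * a⁻¹ := by rw [hcwv]; group
      _ = (w * a) * (v : G) * a⁻¹ := by rw [haw]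
      _ = w * c := by rw [hc]; group
  rw [h3]
  have hvc : (v : G) * c = c * (v : G) := hVc _ v.2 _ hcV
  calc w * c * (v : G) = w * (c * (v : G)) := by group
    _ = w * ((v : G) * c) := by rw [hvc]
    _ = (w * (v : G)) * c := by group
    _ = c * c := by rw [← hcwv]

/-- the offender inequality for an abelian subgroup of largest order -/
theorem offender_ineq {S V A B : Subgroup G} (hA : A ∈ maxAbIn S) (hVS : V ≤ S)
    (hVc : ∀ a ∈ V, ∀ b ∈ V, a * b = b * a) (hBA : B ≤ A) :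
    Nat.card B * Nat.card ↥(V ⊓ Subgroup.centralizer (B : Set G)) ≤
      Nat.card A * Nat.card ↥(V ⊓ Subgroup.centralizer (A : Set G)) := by
  obtain ⟨hAS, hAc, hAmax⟩ := hA
  rw [isMulComm_iff] at hAc
  set CB := V ⊓ Subgroup.centralizer (B : Set G) with hCB
  have hBc : ∀ a ∈ B, ∀ b ∈ B, a * b = b * a := fun a ha b hb => hAc a (hBA ha) b (hBA hb)
  have hBcen : B ≤ Subgroup.centralizer (CB : Set G) := by
    intro b hb
    rw [Subgroup.mem_centralizer_iff]
    intro x hx
    exact ((Subgroup.mem_centralizer_iff.1 hx.2) b hb).symm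
  have hE : IsMulCommutative ↥(B ⊔ CB) := by
    apply Cfsg.Agent.S3062.isMulCommutative_sup B CB
    · intro b hb
      rw [Subgroup.mem_centralizer_iff]
      intro b' hb'
      exact hBc b' hb' b hb
    · intro x hx
      rw [Subgroup.mem_centralizer_iff]
      intro x' hx'
      exact hVc x' hx'.1 x hx.1
    · exact hBcen
  have hES : B ⊔ CB ≤ S := sup_le (hBA.trans hAS) (inf_le_left.trans hVS)
  have h1 := hAmax _ hES hE
  have h2 := Cfsg.Agent.S3062.card_sup_mul_card_inf B CB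
    (hBcen.trans (Subgroup.centralizer_le_normalizer _))
  have h3 : B ⊓ CB ≤ V ⊓ Subgroup.centralizer (A : Set G) := by
    rintro x ⟨hxB, hxV, _⟩
    refine ⟨hxV, ?_⟩
    show x ∈ Subgroup.centralizer (A : Set G)
    rw [Subgroup.mem_centralizer_iff]
    intro a ha
    exact hAc a ha x (hBA hxB)
  have h4 : Nat.card ↥(B ⊓ CB) ≤ Nat.card ↥(V ⊓ Subgroup.centralizer (A : Set G)) :=
    Subgroup.card_le_of_le h3
  rw [← h2]
  exact Nat.mul_le_mul h1 h4

end action

section pullback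
variable {G : Type u} [Group G] [Finite G]

theorem card_ker_inf_mul_card_map {H : Type*} [Group H] (φ : G →* H) (B : Subgroup G) :
    Nat.card ↥(φ.ker ⊓ B) * Nat.card (B.map φ) = Nat.card B := by
  have h3 := Subgroup.relIndex_ker φ (K := B)
  have h5 := card_mul_relIndex_of_le (inf_le_right : φ.ker ⊓ B ≤ B)
  rwa [Subgroup.inf_relIndex_right, h3] at h5

theorem mem_normalizer_of_conj_mem {X : Subgroup G} {g : G} (h : ∀ x ∈ X, g * x * g⁻¹ ∈ X) :
    g ∈ Subgroup.normalizer (X : Set G) := by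
  rw [← cj_eq_self_iff]
  apply Subgroup.eq_of_le_of_card_ge
  · intro x hx
    obtain ⟨x', hx', rfl⟩ := mem_cj'.1 hx
    exact h x' hx'
  · rw [card_cj]

theorem card_fixedSub_map {V : Subgroup G} [hVn : V.Normal]
    (hVc : ∀ a ∈ V, ∀ b ∈ V, a * b = b * a) (B : Subgroup G) :
    letI := commGroupOfComm V hVc
    Nat.card (fixedSub (B.map (MulAut.conjNormal : G →* MulAut ↥V))) =
      Nat.card ↥(V ⊓ Subgroup.centralizer (B : Set G)) := by
  letI := commGroupOfComm V hVc
  have h1 : (fixedSub (B.map (MulAut.conjNormal : G →* MulAut ↥V))).map V.subtype =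
      V ⊓ Subgroup.centralizer (B : Set G) := by
    ext x
    constructor
    · rintro ⟨v, hv, rfl⟩
      refine ⟨v.2, ?_⟩
      show (v : G) ∈ Subgroup.centralizer (B : Set G)
      rw [Subgroup.mem_centralizer_iff]
      intro b hb
      have h2 := hv _ ⟨b, hb, rfl⟩
      have h3 := congrArg Subtype.val h2
      rw [MulAut.conjNormal_apply] at h3
      calc b * (v : G) = (b * (v : G) * b⁻¹) * b := by group
        _ = (v : G) * b := by rw [h3]
    · rintro ⟨hxV, hxC⟩
      refine ⟨⟨x, hxV⟩, ?_, rfl⟩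
      rintro _ ⟨b, hb, rfl⟩
      apply Subtype.ext
      rw [MulAut.conjNormal_apply]
      have := (Subgroup.mem_centralizer_iff.1 hxC) b hb
      show b * x * b⁻¹ = x
      rw [this]; group
  rw [← h1]
  exact (Subgroup.card_map_of_injective V.subtype_injective).symm

end pullback

section final
variable {G : Type u} [Group G] [Finite G] {p : ℕ} [hpf : Fact p.Prime]

theorem core_false {S : Sylow p G} {U K : Subgroup G} (hc : Core p G S U K)
    (h4 : p ≠ 2 ∨ ¬ Involves (Equiv.Perm (Fin 4)) G) : False := by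
  classical
  have hp := hpf.out
  have hUn := hc.Un
  have hKn := hc.Kn
  set V := omegaZ p U with hV
  have hVn : V.Normal := omegaZ_normal U
  have hVc : ∀ a ∈ V, ∀ b ∈ V, a * b = b * a := omegaZ_comm U
  letI : CommGroup ↥V := commGroupOfComm V hVc
  have hVp : IsPGroup p ↥V := hc.Up.to_le (omegaZ_le U)
  have hCV : Subgroup.centralizer (V : Set G) = U := centralizer_omegaZ hc
  set φ : G →* MulAut ↥V := MulAut.conjNormal with hφ
  have hker : ∀ g : G, φ g = 1 ↔ g ∈ U := by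
    intro g
    rw [hφ, conjNormal_eq_one_iff, hCV]
  obtain ⟨A, hA, hAU, hVA⟩ := exists_good_A hc
  have hAS : A ≤ S := hA.1
  have hAc : ∀ a ∈ A, ∀ b ∈ A, a * b = b * a := (isMulComm_iff A).1 hA.2.1
  have hquad : ∀ a ∈ A, IsQuad (φ a) := fun a ha => isQuad_conjNormal hVc hAc hVA ha
  set Y := K.map φ with hY
  have hKK := le_cenQ_self hc
  have hYc : ∀ a ∈ Y, ∀ b ∈ Y, a * b = b * a := by
    rintro _ ⟨k, hk, rfl⟩ _ ⟨l, hl, rfl⟩
    have h1 : k * l * k⁻¹ * l⁻¹ ∈ U := (mem_cenQ.1 (hKK hk)) l hl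
    have h2 := (hker _).2 h1
    rw [map_mul, map_mul, map_mul, map_inv, map_inv] at h2
    calc φ k * φ l = (φ k * φ l * (φ k)⁻¹ * (φ l)⁻¹) * (φ l * φ k) := by group
      _ = φ l * φ k := by rw [h2, one_mul]
  obtain ⟨m, hm, hmc⟩ := hc.cardK
  have hkerU : φ.ker = U := by
    ext g
    rw [MonoidHom.mem_ker]
    exact hker g
  have hYcard : Nat.card Y = m := by
    have h3 := Subgroup.relIndex_ker φ (K := K)
    have h5 := card_mul_relIndex_of_le (inf_le_right : φ.ker ⊓ K ≤ K)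
    rw [Subgroup.inf_relIndex_right, h3, hkerU, inf_of_le_left hc.UK, hm] at h5
    exact Nat.eq_of_mul_eq_mul_left Nat.card_pos h5
  have hαY : ∀ a : G, ∀ y ∈ Y, φ a * y * (φ a)⁻¹ ∈ Y := by
    rintro a _ ⟨k, hk, rfl⟩
    refine ⟨a * k * a⁻¹, hKn.conj_mem k hk a, ?_⟩
    rw [map_mul, map_mul, map_inv]
  have hfaith : ∀ a ∈ A, (∀ y ∈ Y, φ a * y = y * φ a) → a ∈ U := by
    intro a ha hcomm
    apply cenQ_inf_le hc
    refine ⟨mem_cenQ.2 ?_, hAS ha⟩
    intro k hk
    rw [← hker, map_mul, map_mul, map_mul, map_inv, map_inv, hcomm _ ⟨k, hk, rfl⟩]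
    group
  obtain ⟨a₀, ha₀A, ha₀U⟩ := SetLike.not_le_iff_exists.1 hAU
  by_cases hp2 : p = 2
  swap
  · have hYp : (Nat.card Y).Coprime p := by rw [hYcard]; exact hmc
    have := lemmaQ hp2 hVp (φ a₀) (hquad a₀ ha₀A) Y hYc hYp (hαY a₀)
    exact ha₀U (hfaith a₀ ha₀A this)
  · subst hp2
    have hS4 : ¬ Involves (Equiv.Perm (Fin 4)) G := by
      rcases h4 with h | h
      · exact absurd rfl h
      · exact h
    apply hS4
    have h2 : ∀ v : ↥V, v * v = 1 := by
      intro v
      have h3 : (v : G) ^ 2 = 1 := v.2.2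
      apply Subtype.ext
      rw [Subgroup.coe_mul, ← pow_two]
      exact h3
    set Â := A.map φ with hÂ
    have hÂc : ∀ a ∈ Â, ∀ b ∈ Â, a * b = b * a := by
      rintro _ ⟨a, ha, rfl⟩ _ ⟨b, hb, rfl⟩
      rw [← map_mul, ← map_mul, hAc a ha b hb]
    have hÂ2 : ∀ a ∈ Â, a * a = 1 := by
      rintro _ ⟨a, ha, rfl⟩
      exact (hquad a ha).sq_eq_one h2
    have hÂY : ∀ a ∈ Â, ∀ y ∈ Y, a * y * a⁻¹ ∈ Y := by
      rintro _ ⟨a, ha, rfl⟩ y hy
      exact hαY a y hy
    have hÂfaith : ∀ a ∈ Â, (∀ y ∈ Y, a * y = y * a) → a = 1 := by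
      rintro _ ⟨a, ha, rfl⟩ hcomm
      exact (hker a).2 (hfaith a ha hcomm)
    have hÂ1 : Â ≠ ⊥ := by
      intro hbot
      have : φ a₀ ∈ Â := ⟨a₀, ha₀A, rfl⟩
      rw [hbot, Subgroup.mem_bot] at this
      exact ha₀U ((hker a₀).1 this)
    have hYodd : Odd (Nat.card Y) := by
      rw [hYcard]; exact Nat.coprime_two_right.1 hmc
    have hVS : V ≤ S := (omegaZ_le U).trans hc.US
    have hoff : ∀ B : Subgroup (MulAut ↥V), B ≤ Â →
        Nat.card B * Nat.card (fixedSub B) ≤ Nat.card Â * Nat.card (fixedSub Â) := by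
      intro Bh hBh
      set B := A ⊓ Bh.comap φ with hB
      have hBA : B ≤ A := inf_le_left
      have hBmap : B.map φ = Bh := by
        ext β
        constructor
        · rintro ⟨b, hb, rfl⟩
          exact hb.2
        · intro hβ
          obtain ⟨a, ha, rfl⟩ := hBh hβ
          exact ⟨a, ⟨ha, hβ⟩, rfl⟩
      have hkerB : φ.ker ⊓ B = φ.ker ⊓ A := by
        rw [hB, ← inf_assoc, inf_comm φ.ker A, inf_assoc]
        congr 1
        apply inf_of_le_left
        intro g hg
        rw [Subgroup.mem_comap, MonoidHom.mem_ker.1 hg]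
        exact Bh.one_mem
      have h5 := card_ker_inf_mul_card_map φ B
      have h6 := card_ker_inf_mul_card_map φ A
      rw [hBmap, hkerB] at h5
      have h7 := offender_ineq hA hVS hVc hBA
      have h8 := card_fixedSub_map hVc B
      have h9 := card_fixedSub_map hVc A
      rw [hBmap] at h8
      rw [← h8, ← h9, ← h5, ← h6] at h7
      have hpos : 0 < Nat.card ↥(φ.ker ⊓ A) := Nat.card_pos
      have h10 : Nat.card ↥(φ.ker ⊓ A) * (Nat.card Bh * Nat.card (fixedSub Bh)) ≤
          Nat.card ↥(φ.ker ⊓ A) * (Nat.card Â * Nat.card (fixedSub Â)) := by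
        calc Nat.card ↥(φ.ker ⊓ A) * (Nat.card Bh * Nat.card (fixedSub Bh))
            = Nat.card ↥(φ.ker ⊓ A) * Nat.card Bh * Nat.card (fixedSub Bh) := by ring
          _ ≤ Nat.card ↥(φ.ker ⊓ A) * Nat.card Â * Nat.card (fixedSub Â) := h7
          _ = Nat.card ↥(φ.ker ⊓ A) * (Nat.card Â * Nat.card (fixedSub Â)) := by ring
      exact Nat.le_of_mul_le_mul_left h10 hpos
    obtain ⟨X, y, α, hyY, hαÂ, hX4, hyX, hαX, ⟨v₁, hv₁X, hyv₁⟩, ⟨v₂, hv₂X, hαv₂⟩⟩ :=
      lin2 h2 Y Â hYc hYodd hÂc hÂ2 hÂY hÂfaith hÂ1 hoff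
    -- pull back to G
    set X' := X.map V.subtype with hX'
    have hX'4 : Nat.card X' = 4 := by
      rw [hX', Subgroup.card_map_of_injective V.subtype_injective, hX4]
    obtain ⟨k, hk, rfl⟩ := hyY
    obtain ⟨a, ha, rfl⟩ := hαÂ
    obtain ⟨i, j, hkij, ⟨e, he⟩, hcop⟩ := exists_pow_decomp (p := 2) k
    have hiU : k ^ i ∈ U := by
      have hzp : IsPGroup 2 (Subgroup.zpowers (k ^ i)) := isPGroup_zpowers_of_pow_eq_one he
      exact le_of_isPGroup_of_le hc.Up hc.UK hc.cardK hzp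
        (by rw [Subgroup.zpowers_le]; exact K.pow_mem hk i) (Subgroup.mem_zpowers _)
    have hφkj : φ (k ^ j) = φ k := by
      conv_rhs => rw [hkij]
      rw [map_mul, (hker _).2 hiU, one_mul]
    have hconj : ∀ (g : G) (v : ↥V), g * (v : G) * g⁻¹ = ((φ g v : ↥V) : G) := by
      intro g v
      rw [hφ, MulAut.conjNormal_apply]
    refine involves_S4_of_four X' hX'4 (k ^ j) a ?_ ?_ (Nat.coprime_two_right.1 hcop) ?_ ?_ ?_
    · apply mem_normalizer_of_conj_mem
      rintro _ ⟨v, hv, rfl⟩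
      refine ⟨φ (k ^ j) v, ?_, (hconj _ v).symm⟩
      rw [hφkj]
      exact hyX v hv
    · apply mem_normalizer_of_conj_mem
      rintro _ ⟨v, hv, rfl⟩
      exact ⟨φ a v, hαX v hv, (hconj _ v).symm⟩
    · obtain ⟨e', he'⟩ := S.2 ⟨a, hAS ha⟩
      exact ⟨e', by simpa using congrArg Subtype.val he'⟩
    · refine ⟨(v₁ : G), ⟨v₁, hv₁X, rfl⟩, ?_⟩
      rw [hconj, hφkj]
      intro h
      exact hyv₁ (Subtype.ext h)
    · refine ⟨(v₂ : G), ⟨v₂, hv₂X, rfl⟩, ?_⟩
      rw [hconj]
      intro h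
      exact hαv₂ (Subtype.ext h)

end final

section induction
variable {p : ℕ} [hpf : Fact p.Prime]

/-- Thompson's normal `p`-complement theorem for the abelian-version `J`. -/
theorem thompson_npc : ∀ n : ℕ, ∀ (G : Type u) [Group G] [Finite G], Nat.card G = n →
    (p ≠ 2 ∨ ¬ Involves (Equiv.Perm (Fin 4)) G) →
    ∀ S : Sylow p G, Cond p (S : Subgroup G) → HasNormalPComplement p G := by
  intro n
  induction n using Nat.strong_induction_on with
  | _ n ih =>
    intro G _ _ hn h4 S hS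
    by_contra hno
    have ihG : IH.{u} p (Nat.card G) := by
      intro X _ _ hlt h4' T hT
      exact ih (Nat.card X) (hn ▸ hlt) X rfl h4' T hT
    have hall : ∀ S' : Sylow p G, Cond p (S' : Subgroup G) := by
      intro S'
      obtain ⟨g, hg⟩ := sylow_exists_cj S S'
      rw [← hg]
      exact cond_cj g hS
    obtain ⟨U, K, hc⟩ := exists_core ihG h4 hall hno S
    exact core_false hc h4

end induction
end Cfsg.Agent.Lib.Helper51.TNPC
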