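import Cfsg.Agent.Lib.Helper33.AGInduction
import Cfsg.Agent.Lib.Helper33.SecBasic
import Cfsg.Agent.Lib.Helper32.RelSylow
import Cfsg.Agent.Lib.Helper68.PNilp
import Cfsg.Agent.Lib.Helper10.Card
import Cfsg.Agent.Lib.Helper91.Matsuyama
import Cfsg.Agent.Lib.Helper51.TNPC2
import Cfsg.Agent.Lib.Helper47.Conj
import Cfsg.Agent.Lib.Helper54.ZJChainTools

set_option autoImplicit false
set_option linter.style.haveILetI false
set_option linter.unusedSectionVars false
open Cfsg

/-!
# Fusion modulo a strongly closed subgroup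

For `D` strongly closed in the Sylow `p`-subgroup `P` of `G`:
* `good_all`: `N_G(D)` controls `G`-fusion in `P` modulo `D` (every conjugation between subsets
  of `P` agrees modulo `D` with conjugation by an element of `N_G(D)`), proved through the
  Alperin--Goldschmidt induction principle `Helper33.ag_induction`;
* `centralizes_of_le`: if `N_G(U)` has a normal `p`-complement for all `U ≤ D` with
  `C_D(U) ≤ U`, then `p'`-elements normalizing a subgroup of `D` centralize it;
* `frobCond_of_hyp`: under the same hypothesis Frobenius' condition holds in `G`.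
-/

namespace Cfsg.Agent.Lib.Helper51.FS

open Cfsg.Agent.Lib.Helper33 Cfsg.Agent.Lib.Helper51 Cfsg.Agent.Lib.Helper51.TNPC

variable {G : Type*} [Group G]

/-- `g` acts on `A` as an element of `N_G(D)` does, modulo `D` -/
def Good (D : Subgroup G) (A : Set G) (g : G) : Prop :=
  ∃ n ∈ Subgroup.normalizer (D : Set G), ∀ a ∈ A, (n⁻¹ * a * n)⁻¹ * (g⁻¹ * a * g) ∈ D

theorem good_mono {D : Subgroup G} {A B : Set G} {g : G} (h : Good D A g) (hBA : B ⊆ A) :
    Good D B g := by
  obtain ⟨n, hn, h⟩ := h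
  exact ⟨n, hn, fun a ha => h a (hBA ha)⟩

theorem good_of_centralizer {D : Subgroup G} {A : Set G} {c : G}
    (hc : c ∈ Subgroup.centralizer A) : Good D A c := by
  refine ⟨1, Subgroup.one_mem _, ?_⟩
  intro a ha
  have h1 := Subgroup.mem_centralizer_iff.1 hc a ha
  have h2 : (1⁻¹ * a * 1)⁻¹ * (c⁻¹ * a * c) = 1 := by
    rw [mul_assoc c⁻¹, h1]; group
  rw [h2]; exact D.one_mem

theorem good_trans {D : Subgroup G} {A : Set G} {g h : G} (h1 : Good D A g)
    (h2 : Good D (rc g A) h) : Good D A (g * h) := by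
  obtain ⟨n₁, hn₁, h1⟩ := h1
  obtain ⟨n₂, hn₂, h2⟩ := h2
  refine ⟨n₁ * n₂, Subgroup.mul_mem _ hn₁ hn₂, ?_⟩
  intro a ha
  have e1 := h1 a ha
  have e2 := h2 (g⁻¹ * a * g) (conj_mem_rc ha)
  -- conjugate e1 by n₂
  have hn₂' : n₂⁻¹ ∈ Subgroup.normalizer (D : Set G) := Subgroup.inv_mem _ hn₂
  have e3 : n₂⁻¹ * ((n₁⁻¹ * a * n₁)⁻¹ * (g⁻¹ * a * g)) * n₂⁻¹⁻¹ ∈ D :=
    (Subgroup.mem_normalizer_iff.1 hn₂' _).1 e1
  have e4 := D.mul_mem e3 e2
  have e5 : n₂⁻¹ * ((n₁⁻¹ * a * n₁)⁻¹ * (g⁻¹ * a * g)) * n₂⁻¹⁻¹ *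
      ((n₂⁻¹ * (g⁻¹ * a * g) * n₂)⁻¹ * (h⁻¹ * (g⁻¹ * a * g) * h)) =
      ((n₁ * n₂)⁻¹ * a * (n₁ * n₂))⁻¹ * ((g * h)⁻¹ * a * (g * h)) := by group
  rw [e5] at e4
  exact e4

section sc

variable [Finite G] {p : ℕ} [Fact p.Prime] (P : Sylow p G) {D : Subgroup G}

theorem sc_le_normalizer (hD : IsStronglyClosed D (P : Subgroup G)) :
    (P : Subgroup G) ≤ Subgroup.normalizer (D : Set G) := by
  intro s hs
  apply mem_normalizer_of_conj_mem
  intro d hd
  exact hD.2 d hd s (P.1.mul_mem (P.1.mul_mem hs (hD.1 hd)) (P.1.inv_mem hs))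

theorem sc_normalizer_inf (hD : IsStronglyClosed D (P : Subgroup G)) {U : Subgroup G}
    (hU : U ≤ (P : Subgroup G)) :
    Subgroup.normalizer (U : Set G) ≤ Subgroup.normalizer ((U ⊓ D : Subgroup G) : Set G) := by
  intro x hx
  apply mem_normalizer_of_conj_mem
  intro v hv
  have h1 : x * v * x⁻¹ ∈ U := (Subgroup.mem_normalizer_iff.1 hx v).1 hv.1
  exact ⟨h1, hD.2 v hv.2 x (hU h1)⟩

open Cfsg.Agent.Lib.Helper47 in
/-- the step of the Alperin--Goldschmidt induction -/
theorem good_step (hD : IsStronglyClosed D (P : Subgroup G)) (U : Subgroup G)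
    (hU : U ∈ agFamily P) (x : G) (hx : x ∈ Subgroup.normalizer (U : Set G))
    (IH : ∀ (A : Set G) (g : G), A ⊆ (P : Subgroup G) → rc g A ⊆ (P : Subgroup G) →
      Nat.card U < Nat.card (Subgroup.closure A) → Good D A g) :
    Good D (U : Set G) x := by
  obtain ⟨hUP, hfn, -, -⟩ := hU
  have hPD := sc_le_normalizer P hD
  by_cases hDU : D ≤ U
  · refine ⟨x, ?_, fun a _ => by rw [inv_mul_cancel]; exact D.one_mem⟩
    have := sc_normalizer_inf P hD hUP hx
    rwa [inf_eq_right.2 hDU] at this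
  · -- `N_D(U)` is not contained in `U`
    have hR0U : ¬ (D ⊓ Subgroup.normalizer (U : Set G)) ≤ U := by
      intro hle
      have hUW : U < U ⊔ D := by
        refine lt_of_le_of_ne le_sup_left ?_
        intro h
        apply hDU
        rw [h]; exact le_sup_right
      have hWp : IsPGroup p ↥(U ⊔ D) := P.2.to_le (sup_le hUP hD.1)
      have h1 := Cfsg.Agent.Lib.Helper91.lt_normalizer_inf_of_isPGroup hWp hUW
      obtain ⟨y, hy, hyU⟩ := SetLike.exists_of_lt h1
      have hy2 : y ∈ ((U ⊔ D : Subgroup G) : Set G) := hy.2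
      rw [← Cfsg.Agent.Lib.Helper10.mul_set_eq_sup_of_le_normalizer (hUP.trans hPD)] at hy2
      obtain ⟨u, hu, d, hd, rfl⟩ := hy2
      have hu' : u ∈ U := hu
      have hd' : d ∈ D := hd
      have hdN : d ∈ Subgroup.normalizer (U : Set G) := by
        have h2 : u⁻¹ * (u * d) ∈ Subgroup.normalizer (U : Set G) :=
          Subgroup.mul_mem _ (Subgroup.inv_mem _ (Subgroup.le_normalizer hu')) hy.1
        rwa [inv_mul_cancel_left] at h2
      exact hyU (U.mul_mem hu' (hle ⟨hd', hdN⟩))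
    -- the kernel of the action on `U / (U ∩ D)`
    obtain ⟨L, hL⟩ : ∃ L : Subgroup G,
        L = commStab U (U ⊓ D) ⊓ Subgroup.normalizer (U : Set G) := ⟨_, rfl⟩
    have hLM : L ≤ Subgroup.normalizer (U : Set G) := by rw [hL]; exact inf_le_right
    have hML : Subgroup.normalizer (U : Set G) ≤ Subgroup.normalizer (L : Set G) := by
      intro h hh
      apply mem_normalizer_of_conj_mem
      intro l hl
      rw [hL] at hl ⊢
      refine ⟨conj_mem_commStab hh (sc_normalizer_inf P hD hUP hh) hl.1, ?_⟩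
      exact Subgroup.mul_mem _ (Subgroup.mul_mem _ hh hl.2) (Subgroup.inv_mem _ hh)
    have hR0L : D ⊓ Subgroup.normalizer (U : Set G) ≤ L := by
      intro r hr
      rw [hL]
      refine ⟨⟨sc_normalizer_inf P hD hUP hr.2, ?_⟩, hr.2⟩
      intro u hu
      rw [commutatorElement_def]
      constructor
      · have h1 : r * u⁻¹ * r⁻¹ ∈ U :=
          (Subgroup.mem_normalizer_iff.1 hr.2 _).1 (U.inv_mem hu)
        have h2 : u * r * u⁻¹ * r⁻¹ = u * (r * u⁻¹ * r⁻¹) := by group
        rw [h2]; exact U.mul_mem hu h1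
      · have h1 : u * r * u⁻¹ ∈ D :=
          (Subgroup.mem_normalizer_iff.1 (hPD (hUP hu)) _).1 hr.1
        exact D.mul_mem h1 (D.inv_mem hr.1)
    have hLgood : ∀ l ∈ L, Good D (U : Set G) l := by
      intro l hl
      refine ⟨1, Subgroup.one_mem _, ?_⟩
      intro a ha
      rw [hL] at hl
      have h1 := (Subgroup.inv_mem _ hl.1).2 a⁻¹ (U.inv_mem ha)
      rw [commutatorElement_def] at h1
      have h2 : (1⁻¹ * a * 1)⁻¹ * (l⁻¹ * a * l) = a⁻¹ * l⁻¹ * a⁻¹⁻¹ * l⁻¹⁻¹ := by group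
      rw [h2]; exact h1.2
    -- Frattini
    have hRi : ¬ p ∣ ((P : Subgroup G) ⊓ L).relIndex L := by
      have h1 := Cfsg.Agent.Lib.Helper32.not_dvd_relIndex_inf_of_relSylow
        (P := (P : Subgroup G) ⊓ Subgroup.normalizer (U : Set G))
        (K := Subgroup.normalizer (U : Set G)) (R := L) inf_le_right hfn hLM hML
      have h2 : ((P : Subgroup G) ⊓ Subgroup.normalizer (U : Set G)) ⊓ L = (P : Subgroup G) ⊓ L := by
        rw [inf_assoc, inf_eq_right.2 hLM]
      rwa [h2] at h1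
    obtain ⟨l, hl, m, hm, rfl⟩ := frattini_gen hML hLM inf_le_right (P.2.to_le inf_le_left) hRi hx
    apply good_trans (hLgood l hl)
    have hrc : rc l (U : Set G) = (U : Set G) := by
      rw [rc_coe, cj_eq_self_iff.2 (Subgroup.inv_mem _ (hLM hl))]
    rw [hrc]
    -- `m` normalizes the larger subgroup `U (P ∩ L)`
    have hQP : U ⊔ ((P : Subgroup G) ⊓ L) ≤ (P : Subgroup G) := sup_le hUP inf_le_left
    have hUQ : U < U ⊔ ((P : Subgroup G) ⊓ L) := by
      refine lt_of_le_of_ne le_sup_left ?_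
      intro h
      have h4 : (P : Subgroup G) ⊓ L ≤ U := by
        rw [h]; exact le_sup_right
      exact hR0U (le_trans (le_inf (inf_le_left.trans hD.1) hR0L) h4)
    have hmQ : cj m⁻¹ (U ⊔ ((P : Subgroup G) ⊓ L)) = U ⊔ ((P : Subgroup G) ⊓ L) := by
      rw [cj_sup, cj_eq_self_iff.2 (Subgroup.inv_mem _ hm.1),
        cj_eq_self_iff.2 (Subgroup.inv_mem _ hm.2)]
    have h3 := IH ((U ⊔ ((P : Subgroup G) ⊓ L) : Subgroup G) : Set G) m hQP
      (by rw [rc_coe, hmQ]; exact hQP)
      (by rw [Subgroup.closure_eq]; exact TNPC.card_lt_of_lt hUQ)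
    exact good_mono h3 (le_sup_left : U ≤ U ⊔ ((P : Subgroup G) ⊓ L))

/-- `N_G(D)` controls `G`-fusion in `P` modulo the strongly closed subgroup `D`. -/
theorem good_all (hD : IsStronglyClosed D (P : Subgroup G)) (A : Set G) (g : G)
    (hA : A ⊆ (P : Subgroup G)) (hAg : rc g A ⊆ (P : Subgroup G)) : Good D A g :=
  ag_induction P (Good D) good_mono good_trans good_of_centralizer
    (fun U hU x hx IH => good_step P hD U hU x hx IH) A g hA hAg

/-- the hypothesis of the criterion -/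
def Hyp (p : ℕ) (D : Subgroup G) : Prop :=
  ∀ U : Subgroup G, U ≤ D → D ⊓ Subgroup.centralizer (U : Set G) ≤ U →
    HasNormalPComplement p ↥(Subgroup.normalizer (U : Set G))

/-- `p'`-elements normalizing a fully normalized subgroup of `D` centralize it -/
theorem centralizes_of_fn (hD : IsStronglyClosed D (P : Subgroup G)) (hyp : Hyp p D)
    (V : Subgroup G) (hV : V ≤ D) (hfn : FN p (P : Subgroup G) V) (x : G)
    (hx : x ∈ Subgroup.normalizer (V : Set G)) (hxo : (orderOf x).Coprime p) :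
    x ∈ Subgroup.centralizer (V : Set G) := by
  have hNC : Subgroup.normalizer (V : Set G) ≤
      Subgroup.normalizer ((Subgroup.centralizer (V : Set G) : Subgroup G) : Set G) := by
    intro n hn
    rw [← cj_eq_self_iff, ← centralizer_cj, cj_eq_self_iff.2 hn]
  obtain ⟨c₁, hc₁, y, hy, rfl⟩ := frattini_gen hNC (Subgroup.centralizer_le_normalizer _)
    (inf_le_right : (P : Subgroup G) ⊓ Subgroup.centralizer (V : Set G) ≤ _)
    (P.2.to_le inf_le_left) (fn_centralizer P hfn) hx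
  -- `y` normalizes `U = V C_D(V)`
  have hy2 : y ∈ Subgroup.normalizer ((D ⊓ Subgroup.centralizer (V : Set G) : Subgroup G) : Set G) := by
    have h1 := sc_normalizer_inf P hD
      (inf_le_left : (P : Subgroup G) ⊓ Subgroup.centralizer (V : Set G) ≤ _) hy.2
    have h2 : ((P : Subgroup G) ⊓ Subgroup.centralizer (V : Set G)) ⊓ D =
        D ⊓ Subgroup.centralizer (V : Set G) := by
      rw [inf_comm, ← inf_assoc, inf_eq_left.2 hD.1]
    rwa [h2] at h1
  have hyU : y ∈ Subgroup.normalizer ((V ⊔ (D ⊓ Subgroup.centralizer (V : Set G)) : Subgroup G) : Set G) := by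
    rw [← cj_eq_self_iff, cj_sup, cj_eq_self_iff.2 hy.1, cj_eq_self_iff.2 hy2]
  have hUD : V ⊔ (D ⊓ Subgroup.centralizer (V : Set G)) ≤ D := sup_le hV inf_le_left
  have hUc : D ⊓ Subgroup.centralizer ((V ⊔ (D ⊓ Subgroup.centralizer (V : Set G)) : Subgroup G) : Set G) ≤
      V ⊔ (D ⊓ Subgroup.centralizer (V : Set G)) := by
    refine le_trans (inf_le_inf_left D ?_) le_sup_right
    exact Subgroup.centralizer_le (le_sup_left : V ≤ V ⊔ (D ⊓ Subgroup.centralizer (V : Set G)))
  have hnpc := hyp _ hUD hUc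
  obtain ⟨i, j, hdec, ⟨e, he⟩, hcop⟩ := exists_pow_decomp (p := p) y
  have hyj : y ^ j ∈ Subgroup.centralizer (V : Set G) := by
    have h1 := p'_centralizes _ _ hnpc Subgroup.le_normalizer
      (P.2.to_le (hUD.trans hD.1)) le_rfl (Subgroup.pow_mem _ hyU j) hcop
    exact Subgroup.centralizer_le
      (le_sup_left : V ≤ V ⊔ (D ⊓ Subgroup.centralizer (V : Set G))) h1
  -- pass to `N(V) / C(V)`
  have hyN : y ∈ Subgroup.normalizer (V : Set G) := hy.1
  have hcN : c₁ ∈ Subgroup.normalizer (V : Set G) := Subgroup.centralizer_le_normalizer _ hc₁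
  have hπ1 : ∀ (z : G) (hz : z ∈ Subgroup.normalizer (V : Set G)),
      z ∈ Subgroup.centralizer (V : Set G) →
      QuotientGroup.mk' ((Subgroup.centralizer (V : Set G)).subgroupOf
        (Subgroup.normalizer (V : Set G))) ⟨z, hz⟩ = 1 := by
    intro z hz hzc
    rw [QuotientGroup.mk'_apply, QuotientGroup.eq_one_iff]
    exact hzc
  have hxeq : (⟨c₁ * y, hx⟩ : ↥(Subgroup.normalizer (V : Set G))) =
      ⟨c₁, hcN⟩ * (⟨y, hyN⟩ ^ i * ⟨y, hyN⟩ ^ j) := by
    apply Subtype.ext
    simp only [Subgroup.coe_mul, Subgroup.coe_pow]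
    rw [← hdec]
  have h1 : QuotientGroup.mk' ((Subgroup.centralizer (V : Set G)).subgroupOf
      (Subgroup.normalizer (V : Set G))) ⟨c₁ * y, hx⟩ =
      QuotientGroup.mk' ((Subgroup.centralizer (V : Set G)).subgroupOf
      (Subgroup.normalizer (V : Set G))) (⟨y, hyN⟩ ^ i) := by
    rw [hxeq, map_mul, map_mul, hπ1 c₁ hcN hc₁, one_mul]
    have : (⟨y, hyN⟩ : ↥(Subgroup.normalizer (V : Set G))) ^ j = ⟨y ^ j, Subgroup.pow_mem _ hyN j⟩ := by
      apply Subtype.ext; simp
    rw [this, hπ1 _ _ hyj, mul_one]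
  have h2 : (QuotientGroup.mk' ((Subgroup.centralizer (V : Set G)).subgroupOf
      (Subgroup.normalizer (V : Set G))) ⟨c₁ * y, hx⟩) ^ (p ^ e) = 1 := by
    rw [h1, ← map_pow]
    have : ((⟨y, hyN⟩ : ↥(Subgroup.normalizer (V : Set G))) ^ i) ^ (p ^ e) = 1 := by
      apply Subtype.ext; simp only [Subgroup.coe_pow, Subgroup.coe_one]; exact he
    rw [this, map_one]
  have h3 : orderOf (QuotientGroup.mk' ((Subgroup.centralizer (V : Set G)).subgroupOf
      (Subgroup.normalizer (V : Set G))) ⟨c₁ * y, hx⟩) ∣ p ^ e := orderOf_dvd_of_pow_eq_one h2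
  have h4 : orderOf (QuotientGroup.mk' ((Subgroup.centralizer (V : Set G)).subgroupOf
      (Subgroup.normalizer (V : Set G))) ⟨c₁ * y, hx⟩) ∣ orderOf (c₁ * y) := by
    have := orderOf_map_dvd (QuotientGroup.mk' ((Subgroup.centralizer (V : Set G)).subgroupOf
      (Subgroup.normalizer (V : Set G)))) (⟨c₁ * y, hx⟩ : ↥(Subgroup.normalizer (V : Set G)))
    rwa [Subgroup.orderOf_mk] at this
  have h5 : orderOf (QuotientGroup.mk' ((Subgroup.centralizer (V : Set G)).subgroupOf
      (Subgroup.normalizer (V : Set G))) ⟨c₁ * y, hx⟩) = 1 :=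
    Nat.Coprime.eq_one_of_dvd (Nat.Coprime.coprime_dvd_left h4 (Nat.Coprime.pow_right e hxo)) h3
  rw [orderOf_eq_one_iff, QuotientGroup.mk'_apply, QuotientGroup.eq_one_iff] at h5
  exact h5

/-- `p'`-elements normalizing a subgroup of `D` centralize it -/
theorem centralizes_of_le (hD : IsStronglyClosed D (P : Subgroup G)) (hyp : Hyp p D)
    (V : Subgroup G) (hV : V ≤ D) (x : G)
    (hx : x ∈ Subgroup.normalizer (V : Set G)) (hxo : (orderOf x).Coprime p) :
    x ∈ Subgroup.centralizer (V : Set G) := by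
  obtain ⟨c, hcVP, hfn, -⟩ := exists_fn_conj P V (hV.trans hD.1)
  have hcVD : cj c V ≤ D := by
    intro w hw
    obtain ⟨v, hv, rfl⟩ := mem_cj'.1 hw
    exact hD.2 v (hV hv) c (hcVP hw)
  have hx' : c * x * c⁻¹ ∈ Subgroup.normalizer ((cj c V : Subgroup G) : Set G) := by
    rw [normalizer_cj]; exact conj_mem_cj hx
  have h1 := centralizes_of_fn P hD hyp (cj c V) hcVD hfn (c * x * c⁻¹) hx'
    (by rw [orderOf_conj']; exact hxo)
  rw [centralizer_cj, conj_mem_cj_iff] at h1
  exact h1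

open Cfsg.Agent.Lib.Helper47 in
/-- the main step: a `p'`-element normalizing `Q ≤ P` centralizes `Q` -/
theorem centralizes_of_le_sylow (hD : IsStronglyClosed D (P : Subgroup G)) (hyp : Hyp p D)
    (Q : Subgroup G) (hQP : Q ≤ (P : Subgroup G)) (g : G)
    (hg : g ∈ Subgroup.normalizer (Q : Set G)) (hgo : (orderOf g).Coprime p) :
    g ∈ Subgroup.centralizer (Q : Set G) := by
  have hQp : IsPGroup p Q := P.2.to_le hQP
  have hPD := sc_le_normalizer P hD
  have hQN : Q ≤ Subgroup.normalizer (D : Set G) := hQP.trans hPD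
  -- `g` centralizes `Q ∩ D`
  have hgV : g ∈ Subgroup.centralizer ((Q ⊓ D : Subgroup G) : Set G) :=
    centralizes_of_le P hD hyp (Q ⊓ D) inf_le_right g (sc_normalizer_inf P hD hQP hg) hgo
  -- fusion modulo `D`
  have hginv : g⁻¹ ∈ Subgroup.normalizer (Q : Set G) := Subgroup.inv_mem _ hg
  obtain ⟨n, hn, hgood⟩ := good_all P hD (Q : Set G) g⁻¹ hQP (by
    rw [rc_coe, inv_inv, cj_eq_self_iff.2 hg]; exact hQP)
  -- the quotient `N_G(D) / D`
  have hDn : (D.subgroupOf (Subgroup.normalizer (D : Set G))).Normal :=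
    Subgroup.normal_in_normalizer
  have hNnpc : HasNormalPComplement p ↥(Subgroup.normalizer (D : Set G)) :=
    hyp D le_rfl inf_le_left
  have hqnpc : HasNormalPComplement p (↥(Subgroup.normalizer (D : Set G)) ⧸
      D.subgroupOf (Subgroup.normalizer (D : Set G))) :=
    hnpc_of_surjective (QuotientGroup.mk' _) (QuotientGroup.mk'_surjective _) hNnpc
  obtain ⟨φ, hφ⟩ : ∃ φ : ↥Q →* (↥(Subgroup.normalizer (D : Set G)) ⧸
      D.subgroupOf (Subgroup.normalizer (D : Set G))),
      φ = (QuotientGroup.mk' (D.subgroupOf (Subgroup.normalizer (D : Set G)))).comp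
        (Subgroup.inclusion hQN) := ⟨_, rfl⟩
  obtain ⟨t, ht⟩ : ∃ t : ↥(Subgroup.normalizer (D : Set G)) ⧸
      D.subgroupOf (Subgroup.normalizer (D : Set G)),
      t = QuotientGroup.mk' (D.subgroupOf (Subgroup.normalizer (D : Set G))) ⟨n, hn⟩ := ⟨_, rfl⟩
  have hτval : ∀ a : ↥Q, ((conjEquiv Q g hg a : ↥Q) : G) = g * (a : G) * g⁻¹ := fun a => rfl
  have key : ∀ a : ↥Q, φ (conjEquiv Q g hg a) = t⁻¹ * φ a * t := by
    intro a
    have h1 := hgood (a : G) a.2
    rw [inv_inv] at h1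
    rw [hφ, ht]
    simp only [MonoidHom.comp_apply]
    rw [← map_inv, ← map_mul, ← map_mul]
    symm
    rw [QuotientGroup.mk'_apply, QuotientGroup.mk'_apply, QuotientGroup.eq,
      Subgroup.mem_subgroupOf]
    simpa using h1
  have hτpow : ∀ (k : ℕ) (a : ↥Q), ((((conjEquiv Q g hg) ^ k) a : ↥Q) : G) =
      g ^ k * (a : G) * (g ^ k)⁻¹ := by
    intro k
    induction k with
    | zero => intro a; simp
    | succ k ih =>
      intro a
      rw [pow_succ', MulAut.mul_apply, hτval, ih]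
      rw [pow_succ']; group
  have keypow : ∀ (k : ℕ) (a : ↥Q), φ (((conjEquiv Q g hg) ^ k) a) = (t ^ k)⁻¹ * φ a * t ^ k := by
    intro k
    induction k with
    | zero => intro a; simp
    | succ k ih =>
      intro a
      rw [pow_succ', MulAut.mul_apply, key, ih, pow_succ]
      group
  -- `t ^ m` centralizes the image of `Q`
  have htm : ∀ a : ↥Q, φ a * t ^ (orderOf g) = t ^ (orderOf g) * φ a := by
    intro a
    have h1 := keypow (orderOf g) a
    have h2 : ((conjEquiv Q g hg) ^ (orderOf g)) a = a := by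
      apply Subtype.ext
      rw [hτpow, pow_orderOf_eq_one]; simp
    rw [h2] at h1
    calc φ a * t ^ (orderOf g) = ((t ^ (orderOf g))⁻¹ * φ a * t ^ (orderOf g)) * t ^ (orderOf g) := by
          rw [← h1]
      _ = t ^ (orderOf g) * φ a := by
          rw [← h1]
          have := h1
          calc φ a * t ^ orderOf g = t ^ orderOf g * ((t ^ orderOf g)⁻¹ * φ a * t ^ orderOf g) := by
                group
            _ = t ^ orderOf g * φ a := by rw [← h1]
  -- `t` normalizes the image of `Q`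
  have htN : t ∈ Subgroup.normalizer ((φ.range : Subgroup _) : Set _) := by
    have : t⁻¹ ∈ Subgroup.normalizer ((φ.range : Subgroup _) : Set _) := by
      apply mem_normalizer_of_conj_mem
      rintro _ ⟨a, rfl⟩
      rw [inv_inv, ← key]
      exact ⟨_, rfl⟩
    simpa using Subgroup.inv_mem _ this
  have hrp : IsPGroup p ↥φ.range := hQp.of_surjective φ.rangeRestrict φ.rangeRestrict_surjective
  obtain ⟨i, j, hdec, ⟨e, he⟩, hcop⟩ := exists_pow_decomp (p := p) t
  have htj : t ^ j ∈ Subgroup.centralizer ((φ.range : Subgroup _) : Set _) :=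
    p'_centralizes _ _ (hnpc_subgroup _ hqnpc) Subgroup.le_normalizer hrp le_rfl
      (Subgroup.pow_mem _ htN j) hcop
  have htmC : t ^ (orderOf g) ∈ Subgroup.centralizer ((φ.range : Subgroup _) : Set _) := by
    rw [Subgroup.mem_centralizer_iff]
    rintro _ ⟨a, rfl⟩
    exact htm a
  have hti : t ^ i ∈ Subgroup.centralizer ((φ.range : Subgroup _) : Set _) := by
    have h1 : (t ^ i) ^ (orderOf g) ∈ Subgroup.centralizer ((φ.range : Subgroup _) : Set _) := by
      have h2 : (t ^ i) ^ (orderOf g) = t ^ (orderOf g) * ((t ^ j) ^ (orderOf g))⁻¹ := by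
        have h3 : t ^ (orderOf g) = (t ^ i) ^ (orderOf g) * (t ^ j) ^ (orderOf g) := by
          conv_lhs => rw [hdec]
          exact ((Commute.pow_pow (Commute.refl t) i j).mul_pow _)
        rw [h3]; group
      rw [h2]
      exact Subgroup.mul_mem _ htmC (Subgroup.inv_mem _ (Subgroup.pow_mem _ htj _))
    have h4 : (orderOf g).Coprime (orderOf (t ^ i)) := by
      have h5 : orderOf (t ^ i) ∣ p ^ e := orderOf_dvd_of_pow_eq_one he
      exact Nat.Coprime.coprime_dvd_right h5 (Nat.Coprime.pow_right e hgo)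
    obtain ⟨k, hk⟩ := exists_pow_eq_self_of_coprime h4
    rw [← hk]
    exact Subgroup.pow_mem _ h1 k
  have htC : t ∈ Subgroup.centralizer ((φ.range : Subgroup _) : Set _) := by
    rw [hdec]; exact Subgroup.mul_mem _ hti htj
  -- hence `g` acts trivially on `Q / (Q ∩ D)`
  have hfix : ∀ a : ↥Q, φ (conjEquiv Q g hg a) = φ a := by
    intro a
    rw [key]
    have := Subgroup.mem_centralizer_iff.1 htC (φ a) ⟨a, rfl⟩
    rw [mul_assoc, this, inv_mul_cancel_left]
  apply Cfsg.Agent.Lib.Helper54.mem_centralizer_of_stab hQp (inf_le_left : Q ⊓ D ≤ Q) hgo hgV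
  intro a ha
  refine ⟨Q.mul_mem ((Subgroup.mem_normalizer_iff.1 hg a).1 ha) (Q.inv_mem ha), ?_⟩
  have h1 := hfix ⟨a, ha⟩
  rw [hφ] at h1
  simp only [MonoidHom.comp_apply] at h1
  rw [QuotientGroup.mk'_apply, QuotientGroup.mk'_apply, QuotientGroup.eq,
    Subgroup.mem_subgroupOf] at h1
  have h2 : (g * a * g⁻¹)⁻¹ * a ∈ D := by simpa using h1
  have h3 : a * ((g * a * g⁻¹)⁻¹ * a)⁻¹ * a⁻¹ ∈ D :=
    (Subgroup.mem_normalizer_iff.1 (hQN ha) _).1 (D.inv_mem h2)
  have h4 : a * ((g * a * g⁻¹)⁻¹ * a)⁻¹ * a⁻¹ = g * a * g⁻¹ * a⁻¹ := by group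
  rw [h4] at h3
  exact h3

/-- Frobenius' condition from the hypothesis on the `D`-centric subgroups of `D` -/
theorem frobCond_of_hyp (hD : IsStronglyClosed D (P : Subgroup G)) (hyp : Hyp p D) :
    Cfsg.Agent.Lib.Helper2.FrobCond p G := by
  intro Q hQ g hg hgo
  obtain ⟨P', hP'⟩ := hQ.exists_le_sylow
  obtain ⟨h, hh⟩ := sylow_exists_cj P' P
  have hQP : cj h Q ≤ (P : Subgroup G) := by rw [← hh]; exact cj_mono hP'
  have hg' : h * g * h⁻¹ ∈ Subgroup.normalizer ((cj h Q : Subgroup G) : Set G) := by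
    rw [normalizer_cj]; exact conj_mem_cj hg
  have h1 := centralizes_of_le_sylow P hD hyp (cj h Q) hQP (h * g * h⁻¹) hg'
    (by rw [orderOf_conj']; exact hgo)
  rw [centralizer_cj, conj_mem_cj_iff] at h1
  exact h1

end sc

end Cfsg.Agent.Lib.Helper51.FS
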