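import Mathlib
import Cfsg.Prelude
import Cfsg.Agent.Lib.Helper20.QD

/-! MetaSS-M2 (for helper87's S5287): two quasi-dihedral groups of the same order are isomorphic. -/

set_option autoImplicit false

namespace Cfsg.Agent.Lib.Helper51.QDIso

open Cfsg.Agent.Lib.Helper20

variable {S : Type*} [Group S] {q : ℕ} {x y : S}

/-- normal form `x^i y^b`. -/
def nf (x y : S) (p : ℤ × Bool) : S := x ^ p.1 * (if p.2 then y else 1)

/-- the product formula on normal forms. -/
def mulF (q : ℕ) (a b : ℤ × Bool) : ℤ × Bool :=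
  (if a.2 then a.1 + (4 * q - 1) * b.1 else a.1 + b.1, xor a.2 b.2)

theorem nf_mul (h : QD S q x y) (a b : ℤ × Bool) : nf x y a * nf x y b = nf x y (mulF q a b) := by
  obtain ⟨i, s⟩ := a
  obtain ⟨j, t⟩ := b
  cases s <;> cases t <;> simp only [nf, mulF, if_true, if_false, mul_one, Bool.xor_false,
    Bool.xor_true, Bool.not_false, Bool.not_true, Bool.false_eq_true]
  · rw [zpow_add]
  · rw [QD.mul_x_xy]
  · rw [h.mul_xy_x]
  · rw [h.mul_xy_xy]

theorem nf_surj (h : QD S q x y) (g : S) : ∃ a : ℤ × Bool, nf x y a = g := by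
  rcases h.cases g with ⟨i, rfl⟩ | ⟨i, rfl⟩
  · exact ⟨(i, false), by simp [nf]⟩
  · exact ⟨(i, true), by simp [nf]⟩

theorem nf_eq_iff (h : QD S q x y) (a b : ℤ × Bool) :
    nf x y a = nf x y b ↔ (8 * q : ℤ) ∣ a.1 - b.1 ∧ a.2 = b.2 := by
  obtain ⟨i, s⟩ := a
  obtain ⟨j, t⟩ := b
  cases s <;> cases t <;> simp only [nf, if_true, if_false, mul_one, Bool.false_eq_true]
  · simp [h.zpow_eq_iff]
  · simp only [and_false, iff_false]
    exact fun he => h.xy_ne_x j i he.symm
  · simp only [reduceCtorEq, and_false, iff_false]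
    exact fun he => h.xy_ne_x i j he
  · simp [h.zpow_eq_iff]

theorem mulEquiv_of_QD {A B : Type*} [Group A] [Group B] {q : ℕ} {x y : A} {x' y' : B}
    (hA : QD A q x y) (hB : QD B q x' y') : Nonempty (A ≃* B) := by
  classical
  let c : A → ℤ × Bool := fun a => (nf_surj hA a).choose
  have hc : ∀ a, nf x y (c a) = a := fun a => (nf_surj hA a).choose_spec
  let f : A → B := fun a => nf x' y' (c a)
  have hf : ∀ p : ℤ × Bool, f (nf x y p) = nf x' y' p := by
    intro p
    have h1 : nf x y (c (nf x y p)) = nf x y p := hc _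
    rw [nf_eq_iff hA] at h1
    exact (nf_eq_iff hB _ _).mpr h1
  have hmul : ∀ a b : A, f (a * b) = f a * f b := by
    intro a b
    have h1 : a * b = nf x y (mulF q (c a) (c b)) := by
      rw [← nf_mul hA, hc, hc]
    rw [h1, hf, ← nf_mul hB]
  have hinj : Function.Injective f := by
    intro a b hab
    have h1 : nf x' y' (c a) = nf x' y' (c b) := hab
    rw [nf_eq_iff hB] at h1
    have h2 := (nf_eq_iff hA _ _).mpr h1
    rwa [hc, hc] at h2
  have hsurj : Function.Surjective f := by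
    intro b
    obtain ⟨p, rfl⟩ := nf_surj hB b
    exact ⟨nf x y p, hf p⟩
  exact ⟨MulEquiv.ofBijective (MonoidHom.mk' f hmul) ⟨hinj, hsurj⟩⟩

end Cfsg.Agent.Lib.Helper51.QDIso

namespace Cfsg.Agent.Lib.Helper87.MetaSS

open Cfsg.Agent.Lib.Helper20 in
/-- M2. Two quasi-dihedral groups of the same order are isomorphic. -/
theorem quasiDihedral_mulEquiv {A B : Type*} [Group A] [Group B] [Finite A] [Finite B]
    (hA : Cfsg.IsQuasiDihedral A) (hB : Cfsg.IsQuasiDihedral B) (hcard : Nat.card A = Nat.card B) :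
    Nonempty (A ≃* B) := by
  obtain ⟨k, x, y, hq, hc⟩ := exists_QD_of_isQuasiDihedral hA
  obtain ⟨k', x', y', hq', hc'⟩ := exists_QD_of_isQuasiDihedral hB
  have hk : k = k' := by
    rw [hc, hc'] at hcard
    have := Nat.pow_right_injective (le_refl 2) hcard
    omega
  subst hk
  exact Cfsg.Agent.Lib.Helper51.QDIso.mulEquiv_of_QD hq hq'

end Cfsg.Agent.Lib.Helper87.MetaSS
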