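import Mathlib
import Cfsg.Prelude
import Cfsg.Agent.S1217
import Cfsg.Agent.Lib.Helper20.SylowRealize

/-! MetaSS-M5 (for helper87's S5287): quasi-dihedral Sylow 2-subgroups of `GL₂(q)`,
`q ≡ 2^(n-1) - 1 (mod 2^n)`, with all elements of order four conjugate. -/

set_option autoImplicit false

namespace Cfsg.Agent.Lib.Helper51.QDSyl

open Matrix

/-- Dirichlet: a prime `q = 2^(m+3) t + 2^(m+2) - 1`. -/
theorem exists_prime_form (m : ℕ) :
    ∃ q t : ℕ, q.Prime ∧ q + 1 = 2 ^ (m + 3) * t + 2 ^ (m + 2) := by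
  have h2 : 1 ≤ 2 ^ (m + 2) := Nat.one_le_two_pow
  have hcop : (2 ^ (m + 2) - 1).Coprime (2 ^ (m + 3)) := by
    apply Nat.Coprime.pow_right
    rw [Nat.coprime_two_right]
    refine ⟨2 ^ (m + 1) - 1, ?_⟩
    have : 1 ≤ 2 ^ (m + 1) := Nat.one_le_two_pow
    have e : 2 ^ (m + 2) = 2 * 2 ^ (m + 1) := by rw [pow_succ]; ring
    omega
  obtain ⟨q, -, hq, hmod⟩ := Nat.forall_exists_prime_gt_and_modEq 0 (q := 2 ^ (m + 3))
    (a := 2 ^ (m + 2) - 1) (by positivity) hcop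
  refine ⟨q, q / 2 ^ (m + 3), hq, ?_⟩
  have h1 : q % 2 ^ (m + 3) = 2 ^ (m + 2) - 1 := by
    rw [hmod]
    apply Nat.mod_eq_of_lt
    have e : 2 ^ (m + 3) = 2 * 2 ^ (m + 2) := by rw [pow_succ]; ring
    omega
  have h3 := Nat.div_add_mod q (2 ^ (m + 3))
  rw [h1] at h3
  omega

section conj
variable {F : Type*} [Field F]

/-- Cayley-Hamilton for 2x2 matrices. -/
theorem sq_eq (X : Matrix (Fin 2) (Fin 2) F) :
    X * X = X.trace • X - X.det • (1 : Matrix (Fin 2) (Fin 2) F) := by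
  rw [Matrix.det_fin_two, Matrix.trace_fin_two]
  ext i j
  fin_cases i <;> fin_cases j <;> simp [Matrix.mul_apply, Fin.sum_univ_two] <;> ring

theorem sq_eq_neg_one (hF : ¬ IsSquare (-1 : F)) (X : Matrix (Fin 2) (Fin 2) F)
    (h4 : X * X * (X * X) = 1) (h2 : X * X ≠ 1) : X * X = -1 := by
  obtain ⟨t, ht⟩ : ∃ t : F, t = X.trace := ⟨_, rfl⟩
  obtain ⟨δ, hδ⟩ : ∃ δ : F, δ = X.det := ⟨_, rfl⟩
  have hCH : X * X = t • X - δ • (1 : Matrix (Fin 2) (Fin 2) F) := by rw [ht, hδ]; exact sq_eq X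
  have h4' : (t ^ 3 - 2 * t * δ) • X = (1 - δ ^ 2 + t ^ 2 * δ) • (1 : Matrix (Fin 2) (Fin 2) F) := by
    have e1 : (1 : Matrix (Fin 2) (Fin 2) F) = t ^ 2 • (t • X - δ • (1 : Matrix (Fin 2) (Fin 2) F))
        - (2 * t * δ) • X + δ ^ 2 • (1 : Matrix (Fin 2) (Fin 2) F) := by
      refine h4.symm.trans ?_
      conv_lhs => rw [hCH]
      simp only [sub_mul, mul_sub, smul_mul_assoc, mul_smul_comm, mul_one, one_mul]
      rw [hCH]
      module
    have e2 : (1 : Matrix (Fin 2) (Fin 2) F) = (t ^ 3 - 2 * t * δ) • X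
        - (1 - δ ^ 2 + t ^ 2 * δ) • (1 : Matrix (Fin 2) (Fin 2) F) + (1 : Matrix (Fin 2) (Fin 2) F) := by
      conv_lhs => rw [e1]
      module
    have e3 : (t ^ 3 - 2 * t * δ) • X
        - (1 - δ ^ 2 + t ^ 2 * δ) • (1 : Matrix (Fin 2) (Fin 2) F) = 0 := by
      have := e2
      rwa [right_eq_add] at this
    exact sub_eq_zero.mp e3
  have hone : ∀ c : F, c • (1 : Matrix (Fin 2) (Fin 2) F) = 0 → c = 0 := by
    intro c hc
    have := congrFun (congrFun hc 0) 0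
    simpa using this
  by_cases hs : t ^ 3 - 2 * t * δ = 0
  · rw [hs, zero_smul] at h4'
    have hr : 1 - δ ^ 2 + t ^ 2 * δ = 0 := hone _ h4'.symm
    by_cases ht0 : t = 0
    · rw [ht0] at hr hCH
      have hd : (δ - 1) * (δ + 1) = 0 := by linear_combination -hr
      rcases mul_eq_zero.mp hd with hd | hd
      · have : δ = 1 := by linear_combination hd
        rw [hCH, this]; simp
      · have : δ = -1 := by linear_combination hd
        exfalso; apply h2; rw [hCH, this]; simp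
    · exfalso
      have h1 : t ^ 2 = 2 * δ := by
        have : t * (t ^ 2 - 2 * δ) = 0 := by linear_combination hs
        rcases mul_eq_zero.mp this with h | h
        · exact absurd h ht0
        · linear_combination h
      apply hF
      refine ⟨δ, ?_⟩
      rw [h1] at hr
      linear_combination -hr
  · exfalso
    obtain ⟨c, hc⟩ : ∃ c : F, c = (t ^ 3 - 2 * t * δ)⁻¹ * (1 - δ ^ 2 + t ^ 2 * δ) := ⟨_, rfl⟩
    have hX : X = c • (1 : Matrix (Fin 2) (Fin 2) F) := by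
      have : (t ^ 3 - 2 * t * δ)⁻¹ • ((t ^ 3 - 2 * t * δ) • X)
          = (t ^ 3 - 2 * t * δ)⁻¹ • ((1 - δ ^ 2 + t ^ 2 * δ) • (1 : Matrix (Fin 2) (Fin 2) F)) := by
        rw [h4']
      rwa [smul_smul, smul_smul, inv_mul_cancel₀ hs, one_smul, ← hc] at this
    have hXX : X * X = (c ^ 2) • (1 : Matrix (Fin 2) (Fin 2) F) := by
      rw [hX]; simp [smul_smul, pow_two]
    rw [hXX] at h4 h2
    have hc4 : c ^ 4 = 1 := by
      have : (c ^ 4 - 1) • (1 : Matrix (Fin 2) (Fin 2) F) = 0 := by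
        have e : (c ^ 2) • (1 : Matrix (Fin 2) (Fin 2) F) * (c ^ 2) • (1 : Matrix (Fin 2) (Fin 2) F)
            = (c ^ 4) • (1 : Matrix (Fin 2) (Fin 2) F) := by
          simp [smul_smul]; ring_nf
        rw [e] at h4
        rw [sub_smul, h4, one_smul, sub_self]
      have := hone _ this
      linear_combination this
    have hc2 : c ^ 2 ≠ 1 := by
      intro h; apply h2; rw [h, one_smul]
    have : (c ^ 2 - 1) * (c ^ 2 + 1) = 0 := by linear_combination hc4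
    rcases mul_eq_zero.mp this with h | h
    · exact hc2 (by linear_combination h)
    · exact hF ⟨c, by linear_combination -h⟩

/-- the rotation of order four. -/
noncomputable def wGL (F : Type*) [Field F] : GL (Fin 2) F :=
  Matrix.GeneralLinearGroup.mkOfDetNeZero !![0, -1; 1, 0] (by simp [Matrix.det_fin_two])

theorem isConj_wGL (hF : ¬ IsSquare (-1 : F)) (x : GL (Fin 2) F)
    (hx : (x : Matrix (Fin 2) (Fin 2) F) * (x : Matrix (Fin 2) (Fin 2) F) = -1) :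
    IsConj x (wGL F) := by
  obtain ⟨X, hX⟩ : ∃ X : Matrix (Fin 2) (Fin 2) F, X = (x : Matrix (Fin 2) (Fin 2) F) := ⟨_, rfl⟩
  rw [← hX] at hx
  have h00 : X 0 0 * X 0 0 + X 0 1 * X 1 0 = -1 := by
    have := congrFun (congrFun hx 0) 0
    simpa [Matrix.mul_apply, Fin.sum_univ_two] using this
  have h10 : X 1 0 * X 0 0 + X 1 1 * X 1 0 = 0 := by
    have := congrFun (congrFun hx 1) 0
    simpa [Matrix.mul_apply, Fin.sum_univ_two] using this
  have hc : X 1 0 ≠ 0 := by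
    intro h0
    rw [h0, mul_zero, add_zero] at h00
    exact hF ⟨X 0 0, h00.symm⟩
  have hdet : (!![1, X 0 0; 0, X 1 0] : Matrix (Fin 2) (Fin 2) F).det ≠ 0 := by
    simpa [Matrix.det_fin_two] using hc
  let b : GL (Fin 2) F := Matrix.GeneralLinearGroup.mkOfDetNeZero !![1, X 0 0; 0, X 1 0] hdet
  have hb : x * b = b * wGL F := by
    apply Units.ext
    change (x : Matrix (Fin 2) (Fin 2) F) * !![1, X 0 0; 0, X 1 0]
      = !![1, X 0 0; 0, X 1 0] * !![0, -1; 1, 0]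
    rw [← hX]
    ext i j
    fin_cases i <;> fin_cases j <;> simp [Matrix.mul_apply, Fin.sum_univ_two, h00, h10]
  rw [isConj_iff]
  refine ⟨b⁻¹, ?_⟩
  rw [inv_inv, mul_assoc, hb, inv_mul_cancel_left]

theorem isConj_wGL_of_orderOf (hF : ¬ IsSquare (-1 : F)) (x : GL (Fin 2) F) (hx : orderOf x = 4) :
    IsConj x (wGL F) := by
  apply isConj_wGL hF
  apply sq_eq_neg_one hF
  · have h := pow_orderOf_eq_one x
    rw [hx] at h
    have h' := congrArg (fun u : GL (Fin 2) F => (u : Matrix (Fin 2) (Fin 2) F)) h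
    simp only [Units.val_pow_eq_pow_val, Units.val_one] at h'
    rw [← h']
    noncomm_ring
  · intro h
    have h2 : x ^ 2 ≠ 1 := pow_ne_one_of_lt_orderOf (by norm_num) (by rw [hx]; norm_num)
    apply h2
    apply Units.ext
    rw [Units.val_pow_eq_pow_val, Units.val_one, pow_two]
    exact h

end conj

theorem card_sylow_GL2 (m q t : ℕ) [Fact q.Prime] (hq : q + 1 = 2 ^ (m + 3) * t + 2 ^ (m + 2))
    (P : Sylow 2 (GL (Fin 2) (ZMod q))) : Nat.card ↥(P : Subgroup (GL (Fin 2) (ZMod q))) = 2 ^ (m + 4) := by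
  classical
  have hq1 : 1 < q := (Fact.out : q.Prime).one_lt
  have hcardG : Nat.card (GL (Fin 2) (ZMod q)) = (q - 1) ^ 2 * (q + 1) * q := by
    rw [Matrix.card_GL_field, Fin.prod_univ_two, ZMod.card]
    simp only [Fin.val_zero, Fin.val_one, pow_zero, pow_one]
    exact Cfsg.Agent.Lib.Helper20.gl2_card_eq _ (by omega)
  obtain ⟨u, hu⟩ : ∃ u : ℕ, u = 2 ^ m := ⟨_, rfl⟩
  have hu1 : 1 ≤ u := by rw [hu]; exact Nat.one_le_two_pow
  have e3 : 2 ^ (m + 3) = 8 * u := by rw [hu, pow_add]; ring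
  have e2 : 2 ^ (m + 2) = 4 * u := by rw [hu, pow_add]; ring
  have e4 : 2 ^ (m + 4) = 16 * u := by rw [hu, pow_add]; ring
  rw [e3, e2] at hq
  obtain ⟨v, hv⟩ : ∃ v : ℕ, v = u * t := ⟨_, rfl⟩
  have hq' : q + 1 = 8 * v + 4 * u := by rw [hv, hq]; ring
  have hqm1 : q - 1 = 2 * (2 * (2 * v + u - 1) + 1) := by omega
  have hoddq : Odd q := by
    rw [Nat.odd_iff]; omega
  apply Cfsg.Agent.Lib.Helper20.sylow_two_card_of_eq P (m + 4)
    ((2 * (2 * v + u - 1) + 1) ^ 2 * (2 * t + 1) * q)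
  · apply Odd.mul _ hoddq
    apply Odd.mul
    · apply Odd.pow
      exact ⟨_, rfl⟩
    · exact ⟨t, rfl⟩
  · rw [hcardG, hqm1, hq, e4]
    ring

end Cfsg.Agent.Lib.Helper51.QDSyl

namespace Cfsg.Agent.Lib.Helper87.MetaSS

open Cfsg.Agent.Lib.Helper51.QDSyl in
theorem exists_quasiDihedral_sylow (n : ℕ) (hn : 3 ≤ n) :
    ∃ (G : Type) (_ : Group G) (_ : Finite G) (P : Sylow 2 G),
      Cfsg.IsQuasiDihedral ↥(P : Subgroup G) ∧ Nat.card ↥(P : Subgroup G) = 2 ^ (n + 1) ∧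
      ∀ x y : G, orderOf x = 4 → orderOf y = 4 → IsConj x y := by
  obtain ⟨m, rfl⟩ : ∃ m, n = m + 3 := ⟨n - 3, by omega⟩
  obtain ⟨q, t, hqp, hq⟩ := exists_prime_form m
  haveI : Fact q.Prime := ⟨hqp⟩
  have hq4 : q % 4 = 3 := by
    have e3 : 2 ^ (m + 3) = 8 * 2 ^ m := by rw [pow_add]; ring
    have e2 : 2 ^ (m + 2) = 4 * 2 ^ m := by rw [pow_add]; ring
    rw [e3, e2, mul_assoc] at hq
    have : 1 ≤ 2 ^ m := Nat.one_le_two_pow
    omega
  have hF : ¬ IsSquare (-1 : ZMod q) := by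
    rw [ZMod.exists_sq_eq_neg_one_iff]
    simp [hq4]
  let P : Sylow 2 (GL (Fin 2) (ZMod q)) := default
  refine ⟨GL (Fin 2) (ZMod q), inferInstance, inferInstance, P, ?_, ?_, ?_⟩
  · apply (Cfsg.Agent.S1217.result P).1
    rw [ZMod.card]; exact hq4
  · exact card_sylow_GL2 m q t hq P
  · intro x y hx hy
    exact (isConj_wGL_of_orderOf hF x hx).trans (isConj_wGL_of_orderOf hF y hy).symm

end Cfsg.Agent.Lib.Helper87.MetaSS
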