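import Cfsg.Agent.Lib.Helper51.QdClosedA

set_option autoImplicit false
set_option linter.style.haveILetI false
set_option linter.unusedSectionVars false

universe u

namespace Cfsg.Agent.Lib.Helper51

open Cfsg Subgroup Cfsg.Agent.Lib.Helper33 Cfsg.Agent.Lib.Helper11

section local_

variable {p : ℕ} [Fact p.Prime]

/-- **Case 2 tool**: control in the normalizers of the nontrivial subgroups of `P` gives global
control (Alperin--Gorenstein with the functor `R ↦ Wz (R ∩ D^G)`). -/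
theorem ctl_of_local {G : Type*} [Group G] [Finite G] (P : Sylow p G)
    (D : Subgroup G) (hD : IsStronglyClosed D (P : Subgroup G)) (hDne : D ≠ ⊥)
    (Wz : Subgroup G → Subgroup G) (hWz : IsConjugacyFunctor p Wz)
    (hloc : ∀ T : Subgroup G, T ≤ (P : Subgroup G) → T ≠ ⊥ →
      ¬ p ∣ ((P : Subgroup G) ⊓ normalizer (T : Set G)).relIndex (normalizer (T : Set G)) →
      ∀ (A : Set G) (g : G), g ∈ normalizer (T : Set G) →
        A ⊆ (((P : Subgroup G) ⊓ normalizer (T : Set G) : Subgroup G) : Set G) →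
        rc g A ⊆ (((P : Subgroup G) ⊓ normalizer (T : Set G) : Subgroup G) : Set G) →
        ∃ x ∈ normalizer (T : Set G) ⊓
            normalizer ((Wz ((P : Subgroup G) ⊓ normalizer (T : Set G) ⊓ D) : Subgroup G) : Set G),
          ∀ a ∈ A, x⁻¹ * a * x = g⁻¹ * a * g) :
    Ctl (P : Subgroup G) (Wz D) := by
  obtain ⟨W, hWdef⟩ : ∃ W : Subgroup G → Subgroup G, W = dW Wz (P : Subgroup G) D := ⟨_, rfl⟩
  have hW : IsConjugacyFunctor p W := hWdef ▸ isConjugacyFunctor_dW hWz (P : Subgroup G) D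
  have hlocal : ∀ T : Subgroup G, T ≠ ⊥ → IsWellPlaced p W (P : Subgroup G) T →
      ControlsStrongFusionIn p W (Subgroup.normalizer ((T : Subgroup G) : Set G)) := by
    intro T hT1 hwp
    have hTP : T ≤ (P : Subgroup G) := hwp.1
    have hFN : ¬ p ∣ ((P : Subgroup G) ⊓ Subgroup.normalizer (T : Set G)).relIndex
        (Subgroup.normalizer (T : Set G)) := hwp.2 0
    have hloc' := hloc T hTP hT1 hFN
    obtain ⟨M, hM⟩ : ∃ M : Subgroup G, M = Subgroup.normalizer (T : Set G) := ⟨_, rfl⟩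
    obtain ⟨R, hR⟩ : ∃ R : Subgroup G, R = (P : Subgroup G) ⊓ M := ⟨_, rfl⟩
    rw [← hM] at hFN hloc' ⊢
    rw [← hR] at hFN hloc'
    have hRM : R ≤ M := hR ▸ inf_le_right
    have hRP : R ≤ (P : Subgroup G) := hR ▸ inf_le_left
    have hRp : IsPGroup p R := P.2.to_le hRP
    refine ⟨R, hRM, hRp, hFN, ?_⟩
    intro A h hhM hA hAh
    have hdne : dPart (P : Subgroup G) D R ≠ ⊥ := by
      apply dPart_ne_bot P hD hDne hRP
      intro z hz hzc
      rw [hR]
      refine ⟨hz, ?_⟩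
      rw [hM]
      apply Subgroup.centralizer_le_normalizer
      rw [Subgroup.mem_centralizer_iff]
      intro t ht
      exact hzc t (hTP ht)
    have hWR : W R = Wz (R ⊓ D) := by
      rw [hWdef, dW_of_ne_bot hdne, dPart_eq_self hD hRP]
    obtain ⟨x, hx, hxa⟩ := hloc' A h⁻¹ (inv_mem hhM) hA (by
      rw [rc_def]
      rintro _ ⟨a, ha, rfl⟩
      rw [inv_inv]
      exact hAh ⟨a, ha, rfl⟩)
    refine ⟨x⁻¹, ⟨Subgroup.inv_mem _ hx.1, ?_⟩, ?_⟩
    · rw [hWR]; exact Subgroup.inv_mem _ hx.2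
    · intro a ha
      have := hxa a ha
      rw [inv_inv] at this ⊢
      exact this
  have hctl := Cfsg.Agent.S1961.result P W hW hlocal
  have htr := csf_transport hW hctl (T1 := (P : Subgroup G)) le_top P.2
    (sylow_not_dvd_relIndex P le_top)
  have hWP : W (P : Subgroup G) = Wz D := by
    have h1 : dPart (P : Subgroup G) D (P : Subgroup G) = D := by
      rw [dPart_eq_self hD le_rfl]; exact inf_eq_right.mpr hD.1
    have h2 : dPart (P : Subgroup G) D (P : Subgroup G) ≠ ⊥ := by rw [h1]; exact hDne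
    rw [hWdef, dW_of_ne_bot h2, h1]
  intro A g hA hAg
  obtain ⟨x, hx, hxa⟩ := htr A g (Subgroup.mem_top _) hA hAg
  rw [hWP] at hx
  exact ⟨x, hx.2, hxa⟩

/-- **Case 5 input**: control modulo a normal `p`-subgroup `Q`. -/
theorem hquot_of_quotient {X : Type*} [Group X] [Finite X] (P : Sylow p X) (Q : Subgroup X)
    [hQ : Q.Normal] (Z : Subgroup X) (Zb : Subgroup (X ⧸ Q))
    (hq : Ctl ((P : Subgroup X).map (QuotientGroup.mk' Q)) Zb)
    (hsub : SubGood P (cF Z))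
    (hH : normalizer ((Zb.comap (QuotientGroup.mk' Q) : Subgroup X) : Set X) ≠ ⊤)
    (hPH : (P : Subgroup X) ≤ normalizer ((Zb.comap (QuotientGroup.mk' Q) : Subgroup X) : Set X)) :
    ∀ U : Subgroup X, U ≤ (P : Subgroup X) → Q ≤ U → ∀ x ∈ normalizer (U : Set X),
      ∃ g' : X, GoodF (cF Z) (P : Subgroup X) (U : Set X) g' ∧
        ∀ u ∈ U, (g'⁻¹ * u * g')⁻¹ * (x⁻¹ * u * x) ∈ Q := by
  intro U hUP hQU x hx
  obtain ⟨π, hπ⟩ : ∃ π : X →* X ⧸ Q, π = QuotientGroup.mk' Q := ⟨_, rfl⟩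
  have hπs : Function.Surjective π := by rw [hπ]; exact QuotientGroup.mk'_surjective Q
  have hker : π.ker = Q := by rw [hπ]; exact QuotientGroup.ker_mk' Q
  rw [← hπ] at hq hH hPH
  have hA' : π '' (U : Set X) ⊆ ((P : Subgroup X).map π : Subgroup (X ⧸ Q)) := by
    rintro _ ⟨a, ha, rfl⟩
    exact ⟨a, hUP ha, rfl⟩
  have hrcU : rc x (U : Set X) = U := by
    rw [rc_coe, cj_eq_self_iff.mpr (inv_mem hx)]
  have hAg' : rc (π x) (π '' (U : Set X)) ⊆ ((P : Subgroup X).map π : Subgroup (X ⧸ Q)) := by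
    rw [← image_rc, hrcU]; exact hA'
  obtain ⟨xb, hxb, hxa⟩ := hq (π '' (U : Set X)) (π x) hA' hAg'
  obtain ⟨g', rfl⟩ := hπs xb
  have hg'N : g' ∈ normalizer ((Zb.comap π : Subgroup X) : Set X) := by
    rw [← Subgroup.comap_normalizer_eq_of_surjective _ hπs, Subgroup.mem_comap]
    exact hxb
  have hmod : ∀ u ∈ U, (g'⁻¹ * u * g')⁻¹ * (x⁻¹ * u * x) ∈ Q := by
    intro u hu
    rw [← hker, MonoidHom.mem_ker]
    have := hxa (π u) ⟨u, hu, rfl⟩
    simp only [map_mul, map_inv]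
    rw [this]
    group
  refine ⟨g', ?_, hmod⟩
  apply hsub _ hH hPH (U : Set X) g' hg'N hUP
  rintro _ ⟨u, hu, rfl⟩
  apply hUP
  have h1 := hmod u hu
  have h2 : x⁻¹ * u * x ∈ U := by
    have := (Subgroup.mem_normalizer_iff.mp (Subgroup.inv_mem _ hx) u).mp hu
    simpa using this
  have h3 : g'⁻¹ * u * g' = (x⁻¹ * u * x) * ((g'⁻¹ * u * g')⁻¹ * (x⁻¹ * u * x))⁻¹ := by group
  show g'⁻¹ * u * g' ∈ U
  rw [h3]
  exact U.mul_mem h2 (U.inv_mem (hQU h1))

end local_

end Cfsg.Agent.Lib.Helper51
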