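import Cfsg.Agent.Lib.Helper51.QdClosedB
import Cfsg.Agent.Lib.Helper51.QdClosedC

set_option autoImplicit false
set_option linter.style.haveILetI false
set_option linter.unusedSectionVars false

universe u

namespace Cfsg.Agent.Lib.Helper51

open Cfsg Subgroup Cfsg.Agent.Lib.Helper33 Cfsg.Agent.Lib.Helper11

variable {p : ℕ} [Fact p.Prime] {𝒵 : ∀ (X : Type u) [Group X], Subgroup X → Subgroup X}

/-- **Master theorem** for strongly closed subgroups in `Qd(p)`-free groups. -/
theorem closed_master (h𝒵 : ZFun p 𝒵) :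
    ∀ (n : ℕ) (X : Type u) [Group X] [Finite X], Nat.card X = n → ¬ Involves ↥(qd p) X →
      ∀ (P : Sylow p X) (D : Subgroup X), IsStronglyClosed D (P : Subgroup X) →
        Ctl (P : Subgroup X) (𝒵 X D) := by
  intro n
  induction n using Nat.strong_induction_on with
  | _ n ih =>
  intro X _ _ hn hqd P D hD
  -- the induction hypothesis for proper subgroups
  have hsubg : ∀ (H R E : Subgroup X), H ≠ ⊤ → R ≤ H → IsPGroup p R → ¬ p ∣ R.relIndex H →
      R ≤ (P : Subgroup X) → E = R ⊓ D →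
      ∀ (A : Set X) (g : X), g ∈ H → A ⊆ (R : Set X) → rc g A ⊆ (R : Set X) →
      ∃ x ∈ H ⊓ normalizer ((𝒵 X E : Subgroup X) : Set X), ∀ a ∈ A, x⁻¹ * a * x = g⁻¹ * a * g := by
    intro H R E hH hRH hRp hRi hRP hE
    obtain ⟨S, hS⟩ := exists_sylow_of_not_dvd_relIndex hRH hRp hRi
    have hEH : E ≤ H := hE ▸ (inf_le_left.trans hRH)
    have hSmap : (S : Subgroup ↥H).map H.subtype ≤ (P : Subgroup X) := by
      rw [hS, Subgroup.map_subgroupOf_eq_of_le hRH]; exact hRP
    have hEsc : IsStronglyClosed (E.subgroupOf H) (S : Subgroup ↥H) := by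
      have h1 := stronglyClosed_subgroupOf hD H (S : Subgroup ↥H) hSmap
      have h2 : E.subgroupOf H = D.subgroupOf H ⊓ (S : Subgroup ↥H) := by
        rw [hS, hE]
        ext x
        simp only [Subgroup.mem_subgroupOf, Subgroup.mem_inf]
        exact and_comm
      rw [h2]; exact h1
    have hqdH : ¬ Involves ↥(qd p) ↥H := fun h =>
      hqd (involves_of_injective H.subtype (Subgroup.subtype_injective H) h)
    have h1 := ih (Nat.card H) (hn ▸ card_subgroup_lt H hH) ↥H rfl hqdH S (E.subgroupOf H) hEsc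
    rw [hS] at h1
    exact ctl_of_subgroup h𝒵 H R E hRH hEH h1
  have hDP : (P : Subgroup X) ⊓ D = D := inf_eq_right.mpr hD.1
  have hsub : SubGood P (cF (𝒵 X D)) := by
    intro H hH hPH A g hg hA hAg
    obtain ⟨x, hx, he⟩ := hsubg H P D hH hPH P.isPGroup' (sylow_not_dvd_relIndex P hPH) le_rfl
      hDP.symm A g hg hA hAg
    exact goodF_of_mem hx.2 he hAg
  -- the induction hypothesis for proper quotients
  have hquo : ∀ (M : Subgroup X) [M.Normal], M ≠ ⊥ →
      Ctl ((P : Subgroup X).map (QuotientGroup.mk' M)) (𝒵 (X ⧸ M) (D.map (QuotientGroup.mk' M))) := by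
    intro M _ hM
    have hPb : IsPGroup p ((P : Subgroup X).map (QuotientGroup.mk' M)) := P.isPGroup'.map _
    have hPi := not_dvd_index_map P (QuotientGroup.mk' M) (QuotientGroup.mk'_surjective M)
    have h1 := ih (Nat.card (X ⧸ M)) (hn ▸ card_quotient_lt M hM) (X ⧸ M) rfl
      (fun h => hqd (involves_of_surjective (QuotientGroup.mk' M)
        (QuotientGroup.mk'_surjective M) h)) (hPb.toSylow hPi) (D.map (QuotientGroup.mk' M))
      (by
        rw [IsPGroup.toSylow_coe]
        exact stronglyClosed_map_of_surjective P hD _ (QuotientGroup.mk'_surjective M))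
    rwa [IsPGroup.toSylow_coe] at h1
  -- trivial cases
  by_cases hDne : D = ⊥
  · apply ctl_of_normal
    have : 𝒵 X D = ⊥ := le_bot_iff.mp (hDne ▸ h𝒵.le X D)
    rw [this]; infer_instance
  -- Case 3
  by_cases h3 : centralizer ((pCore p X : Subgroup X) : Set X) ≤ pCore p X
  · exact ctl_of_normal (h𝒵.loc X hqd h3 P D hD)
  -- Case 1
  by_cases h1 : pPrimeCore p X = ⊥
  swap
  · haveI := Cfsg.Agent.Lib.Helper55.pPrimeCore_normal' (G := X) p
    have hcop := Cfsg.Agent.Lib.Helper55.pPrimeCore_card_coprime (G := X) p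
    apply ctl_lift_pprime P (pPrimeCore p X) hcop _ ((h𝒵.le X D).trans hD.1)
    have h2 := hquo _ h1
    rw [h𝒵.map X (X ⧸ pPrimeCore p X) (QuotientGroup.mk' (pPrimeCore p X)) D] at h2
    · exact h2
    · intro x hx hx1
      apply eq_one_of_mem_sylow_of_mem_coprime P (pPrimeCore p X) hcop (hD.1 hx)
      rwa [← QuotientGroup.ker_mk' (pPrimeCore p X), MonoidHom.mem_ker]
  -- normal `p`-subgroups lie in `Q`
  have hQmax : ∀ V : Subgroup X, V ≤ (P : Subgroup X) → normalizer (V : Set X) = ⊤ →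
      V ≤ pCore p X := by
    intro V hVP hV
    haveI : V.Normal := Subgroup.normalizer_eq_top_iff.mp hV
    exact Cfsg.Agent.Lib.Helper55.le_pCore p V (P.isPGroup'.to_le hVP)
  -- Case 2
  by_cases h2 : pCore p X = ⊥
  · apply ctl_of_local P D hD hDne (𝒵 X) (h𝒵.conjFunctor X)
    intro T hTP hTne hTi A g hg hA hAg
    have hTtop : normalizer (T : Set X) ≠ ⊤ := by
      intro htop
      have := hQmax T hTP htop
      rw [h2] at this
      exact hTne (eq_bot_iff.mpr this)
    exact hsubg (normalizer (T : Set X)) ((P : Subgroup X) ⊓ normalizer (T : Set X)) _ hTtop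
      inf_le_right (P.isPGroup'.to_le inf_le_left) hTi inf_le_left rfl A g hg hA hAg
  -- now `Q ≠ 1`, `O_{p'} = 1`, `C(Q) ≰ Q`
  apply ctl_of_ctlAt
  obtain ⟨Q, hQ⟩ : ∃ Q : Subgroup X, Q = pCore p X := ⟨_, rfl⟩
  haveI hQn : Q.Normal := by rw [hQ]; exact Cfsg.Agent.Lib.Helper55.pCore_normal' p
  have hQP : Q ≤ (P : Subgroup X) := by rw [hQ]; exact Cfsg.Agent.Lib.Helper11.pCore_le_sylow P
  rw [← hQ] at h3 h2 hQmax
  -- `D ≤ Q` forces `D` normal
  by_cases hDQ : D ≤ Q
  · apply ctlAt_of_ctl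
    apply ctl_of_normal
    apply h𝒵.normal
    constructor
    intro d hd g
    exact hD.2 d hd g (hQP (hQn.conj_mem d (hDQ hd) g))
  obtain ⟨C, hC⟩ : ∃ C : Subgroup X, C = centralizer (Q : Set X) := ⟨_, rfl⟩
  haveI hCn : C.Normal := by rw [hC]; infer_instance
  rw [← hC] at h3
  have hPC : ¬ (P : Subgroup X) ⊓ C ≤ Q := by
    intro h
    apply h3
    have := le_sylow_of_central_sylow P h1 C (by
      intro z hz c hc
      rw [hC] at hc
      exact (Subgroup.mem_centralizer_iff.mp hc z (h hz)).symm)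
    exact (le_inf this le_rfl).trans h
  have hnn : normalizer ((((P : Subgroup X) ⊓ C : Subgroup X)) : Set X) ≠ ⊤ :=
    fun htop => hPC (hQmax _ inf_le_left htop)
  -- Case 4
  by_cases h4 : (P : Subgroup X) ⊔ C = ⊤
  swap
  · exact ctlAt_case4 hsub C h4 hnn
  -- Case 5
  have hPQ : ¬ (P : Subgroup X) ≤ Q := fun h => hPC (inf_le_left.trans h)
  have hPne : (P : Subgroup X) ≠ ⊤ := by
    intro htop
    apply hPQ
    apply hQmax _ le_rfl
    rw [htop]
    exact Subgroup.normalizer_eq_top_iff.mpr inferInstance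
  obtain ⟨π, hπ⟩ : ∃ π : X →* X ⧸ Q, π = QuotientGroup.mk' Q := ⟨_, rfl⟩
  have hπs : Function.Surjective π := by rw [hπ]; exact QuotientGroup.mk'_surjective Q
  have hker : π.ker = Q := by rw [hπ]; exact QuotientGroup.ker_mk' Q
  have hq := hquo Q h2
  apply ctlAt_case5 hsub Q hQP hPne
  · -- `p'`-elements centralize `Q`
    intro b m hm hbm
    have hb : b ∈ (P : Subgroup X) ⊔ C := by rw [h4]; exact Subgroup.mem_top _
    obtain ⟨t, ht, c, hc, rfl⟩ := Subgroup.mem_sup_of_normal_right.mp hb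
    obtain ⟨k, hk⟩ := P.isPGroup' ⟨t, ht⟩
    have htk : t ^ p ^ k = 1 := by
      have := congrArg Subtype.val hk
      simpa using this
    have h5 : (t * c) ^ p ^ k ∈ C := by
      rw [← QuotientGroup.eq_one_iff, QuotientGroup.mk_pow, QuotientGroup.mk_mul,
        (QuotientGroup.eq_one_iff c).mpr hc, mul_one, ← QuotientGroup.mk_pow, htk]
      rfl
    have h6 : (p ^ k).Coprime (orderOf (t * c)) := by
      apply Nat.Coprime.pow_left
      exact (Nat.Coprime.coprime_dvd_left (orderOf_dvd_of_pow_eq_one hbm) hm).symm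
    obtain ⟨j, hj⟩ := exists_pow_eq_self_of_coprime h6
    rw [← hC, ← hj]
    exact Subgroup.pow_mem _ h5 _
  · apply hquot_of_quotient P Q (𝒵 X D) _ hq hsub
    · -- the preimage of `𝒵 (D Q / Q)` is not normal
      rw [← hπ]
      intro htop
      obtain ⟨Zb, hZb⟩ : ∃ Zb : Subgroup (X ⧸ Q), Zb = 𝒵 (X ⧸ Q) (D.map π) := ⟨_, rfl⟩
      rw [← hZb] at htop
      have hZbD : Zb ≤ D.map π := hZb ▸ h𝒵.le (X ⧸ Q) (D.map π)
      have hZ1P : Zb.comap π ≤ (P : Subgroup X) := by
        intro z hz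
        obtain ⟨d, hd, hdz⟩ := hZbD (Subgroup.mem_comap.mp hz)
        have h5 : d⁻¹ * z ∈ Q := by
          rw [← hker, MonoidHom.mem_ker, map_mul, map_inv, hdz, inv_mul_cancel]
        have h6 : z = d * (d⁻¹ * z) := by group
        rw [h6]
        exact (P : Subgroup X).mul_mem (hD.1 hd) (hQP h5)
      have hZ1Q : Zb.comap π ≤ Q := hQmax _ hZ1P htop
      have hZbbot : Zb = ⊥ := by
        rw [eq_bot_iff]
        intro z hz
        obtain ⟨w, rfl⟩ := hπs z
        have : w ∈ Q := hZ1Q (Subgroup.mem_comap.mpr hz)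
        rw [Subgroup.mem_bot, ← MonoidHom.mem_ker, hker]
        exact this
      have hDb : D.map π = ⊥ := by
        by_contra hne
        exact h𝒵.ne_bot (X ⧸ Q) (D.map π) ((P.isPGroup'.to_le hD.1).map π) hne (hZb ▸ hZbbot)
      apply hDQ
      intro d hd
      rw [← hker, MonoidHom.mem_ker]
      have : π d ∈ D.map π := ⟨d, hd, rfl⟩
      rw [hDb] at this
      exact Subgroup.mem_bot.mp this
    · -- `P` normalizes it
      rw [← hπ]
      rw [← Subgroup.comap_normalizer_eq_of_surjective _ hπs]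
      intro t ht
      rw [Subgroup.mem_comap]
      apply h𝒵.normalizer_le (D.map π)
      apply Subgroup.le_normalizer_map π
      refine ⟨t, ?_, rfl⟩
      show t ∈ normalizer (D : Set X)
      rw [Subgroup.mem_normalizer_iff]
      intro d
      constructor
      · intro hd
        exact stronglyClosed_conj_mem hD ht hd
      · intro hd
        have := stronglyClosed_conj_mem hD ((P : Subgroup X).inv_mem ht) hd
        have e : t⁻¹ * (t * d * t⁻¹) * t⁻¹⁻¹ = d := by group
        rwa [e] at this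

end Cfsg.Agent.Lib.Helper51
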