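import Cfsg.Agent.Lib.Helper33.SecMaster
import Cfsg.Agent.Lib.Helper11.DPart
import Cfsg.Agent.Lib.Helper11.SCLemmas
import Cfsg.Agent.Lib.Helper11.LocalControl
import Cfsg.Agent.Lib.Helper51.InvolvesT
import Cfsg.Agent.S1961

set_option autoImplicit false
set_option linter.style.haveILetI false
set_option linter.unusedSectionVars false

universe u

namespace Cfsg.Agent.Lib.Helper51

open Cfsg Subgroup Cfsg.Agent.Lib.Helper33 Cfsg.Agent.Lib.Helper11

/-- the constant family of functors with value `Z` -/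
def cF {X : Type*} [Group X] (Z : Subgroup X) : Set (Subgroup X → Subgroup X) := {fun _ => Z}

/-- `N(Z)` controls strong fusion in `P` (right conjugation form) -/
def Ctl {X : Type*} [Group X] (P Z : Subgroup X) : Prop :=
  ∀ (A : Set X) (g : X), A ⊆ (P : Set X) → rc g A ⊆ (P : Set X) →
    ∃ x ∈ normalizer (Z : Set X), ∀ a ∈ A, x⁻¹ * a * x = g⁻¹ * a * g

section basic

variable {X : Type*} [Group X]

theorem chain_cF_mem {Z H S : Subgroup X} {A : Set X} {g : X} (h : Chain (cF Z) H S A g) :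
    g ∈ normalizer (Z : Set X) := by
  induction h with
  | nil A => exact one_mem _
  | cons A y g hy _ _ ih =>
    obtain ⟨W, hW, hyW⟩ := hy
    have hW' : W = fun _ => Z := hW
    subst hW'
    exact mul_mem hyW.2 ih

theorem ctl_of_ctlAt {P Z : Subgroup X} (h : CtlAt (cF Z) P) : Ctl P Z := by
  intro A g hA hAg
  obtain ⟨x, hx, he⟩ := h A g hA hAg
  exact ⟨x, chain_cF_mem hx, he⟩

theorem goodF_of_mem {P Z : Subgroup X} {A : Set X} {g x : X} (hx : x ∈ normalizer (Z : Set X))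
    (he : ∀ a ∈ A, x⁻¹ * a * x = g⁻¹ * a * g) (hAg : rc g A ⊆ (P : Set X)) :
    GoodF (cF Z) P A g := by
  refine ⟨x, Chain.single ⟨fun _ => Z, rfl, ⟨Subgroup.mem_top x, hx⟩⟩ ?_, he⟩
  rw [rc_congr he]; exact hAg

theorem ctlAt_of_ctl {P Z : Subgroup X} (h : Ctl P Z) : CtlAt (cF Z) P := by
  intro A g hA hAg
  obtain ⟨x, hx, he⟩ := h A g hA hAg
  exact goodF_of_mem hx he hAg

theorem ctl_of_normal {P Z : Subgroup X} (hZ : Z.Normal) : Ctl P Z := by
  intro A g _ _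
  refine ⟨g, ?_, fun a _ => rfl⟩
  rw [Subgroup.normalizer_eq_top Z]; exact Subgroup.mem_top g

end basic

/-- The hypotheses on the assignment `𝒵`. -/
structure ZFun (p : ℕ) (𝒵 : ∀ (X : Type u) [Group X], Subgroup X → Subgroup X) : Prop where
  le : ∀ (X : Type u) [Group X] [Finite X] (E : Subgroup X), 𝒵 X E ≤ E
  ne_bot : ∀ (X : Type u) [Group X] [Finite X] (E : Subgroup X), IsPGroup p E → E ≠ ⊥ →
    𝒵 X E ≠ ⊥
  map : ∀ (X Y : Type u) [Group X] [Group Y] [Finite X] (f : X →* Y) (E : Subgroup X),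
    (∀ x ∈ E, f x = 1 → x = 1) → 𝒵 Y (E.map f) = (𝒵 X E).map f
  loc : ∀ (X : Type u) [Group X] [Finite X], ¬ Involves ↥(qd p) X →
    centralizer ((pCore p X : Subgroup X) : Set X) ≤ pCore p X → ∀ (P : Sylow p X)
    (D : Subgroup X), IsStronglyClosed D (P : Subgroup X) → (𝒵 X D).Normal

section zfun

variable {p : ℕ} [Fact p.Prime] {𝒵 : ∀ (X : Type u) [Group X], Subgroup X → Subgroup X}

theorem ZFun.conjFunctor (h𝒵 : ZFun p 𝒵) (X : Type u) [Group X] [Finite X] :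
    IsConjugacyFunctor p (𝒵 X) := by
  intro R hR
  refine ⟨h𝒵.le X R, h𝒵.ne_bot X R hR, ?_⟩
  intro g
  apply h𝒵.map X X
  intro x _ hx
  exact (MulAut.conj g).injective (by rw [map_one]; exact hx)

theorem ZFun.cj (h𝒵 : ZFun p 𝒵) {X : Type u} [Group X] [Finite X] (g : X) (E : Subgroup X) :
    𝒵 X (cj g E) = cj g (𝒵 X E) := by
  apply h𝒵.map X X
  intro x _ hx
  exact (MulAut.conj g).injective (by rw [map_one]; exact hx)

/-- if `E` is normal so is `𝒵 E` -/
theorem ZFun.normal (h𝒵 : ZFun p 𝒵) {X : Type u} [Group X] [Finite X] (E : Subgroup X)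
    (hE : E.Normal) : (𝒵 X E).Normal := by
  rw [← Subgroup.normalizer_eq_top_iff, eq_top_iff]
  intro g _
  rw [← cj_eq_self_iff, ← h𝒵.cj]
  congr 1
  apply cj_eq_self_iff.mpr
  rw [Subgroup.normalizer_eq_top E]; exact Subgroup.mem_top _

/-- normalizing `E` implies normalizing `𝒵 E` -/
theorem ZFun.normalizer_le (h𝒵 : ZFun p 𝒵) {X : Type u} [Group X] [Finite X] (E : Subgroup X) :
    normalizer (E : Set X) ≤ normalizer ((𝒵 X E : Subgroup X) : Set X) := by
  intro g hg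
  rw [← cj_eq_self_iff, ← h𝒵.cj]
  congr 1
  exact cj_eq_self_iff.mpr hg

/-- control transported from a subgroup -/
theorem ctl_of_subgroup (h𝒵 : ZFun p 𝒵) {X : Type u} [Group X] [Finite X] (H P D : Subgroup X)
    (hPH : P ≤ H) (hDH : D ≤ H)
    (hctl : Ctl (P.subgroupOf H) (𝒵 ↥H (D.subgroupOf H))) :
    ∀ (A : Set X) (g : X), g ∈ H → A ⊆ (P : Set X) → rc g A ⊆ (P : Set X) →
      ∃ x ∈ H ⊓ normalizer ((𝒵 X D : Subgroup X) : Set X), ∀ a ∈ A, x⁻¹ * a * x = g⁻¹ * a * g := by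
  intro A g hg hA hAg
  obtain ⟨x, hxN, hx⟩ := hctl {y : ↥H | (y : X) ∈ A} ⟨g, hg⟩
    (by
      intro y hy
      rw [SetLike.mem_coe, Subgroup.mem_subgroupOf]
      exact hA hy)
    (by
      rintro _ ⟨y, hy, rfl⟩
      rw [SetLike.mem_coe, Subgroup.mem_subgroupOf]
      exact hAg ⟨(y : X), hy, rfl⟩)
  refine ⟨(x : X), ⟨x.2, ?_⟩, ?_⟩
  · have h1 := h𝒵.map ↥H X H.subtype (D.subgroupOf H) (fun x _ hx => Subtype.ext hx)
    rw [Subgroup.map_subgroupOf_eq_of_le hDH] at h1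
    rw [h1]
    exact Subgroup.le_normalizer_map H.subtype ⟨x, hxN, rfl⟩
  · intro a ha
    have haH : a ∈ H := hPH (hA ha)
    have := hx ⟨a, haH⟩ ha
    exact congrArg Subtype.val this

end zfun

end Cfsg.Agent.Lib.Helper51
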