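import Cfsg.Agent.Lib.Helper51.QdClosedA

set_option autoImplicit false
set_option linter.style.haveILetI false
set_option linter.unusedSectionVars false

universe u

namespace Cfsg.Agent.Lib.Helper51

open Cfsg Subgroup Cfsg.Agent.Lib.Helper33 Cfsg.Agent.Lib.Helper11

section lift

variable {p : ℕ} [Fact p.Prime]

/-- **Case 1**: lifting control from the quotient by a normal `p'`-subgroup. -/
theorem ctl_lift_pprime {X : Type*} [Group X] [Finite X] (P : Sylow p X) (K : Subgroup X)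
    [hKn : K.Normal] (hK : (Nat.card K).Coprime p) (Z : Subgroup X) (hZP : Z ≤ (P : Subgroup X))
    (hq : Ctl ((P : Subgroup X).map (QuotientGroup.mk' K)) (Z.map (QuotientGroup.mk' K))) :
    Ctl (P : Subgroup X) Z := by
  intro A g hA hAg
  obtain ⟨π, hπ⟩ : ∃ π : X →* X ⧸ K, π = QuotientGroup.mk' K := ⟨_, rfl⟩
  have hπs : Function.Surjective π := by rw [hπ]; exact QuotientGroup.mk'_surjective K
  have hker : π.ker = K := by rw [hπ]; exact QuotientGroup.ker_mk' K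
  rw [← hπ] at hq
  -- `π` is injective on `P`
  have hinj : ∀ s ∈ (P : Subgroup X), ∀ t ∈ (P : Subgroup X), π s = π t → s = t := by
    intro s hs t ht hst
    have h4 : s⁻¹ * t ∈ K := by
      rw [← hker, MonoidHom.mem_ker, map_mul, map_inv, hst, inv_mul_cancel]
    have h5 := eq_one_of_mem_sylow_of_mem_coprime P K hK
      ((P : Subgroup X).mul_mem ((P : Subgroup X).inv_mem hs) ht) h4
    exact inv_mul_eq_one.mp h5
  have hA' : π '' A ⊆ ((P : Subgroup X).map π : Subgroup (X ⧸ K)) := by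
    rintro _ ⟨a, ha, rfl⟩
    exact ⟨a, hA ha, rfl⟩
  have hAg' : rc (π g) (π '' A) ⊆ ((P : Subgroup X).map π : Subgroup (X ⧸ K)) := by
    rw [← image_rc]
    rintro _ ⟨a, ha, rfl⟩
    exact ⟨a, hAg ha, rfl⟩
  obtain ⟨xb, hxb, hxa⟩ := hq (π '' A) (π g) hA' hAg'
  obtain ⟨x₀, rfl⟩ := hπs xb
  obtain ⟨B, hB⟩ : ∃ B : Subgroup X, B = Z ⊔ Subgroup.closure A := ⟨_, rfl⟩
  have hBP : B ≤ (P : Subgroup X) := by
    rw [hB]; exact sup_le hZP ((Subgroup.closure_le _).mpr hA)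
  -- conjugation by `x₀⁻¹` maps `B` into `P K`
  have hZx : ∀ z ∈ Z, π (x₀⁻¹ * z * x₀) ∈ Z.map π := by
    intro z hz
    have h1 : (π x₀)⁻¹ ∈ normalizer ((Z.map π : Subgroup (X ⧸ K)) : Set (X ⧸ K)) := inv_mem hxb
    have h2 := (Subgroup.mem_normalizer_iff.mp h1 (π z)).mp ⟨z, hz, rfl⟩
    simpa using h2
  have hBx : B ≤ ((P : Subgroup X).map π).comap (π.comp (MulAut.conj x₀⁻¹).toMonoidHom) := by
    rw [hB]
    apply sup_le
    · intro z hz
      rw [Subgroup.mem_comap]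
      show π (x₀⁻¹ * z * x₀⁻¹⁻¹) ∈ _
      rw [inv_inv]
      exact Subgroup.map_mono (f := π) hZP (hZx z hz)
    · rw [Subgroup.closure_le]
      intro a ha
      rw [SetLike.mem_coe, Subgroup.mem_comap]
      show π (x₀⁻¹ * a * x₀⁻¹⁻¹) ∈ _
      have h1 := hxa (π a) ⟨a, ha, rfl⟩
      have h2 : π (g⁻¹ * a * g) ∈ (P : Subgroup X).map π := ⟨_, hAg ⟨a, ha, rfl⟩, rfl⟩
      rw [inv_inv, map_mul, map_mul, map_inv, h1]
      rw [map_mul, map_mul, map_inv] at h2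
      exact h2
  have hB'PK : cj x₀⁻¹ B ≤ (P : Subgroup X) ⊔ K := by
    intro y hy
    obtain ⟨b, hb, rfl⟩ := mem_cj'.mp hy
    have h1 := hBx hb
    rw [Subgroup.mem_comap] at h1
    obtain ⟨s, hs, hs'⟩ := h1
    have hs'' : π s = π (x₀⁻¹ * b * x₀⁻¹⁻¹) := hs'
    have h2 : s⁻¹ * (x₀⁻¹ * b * x₀⁻¹⁻¹) ∈ K := by
      rw [← hker, MonoidHom.mem_ker, map_mul, map_inv, hs'', inv_mul_cancel]
    have h3 : x₀⁻¹ * b * x₀⁻¹⁻¹ = s * (s⁻¹ * (x₀⁻¹ * b * x₀⁻¹⁻¹)) := by group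
    rw [h3]
    exact Subgroup.mul_mem _ (Subgroup.mem_sup_left hs) (Subgroup.mem_sup_right h2)
  obtain ⟨c, hc, hcB⟩ := sylow_sub (le_sup_left : (P : Subgroup X) ≤ (P : Subgroup X) ⊔ K)
    P.isPGroup' (sylow_not_dvd_relIndex P le_sup_left) hB'PK (isPGroup_cj (P.isPGroup'.to_le hBP))
  rw [Subgroup.mem_sup_of_normal_right] at hc
  obtain ⟨s, hs, k, hk, rfl⟩ := hc
  have hkB : cj k (cj x₀⁻¹ B) ≤ (P : Subgroup X) := by
    rw [cj_mul, cj_le_iff] at hcB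
    rwa [cj_eq_self_of_mem (inv_mem hs)] at hcB
  obtain ⟨y, hy⟩ : ∃ y : X, y = x₀ * k⁻¹ := ⟨_, rfl⟩
  have hπy : π y = π x₀ := by
    have hk1 : π k = 1 := by rw [← MonoidHom.mem_ker, hker]; exact hk
    rw [hy, map_mul, map_inv, hk1, inv_one, mul_one]
  have hyB : ∀ b ∈ B, y⁻¹ * b * y ∈ (P : Subgroup X) := by
    intro b hb
    apply hkB
    rw [← cj_mul]
    have : y⁻¹ * b * y = (k * x₀⁻¹) * b * (k * x₀⁻¹)⁻¹ := by rw [hy]; group
    rw [this]
    exact conj_mem_cj hb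
  have hZB : Z ≤ B := by rw [hB]; exact le_sup_left
  have hAB : A ⊆ B := by
    rw [hB]; exact (Subgroup.subset_closure).trans (le_sup_right : Subgroup.closure A ≤ Z ⊔ Subgroup.closure A)
  refine ⟨y, ?_, ?_⟩
  · -- `y` normalizes `Z`
    have h1 : cj y⁻¹ Z ≤ Z := by
      intro w hw
      obtain ⟨z, hz, rfl⟩ := mem_cj'.mp hw
      rw [inv_inv]
      obtain ⟨z', hz', hzz⟩ := hZx z hz
      have h2 : π (y⁻¹ * z * y) = π z' := by
        rw [hzz]
        simp only [map_mul, map_inv, hπy]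
      rw [hinj _ (hyB z (hZB hz)) z' (hZP hz') h2]
      exact hz'
    have h2 := cj_eq_of_le h1
    have := cj_eq_self_iff.mp h2
    simpa using Subgroup.inv_mem _ this
  · intro a ha
    apply hinj _ (hyB a (hAB ha)) _ (hAg ⟨a, ha, rfl⟩)
    have h1 := hxa (π a) ⟨a, ha, rfl⟩
    simp only [map_mul, map_inv, hπy]
    exact h1

end lift

end Cfsg.Agent.Lib.Helper51
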