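import Mathlib
import Cfsg.Agent.Lib.Helper46.QdOver
import Cfsg.Agent.Lib.Helper22.Fitting
import Cfsg.Prelude.Def_PLocal

set_option autoImplicit false
set_option linter.unusedSectionVars false
set_option linter.unusedVariables false
set_option linter.style.haveILetI false

namespace Cfsg.Agent.Lib.Helper51.QdNot

open Cfsg Cfsg.Agent.Lib.Helper46.QdOver Cfsg.Agent.Lib.Helper46.SL2 Cfsg.Agent.Lib.Helper22
open scoped commutatorElement

/-- the upper unitriangular matrix -/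
def uOne (F : Type*) [Field F] : SL F := ⟨!![1, 1; 0, 1], by simp [Matrix.det_fin_two]⟩

theorem mv_uOne_zpow {F : Type*} [Field F] (k : ℤ) (x : Fin 2 → F) :
    mv (uOne F ^ k) x = ![x 0 + (k : F) * x 1, x 1] := by
  have hpow : ∀ n : ℕ, ((uOne F ^ n : SL F) : Matrix (Fin 2) (Fin 2) F) = !![1, (n : F); 0, 1] := by
    intro n
    induction n with
    | zero => ext i j; fin_cases i <;> fin_cases j <;> simp
    | succ n ih =>
      rw [pow_succ, Matrix.SpecialLinearGroup.coe_mul, ih]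
      ext i j
      fin_cases i <;> fin_cases j <;> simp [uOne, Matrix.mul_apply, Fin.sum_univ_two] <;> ring
  have hnat : ∀ (n : ℕ) (y : Fin 2 → F), mv (uOne F ^ n) y = ![y 0 + (n : F) * y 1, y 1] := by
    intro n y
    apply vec2_ext
    · rw [mv_apply_zero, hpow]; simp
    · rw [mv_apply_one, hpow]; simp
  rcases Int.eq_nat_or_neg k with ⟨n, rfl | rfl⟩
  · rw [zpow_natCast, hnat]; simp
  · rw [zpow_neg, zpow_natCast]
    have h1 := hnat n ![x 0 - (n : F) * x 1, x 1]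
    have h2 : mv (uOne F ^ n) ![x 0 - (n : F) * x 1, x 1] = x := by
      rw [h1]
      apply vec2_ext <;> simp
    have h3 : mv (uOne F ^ n)⁻¹ x = ![x 0 - (n : F) * x 1, x 1] := by
      calc mv (uOne F ^ n)⁻¹ x = mv (uOne F ^ n)⁻¹ (mv (uOne F ^ n) ![x 0 - (n : F) * x 1, x 1]) := by
            rw [h2]
        _ = ![x 0 - (n : F) * x 1, x 1] := mv_inv_mv _ _
    rw [h3]
    apply vec2_ext <;> simp
    ring


theorem col_inv_of_ker {F : Type*} [Field F] (v : ↥(Cfsg.qdOver F))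
    (hv : v ∈ (blk : ↥(Cfsg.qdOver F) →* SL F).ker) : col v⁻¹ = -col v := by
  have h1 := col_mul_of_ker v v⁻¹ hv
  rw [mul_inv_cancel, col_one] at h1
  exact eq_neg_of_add_eq_zero_left h1.symm

/-- `Qd(p)` is not `p`-stable in the normalizer form. -/
theorem not_isNormalizerPStable_qd (p : ℕ) [Fact p.Prime] :
    ¬ IsNormalizerPStable p ↥(Cfsg.qdOver (ZMod p)) := by
  intro hst
  obtain ⟨P, hP⟩ : ∃ P : Subgroup ↥(Cfsg.qdOver (ZMod p)),
      P = (blk : ↥(Cfsg.qdOver (ZMod p)) →* SL (ZMod p)).ker := ⟨_, rfl⟩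
  haveI hPn : P.Normal := by rw [hP]; exact MonoidHom.normal_ker _
  have hPp : IsPGroup p P := by rw [hP]; exact ker_isPGroup p
  obtain ⟨g, hg⟩ : ∃ g : ↥(Cfsg.qdOver (ZMod p)), g = emb (uOne (ZMod p)) := ⟨_, rfl⟩
  have hgK : g ∈ K (ZMod p) := by rw [hg]; exact ent_emb_02 _
  have hblkg : blk g = uOne (ZMod p) := by rw [hg, blk_emb]
  have hgN : g ∈ Subgroup.normalizer (P : Set ↥(Cfsg.qdOver (ZMod p))) := by
    rw [Subgroup.normalizer_eq_top]; exact Subgroup.mem_top g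
  have hzK : ∀ z ∈ Subgroup.zpowers g, ∃ k : ℤ, z ∈ K (ZMod p) ∧ blk z = uOne (ZMod p) ^ k := by
    intro z hz
    obtain ⟨k, rfl⟩ := Subgroup.mem_zpowers_iff.mp hz
    exact ⟨k, Subgroup.zpow_mem _ hgK k, by rw [map_zpow, hblkg]⟩
  -- the quadratic action
  let P₁ : Subgroup ↥(Cfsg.qdOver (ZMod p)) :=
    { carrier := {v | v ∈ P ∧ col v 1 = 0}
      one_mem' := ⟨Subgroup.one_mem _, by rw [col_one]; rfl⟩
      mul_mem' := by
        rintro a b ⟨ha, ha1⟩ ⟨hb, hb1⟩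
        refine ⟨Subgroup.mul_mem _ ha hb, ?_⟩
        rw [col_mul_of_ker _ _ (hP ▸ ha), Pi.add_apply, ha1, hb1, add_zero]
      inv_mem' := by
        rintro a ⟨ha, ha1⟩
        refine ⟨Subgroup.inv_mem _ ha, ?_⟩
        rw [col_inv_of_ker a (hP ▸ ha), Pi.neg_apply, ha1, neg_zero] }
  have hquad : ⁅⁅P, Subgroup.zpowers g⁆, Subgroup.zpowers g⁆ = ⊥ := by
    rw [eq_bot_iff, Subgroup.commutator_le]
    have h1 : ⁅P, Subgroup.zpowers g⁆ ≤ P₁ := by
      rw [Subgroup.commutator_le]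
      intro v hv z hz
      obtain ⟨k, hzK', hzb⟩ := hzK z hz
      have hv' : v ∈ (blk : ↥(Cfsg.qdOver (ZMod p)) →* SL (ZMod p)).ker := hP ▸ hv
      have hvi : v⁻¹ ∈ (blk : ↥(Cfsg.qdOver (ZMod p)) →* SL (ZMod p)).ker := Subgroup.inv_mem _ hv'
      have hc : ⁅v, z⁆ = v * (z * v⁻¹ * z⁻¹) := by rw [commutatorElement_def]; group
      refine ⟨?_, ?_⟩
      · rw [hc]
        exact Subgroup.mul_mem _ hv (hPn.conj_mem _ (Subgroup.inv_mem _ hv) z)
      · rw [hc, col_mul_of_ker _ _ hv', col_conj z ((mem_K z).mp hzK') v⁻¹ hvi, hzb,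
          col_inv_of_ker v hv', mv_uOne_zpow]
        simp
    intro c hc z hz
    obtain ⟨hcP, hc1⟩ := h1 hc
    obtain ⟨k, hzK', hzb⟩ := hzK z hz
    have hc' : c ∈ (blk : ↥(Cfsg.qdOver (ZMod p)) →* SL (ZMod p)).ker := hP ▸ hcP
    have hci : c⁻¹ ∈ (blk : ↥(Cfsg.qdOver (ZMod p)) →* SL (ZMod p)).ker := Subgroup.inv_mem _ hc'
    have h2 : z * c⁻¹ * z⁻¹ = c⁻¹ := by
      apply eq_of_ker_col ((MonoidHom.normal_ker _).conj_mem _ hci z) hci
      rw [col_conj z ((mem_K z).mp hzK') c⁻¹ hci, hzb, col_inv_of_ker c hc', mv_uOne_zpow]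
      apply vec2_ext <;> simp [hc1]
    rw [Subgroup.mem_bot, commutatorElement_def]
    calc c * z * c⁻¹ * z⁻¹ = c * (z * c⁻¹ * z⁻¹) := by group
      _ = 1 := by rw [h2, mul_inv_cancel]
  have hmem := hst P hPp g hgN hquad
  -- the preimage of `O_p`
  obtain ⟨N, hN⟩ : ∃ N : Subgroup ↥(Cfsg.qdOver (ZMod p)),
      N = Subgroup.normalizer (P : Set ↥(Cfsg.qdOver (ZMod p))) := ⟨_, rfl⟩
  have hNtop : ∀ q : ↥(Cfsg.qdOver (ZMod p)), q ∈ Subgroup.normalizer (P : Set ↥(Cfsg.qdOver (ZMod p))) := by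
    intro q; rw [Subgroup.normalizer_eq_top]; exact Subgroup.mem_top q
  obtain ⟨D', hD'⟩ : ∃ D' : Subgroup ↥(Subgroup.normalizer (P : Set ↥(Cfsg.qdOver (ZMod p)))),
      D' = (pCore p _).comap (QuotientGroup.mk' ((Subgroup.centralizer (P : Set ↥(Cfsg.qdOver (ZMod p)))).subgroupOf
        (Subgroup.normalizer (P : Set ↥(Cfsg.qdOver (ZMod p)))))) := ⟨_, rfl⟩
  haveI hD'n : D'.Normal := by rw [hD']; exact (pCore_normal' p _).comap _
  have hgD' : (⟨g, hgN⟩ : ↥(Subgroup.normalizer (P : Set ↥(Cfsg.qdOver (ZMod p))))) ∈ D' := by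
    rw [hD', Subgroup.mem_comap]; exact hmem
  -- centralizing elements have trivial block
  have hcen : ∀ c ∈ Subgroup.centralizer (P : Set ↥(Cfsg.qdOver (ZMod p))), blk c = 1 := by
    intro c hc
    rw [Subgroup.mem_centralizer_iff] at hc
    apply ext_mv
    intro x
    rw [mv_one]
    obtain ⟨t, ht⟩ : ∃ t, t = (emb (blk c))⁻¹ * c := ⟨_, rfl⟩
    have htk : t ∈ (blk : ↥(Cfsg.qdOver (ZMod p)) →* SL (ZMod p)).ker := by
      rw [ht, MonoidHom.mem_ker, map_mul, map_inv, blk_emb, inv_mul_cancel]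
    have hce : c = emb (blk c) * t := by rw [ht]; group
    have hx : tr x ∈ P := by rw [hP]; exact tr_mem_ker x
    have h1 := hc (tr x) hx
    have hcomm : t * tr x = tr x * t := by
      apply eq_of_ker_col (Subgroup.mul_mem _ htk (tr_mem_ker x)) (Subgroup.mul_mem _ (tr_mem_ker x) htk)
      rw [col_mul_of_ker _ _ htk, col_mul_of_ker _ _ (tr_mem_ker x), add_comm]
    have h2 : emb (blk c) * tr x * (emb (blk c))⁻¹ = tr x := by
      have h3 : tr x * (emb (blk c) * t) = emb (blk c) * t * tr x := by rw [← hce]; exact h1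
      calc emb (blk c) * tr x * (emb (blk c))⁻¹
          = emb (blk c) * (tr x * t) * t⁻¹ * (emb (blk c))⁻¹ := by group
        _ = emb (blk c) * (t * tr x) * t⁻¹ * (emb (blk c))⁻¹ := by rw [hcomm]
        _ = (emb (blk c) * t * tr x) * t⁻¹ * (emb (blk c))⁻¹ := by group
        _ = (tr x * (emb (blk c) * t)) * t⁻¹ * (emb (blk c))⁻¹ := by rw [h3]
        _ = tr x := by group
    have h4 := col_conj (emb (blk c)) (ent_emb_02 (blk c)) (tr x) (tr_mem_ker x)
    rw [h2, col_tr, blk_emb] at h4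
    exact h4.symm
  -- the image in `SL₂(p)`
  obtain ⟨B, hB⟩ : ∃ B : Subgroup (SL (ZMod p)),
      B = (D'.map (Subgroup.subtype _)).map (blk : ↥(Cfsg.qdOver (ZMod p)) →* SL (ZMod p)) := ⟨_, rfl⟩
  have hBn : B.Normal := by
    rw [hB]
    constructor
    rintro _ ⟨_, ⟨d, hd, rfl⟩, rfl⟩ s
    obtain ⟨e, he⟩ : ∃ e : ↥(Subgroup.normalizer (P : Set ↥(Cfsg.qdOver (ZMod p)))),
        e = ⟨emb s, hNtop _⟩ := ⟨_, rfl⟩
    have h1 : e * d * e⁻¹ ∈ D' := hD'n.conj_mem d hd e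
    have h2 : blk ((e * d * e⁻¹ : ↥(Subgroup.normalizer (P : Set ↥(Cfsg.qdOver (ZMod p))))) :
        ↥(Cfsg.qdOver (ZMod p))) = s * blk (d : ↥(Cfsg.qdOver (ZMod p))) * s⁻¹ := by
      rw [Subgroup.coe_mul, Subgroup.coe_mul, Subgroup.coe_inv, map_mul, map_mul, map_inv, he]
      show blk (emb s) * _ * (blk (emb s))⁻¹ = _
      rw [blk_emb]
    show s * blk (d : ↥(Cfsg.qdOver (ZMod p))) * s⁻¹ ∈ _
    rw [← h2]
    exact ⟨_, ⟨_, h1, rfl⟩, rfl⟩
  have hBp : IsPGroup p B := by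
    rw [hB]
    rintro ⟨_, _, ⟨d, hd, rfl⟩, rfl⟩
    have hd2 : d ∈ D' := hd
    rw [hD', Subgroup.mem_comap] at hd2
    obtain ⟨k, hk⟩ := (pCore_isPGroup' p _) ⟨_, hd2⟩
    refine ⟨k, ?_⟩
    apply Subtype.ext
    rw [Subgroup.coe_pow, Subgroup.coe_one]
    have h1 : (QuotientGroup.mk' ((Subgroup.centralizer (P : Set ↥(Cfsg.qdOver (ZMod p)))).subgroupOf
        (Subgroup.normalizer (P : Set ↥(Cfsg.qdOver (ZMod p))))) d) ^ (p ^ k) = 1 := by
      have := congrArg Subtype.val hk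
      simpa using this
    rw [← map_pow, QuotientGroup.mk'_apply, QuotientGroup.eq_one_iff, Subgroup.mem_subgroupOf] at h1
    have h2 := hcen _ h1
    rw [Subgroup.coe_pow, map_pow] at h2
    exact h2
  have hcard : Fintype.card (ZMod p) = p ^ 1 := by rw [ZMod.card, pow_one]
  have hBbot := normal_pSubgroup_eq_bot hcard B hBn hBp
  have hgB : blk g ∈ B := by
    rw [hB]
    exact ⟨g, ⟨⟨g, hgN⟩, hgD', rfl⟩, rfl⟩
  rw [hBbot, Subgroup.mem_bot, hblkg] at hgB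
  have := congrArg (fun M : SL (ZMod p) => (M : Matrix (Fin 2) (Fin 2) (ZMod p)) 0 1) hgB
  simp [uOne] at this

end Cfsg.Agent.Lib.Helper51.QdNot
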