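import Mathlib
import Cfsg.Agent.Lib.Helper51.QdInt
import Cfsg.Agent.Lib.Helper35.PStabGen
import Cfsg.Agent.Lib.Helper91.Baer
import Cfsg.Prelude.Def_PLocal

set_option autoImplicit false
set_option linter.unusedSectionVars false
set_option linter.unusedVariables false
set_option linter.style.haveILetI false

namespace Cfsg.Agent.Lib.Helper51.QdStab

open Cfsg Cfsg.Agent.Lib.Helper35.PStab Cfsg.Agent.Lib.Helper35.GenQuad Cfsg.Agent.Lib.Helper22
  Cfsg.Agent.Lib.Helper76
open scoped commutatorElement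

universe u

/-- `Qd(p)`-free groups: quadratic elements on elementary abelian normal subgroups -/
theorem quad_mem_D {X : Type u} [Group X] [Finite X] {p : ℕ} [Fact p.Prime] (hp2 : p ≠ 2)
    (hX : ¬ Involves ↥(Cfsg.qd p) X) (P : Subgroup X) [hPn : P.Normal]
    (hPc : ∀ x ∈ P, ∀ y ∈ P, x * y = y * x) (hPe : ∀ x ∈ P, x ^ p = 1) (a : X)
    (ha : ∀ v ∈ P, ⁅a, ⁅a, v⁆⁆ = 1) :
    ∃ D : Subgroup X, D.Normal ∧ a ∈ D ∧
      ∀ d ∈ D, ∃ k : ℕ, d ^ (p ^ k) ∈ Subgroup.centralizer (P : Set X) := by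
  obtain ⟨C, hC⟩ : ∃ C : Subgroup X, C = Subgroup.centralizer (P : Set X) := ⟨_, rfl⟩
  haveI hCn : C.Normal := by rw [hC]; exact Subgroup.normal_centralizer
  obtain ⟨π, hπ⟩ : ∃ π : X →* X ⧸ C, π = QuotientGroup.mk' C := ⟨_, rfl⟩
  have hπs : Function.Surjective π := by rw [hπ]; exact QuotientGroup.mk'_surjective C
  have hπ1 : ∀ x, π x = 1 ↔ x ∈ C := by
    intro x; rw [hπ]; exact QuotientGroup.eq_one_iff x
  refine ⟨(pCore p (X ⧸ C)).comap π, (pCore_normal' p _).comap π, ?_, ?_⟩
  · -- Baer–Suzuki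
    rw [Subgroup.mem_comap]
    by_contra hnO
    obtain ⟨X₀, hX₀⟩ : ∃ X₀ : Subgroup (X ⧸ C), X₀ = Subgroup.zpowers (π a) := ⟨_, rfl⟩
    have hBS : ∃ g : X ⧸ C, ¬ IsPGroup p ↥(X₀ ⊔ X₀.map (MulAut.conj g).toMonoidHom) := by
      by_contra hcon
      push Not at hcon
      obtain ⟨N, hNn, hNp, hXN⟩ := Cfsg.Agent.Lib.Helper91.baer_suzuki X₀ hcon
      apply hnO
      apply le_pCore' hNn hNp
      apply hXN
      rw [hX₀]
      exact Subgroup.mem_zpowers _
    obtain ⟨gb, hgb⟩ := hBS
    obtain ⟨g, rfl⟩ := hπs gb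
    obtain ⟨b, hb⟩ : ∃ b, b = g * a * g⁻¹ := ⟨_, rfl⟩
    have hbq : ∀ v ∈ P, ⁅b, ⁅b, v⁆⁆ = 1 := by
      rw [hb]
      apply quad_conj P g a _ ha
      rw [Subgroup.normalizer_eq_top]
      exact Subgroup.mem_top g
    rcases Cfsg.Agent.Lib.Helper51.QdInt.involves_qd_of_quad_pair hp2 P hPc hPe a b ha hbq with
      ⟨j, hj⟩ | hinv
    · apply hgb
      have hle : X₀ ⊔ X₀.map (MulAut.conj (π g)).toMonoidHom ≤
          (Subgroup.closure {a, b}).map π := by
        apply sup_le
        · rw [hX₀, Subgroup.zpowers_le]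
          exact ⟨a, Subgroup.subset_closure (by simp), rfl⟩
        · rw [hX₀, MonoidHom.map_zpowers, Subgroup.zpowers_le]
          refine ⟨b, Subgroup.subset_closure (by simp), ?_⟩
          rw [hb, map_mul, map_mul, map_inv]
          rfl
      intro w
      obtain ⟨d, hd, hdw⟩ := hle w.2
      refine ⟨j, ?_⟩
      apply Subtype.ext
      rw [Subgroup.coe_pow, Subgroup.coe_one, ← hdw, ← map_pow, hπ1, hC]
      exact hj d hd
    · exact hX hinv
  · intro d hd
    rw [Subgroup.mem_comap] at hd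
    obtain ⟨k, hk⟩ := (pCore_isPGroup' p (X ⧸ C)) ⟨π d, hd⟩
    refine ⟨k, ?_⟩
    have h1 : (π d) ^ (p ^ k) = 1 := by
      have := congrArg Subtype.val hk
      simpa using this
    rw [← map_pow, hπ1, hC] at h1
    exact h1

/-- `p`-stability for `Qd(p)`-free groups (group form, `D`-version); the induction of
`Helper35.PStab.StabClass.ps_group` with an internal minimal case -/
theorem ps_group_qd {p : ℕ} [Fact p.Prime] (hp2 : p ≠ 2) :
    ∀ (n : ℕ) (X : Type u) [Group X] [Finite X], ¬ Involves ↥(Cfsg.qd p) X →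
      ∀ P : Subgroup X, P.Normal → IsPGroup p P → Nat.card P < n →
      ∀ a : X, (∀ v ∈ P, ⁅a, ⁅a, v⁆⁆ = 1) →
      ∃ D : Subgroup X, D.Normal ∧ a ∈ D ∧
        ∀ d ∈ D, ∃ k : ℕ, d ^ (p ^ k) ∈ Subgroup.centralizer (P : Set X) := by
  intro n
  induction n with
  | zero => intro X _ _ _ P _ _ h; exact absurd h (Nat.not_lt_zero _)
  | succ n ih =>
    intro X _ _ hX P hPn hPp hcard a hq
    by_cases hPbot : P = ⊥
    · refine ⟨⊤, inferInstance, Subgroup.mem_top a, fun d _ => ⟨0, ?_⟩⟩
      rw [hPbot, Subgroup.mem_centralizer_iff]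
      intro h hh
      have : h = 1 := hh
      rw [this, one_mul, mul_one]
    by_cases hmin : ∃ U : Subgroup X, U.Normal ∧ U ≤ P ∧ U ≠ ⊥ ∧ U ≠ P
    · obtain ⟨U, hUn, hUP, hUbot, hUneP⟩ := hmin
      have hcardU : Nat.card U < n := by
        have h1 : Nat.card U < Nat.card P := by
          by_contra h
          exact hUneP (Subgroup.eq_of_le_of_card_ge hUP (not_lt.mp h))
        omega
      obtain ⟨D₁, hD₁n, haD₁, hD₁⟩ := ih X hX U hUn (hPp.to_le hUP) hcardU a
        (fun v hv => hq v (hUP hv))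
      -- the quotient
      let f := QuotientGroup.mk' U
      have hf : Function.Surjective f := QuotientGroup.mk'_surjective U
      set Pb := P.map f with hPb
      have hPbn : Pb.Normal := hPn.map f hf
      have hPbp : IsPGroup p Pb := hPp.map f
      have hcardPb : Nat.card Pb < n := by
        have h1 : Nat.card Pb < Nat.card P := by
          classical
          letI : Fintype P := Fintype.ofFinite _
          letI : Fintype Pb := Fintype.ofFinite _
          rw [Nat.card_eq_fintype_card, Nat.card_eq_fintype_card]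
          apply Fintype.card_lt_of_surjective_not_injective (f.subgroupMap P)
            (f.subgroupMap_surjective P)
          intro hinj
          obtain ⟨u, hu1⟩ := (Subgroup.ne_bot_iff_exists_ne_one).mp hUbot
          have h2 : f.subgroupMap P ⟨u, hUP u.2⟩ = f.subgroupMap P 1 := by
            apply Subtype.ext
            rw [map_one]
            show f (u : X) = 1
            exact (QuotientGroup.eq_one_iff _).mpr u.2
          have h3 := hinj h2
          apply hu1
          apply Subtype.ext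
          have h4 := congrArg Subtype.val h3
          exact h4
        omega
      have hqb : ∀ v ∈ Pb, ⁅f a, ⁅f a, v⁆⁆ = 1 := by
        rintro _ ⟨v, hv, rfl⟩
        rw [← map_commutatorElement, ← map_commutatorElement, hq v hv, map_one]
      obtain ⟨D₂b, hD₂bn, haD₂b, hD₂b⟩ := ih (X ⧸ U) (fun hinv => hX (Cfsg.Agent.Lib.Helper51.involves_of_surjective (QuotientGroup.mk' U)
        (QuotientGroup.mk'_surjective U) hinv))
        Pb hPbn hPbp hcardPb (f a) hqb
      set D₂ := D₂b.comap f with hD₂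
      have hD₂n : D₂.Normal := hD₂bn.comap f
      refine ⟨D₁ ⊓ D₂, Subgroup.normal_inf_normal D₁ D₂, ⟨haD₁, haD₂b⟩, ?_⟩
      rintro d ⟨hd1, hd2⟩
      obtain ⟨k₁, hk₁⟩ := hD₁ d hd1
      obtain ⟨k₂, hk₂⟩ := hD₂b (f d) hd2
      set e := d ^ (p ^ (k₁ + k₂)) with he
      have heU : e ∈ Subgroup.centralizer (U : Set X) := by
        have : e = (d ^ (p ^ k₁)) ^ (p ^ k₂) := by rw [he, pow_add, pow_mul]
        rw [this]
        exact Subgroup.pow_mem _ hk₁ _
      have heP : f e ∈ Subgroup.centralizer (Pb : Set (X ⧸ U)) := by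
        have : f e = (f d ^ (p ^ k₂)) ^ (p ^ k₁) := by
          rw [he, map_pow, pow_add, mul_comm, pow_mul]
        rw [this]
        exact Subgroup.pow_mem _ hk₂ _
      -- split the order of `e`
      obtain ⟨j, m, hmp, hjm⟩ := Nat.exists_eq_pow_mul_and_not_dvd (orderOf_pos e).ne' p
        (Fact.out : p.Prime).ne_one
      set y := e ^ (p ^ j) with hy
      have hym : y ^ m = 1 := by
        rw [hy, ← pow_mul, ← hjm, pow_orderOf_eq_one]
      have hmc : m.Coprime p :=
        ((Nat.Prime.coprime_iff_not_dvd (Fact.out : p.Prime)).mpr hmp).symm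
      have hyU : ∀ u ∈ U, y * u = u * y := by
        intro u hu
        have h1 : y ∈ Subgroup.centralizer (U : Set X) := Subgroup.pow_mem _ heU _
        rw [Subgroup.mem_centralizer_iff] at h1
        exact (h1 u hu).symm
      have hyP : ∀ v ∈ P, y * v * y⁻¹ * v⁻¹ ∈ U := by
        intro v hv
        have h1 : f y ∈ Subgroup.centralizer (Pb : Set (X ⧸ U)) := by
          rw [hy, map_pow]; exact Subgroup.pow_mem _ heP _
        rw [Subgroup.mem_centralizer_iff] at h1
        have h2 := h1 (f v) ⟨v, hv, rfl⟩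
        rw [← (QuotientGroup.eq_one_iff (N := U) _)]
        show f (y * v * y⁻¹ * v⁻¹) = 1
        rw [map_mul, map_mul, map_mul, map_inv, map_inv, ← h2]
        group
      have hcen := centralizes_of_chain P U hUP hPp y m hmc hym hyU hyP
      refine ⟨k₁ + k₂ + j, ?_⟩
      have : d ^ (p ^ (k₁ + k₂ + j)) = y := by rw [hy, he, ← pow_mul, ← pow_add]
      rw [this, Subgroup.mem_centralizer_iff]
      intro v hv
      exact (hcen v hv).symm
    · -- the minimal case
      push Not at hmin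
      have hmin' : ∀ U : Subgroup X, U.Normal → U ≤ P → U = ⊥ ∨ U = P := by
        intro U hUn hUP
        by_cases h : U = ⊥
        · left; exact h
        · right; exact hmin U hUn hUP h
      haveI := hPn
      obtain ⟨hPc, hPe⟩ := minimal_normal_elementary P hPp hPbot hmin'
      exact quad_mem_D hp2 hX P hPc hPe a hq


theorem pstable_D_qd {p : ℕ} [Fact p.Prime] (hp2 : p ≠ 2) {X : Type u} [Group X] [Finite X]
    (hX : ¬ Involves ↥(Cfsg.qd p) X) (P : Subgroup X) [hPn : P.Normal]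
    (hPp : IsPGroup p P) (a : X) (hq : ∀ v ∈ P, ⁅a, ⁅a, v⁆⁆ = 1) :
    ∃ D : Subgroup X, D.Normal ∧ a ∈ D ∧
      ∀ d ∈ D, ∃ k : ℕ, d ^ (p ^ k) ∈ Subgroup.centralizer (P : Set X) :=
  ps_group_qd hp2 (Nat.card P + 1) X hX P hPn hPp (Nat.lt_succ_self _) a hq

/-- **`p`-stability** of `Qd(p)`-free groups: a quadratically acting element maps into
`O_p(X / C_X(P))`. -/
theorem mem_pCore_quotient_qd {p : ℕ} [Fact p.Prime] (hp2 : p ≠ 2) {X : Type u} [Group X]
    [Finite X] (hX : ¬ Involves ↥(Cfsg.qd p) X) (P : Subgroup X) [hPn : P.Normal]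
    (hPp : IsPGroup p P) (a : X) (hq : ∀ v ∈ P, ⁅a, ⁅a, v⁆⁆ = 1) :
    (QuotientGroup.mk a : X ⧸ Subgroup.centralizer (P : Set X)) ∈
      pCore p (X ⧸ Subgroup.centralizer (P : Set X)) := by
  obtain ⟨D, hDn, haD, hD⟩ := pstable_D_qd hp2 hX P hPp a hq
  set Cn := Subgroup.centralizer (P : Set X) with hCn
  have hn : (D.map (QuotientGroup.mk' Cn)).Normal := hDn.map _ (QuotientGroup.mk'_surjective Cn)
  have hp : IsPGroup p (D.map (QuotientGroup.mk' Cn)) := by
    rintro ⟨_, d, hd, rfl⟩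
    obtain ⟨k, hk⟩ := hD d hd
    refine ⟨k, ?_⟩
    apply Subtype.ext
    simp only [Subgroup.coe_pow, Subgroup.coe_one]
    rw [← map_pow]
    exact (QuotientGroup.eq_one_iff _).mpr hk
  exact le_pCore' hn hp ⟨a, haD, rfl⟩

/-- `Qd(p)`-free groups are `p`-stable on every normal `p`-subgroup. -/
theorem isPStableOn_qd {p : ℕ} [Fact p.Prime] (hp2 : p ≠ 2) {X : Type u} [Group X]
    [Finite X] (hX : ¬ Involves ↥(Cfsg.qd p) X) (V : Subgroup X) [V.Normal]
    (hVp : IsPGroup p V) : IsPStableOn p V := by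
  intro a ha
  exact mem_pCore_quotient_qd hp2 hX V hVp a
    (quad_of_commutator V (Subgroup.zpowers a) ha a (Subgroup.mem_zpowers a))

/-- `Qd(p)`-free groups are `p`-stable in the normalizer form. -/
theorem isNormalizerPStable_qd {Y : Type u} [Group Y] [Finite Y] {p : ℕ} [Fact p.Prime]
    (hp2 : p ≠ 2) (hY : ¬ Involves ↥(Cfsg.qd p) Y) : IsNormalizerPStable p Y := by
  intro P hP g hg hquad
  have hX : ¬ Involves ↥(Cfsg.qd p) ↥(Subgroup.normalizer (P : Set Y)) := fun hinv =>
    hY (Cfsg.Agent.Lib.Helper51.involves_of_injective (Subgroup.subtype _)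
      (Subgroup.subtype_injective _) hinv)
  obtain ⟨P', hP'⟩ : ∃ P' : Subgroup ↥(Subgroup.normalizer (P : Set Y)),
      P' = P.subgroupOf (Subgroup.normalizer (P : Set Y)) := ⟨_, rfl⟩
  haveI hP'n : P'.Normal := by rw [hP']; exact Subgroup.normal_in_normalizer
  have hP'p : IsPGroup p P' := by
    rw [hP']
    exact hP.comap_subtype
  have hq := quad_of_commutator P (Subgroup.zpowers g) hquad g (Subgroup.mem_zpowers g)
  have hq' : ∀ v ∈ P', ⁅(⟨g, hg⟩ : ↥(Subgroup.normalizer (P : Set Y))),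
      ⁅(⟨g, hg⟩ : ↥(Subgroup.normalizer (P : Set Y))), v⁆⁆ = 1 := by
    intro v hv
    rw [hP', Subgroup.mem_subgroupOf] at hv
    apply Subtype.ext
    have := hq (v : Y) hv
    simpa [commutatorElement_def] using this
  have hmem := mem_pCore_quotient_qd hp2 hX P' hP'p ⟨g, hg⟩ hq'
  have hceq : Subgroup.centralizer (P' : Set ↥(Subgroup.normalizer (P : Set Y))) =
      (Subgroup.centralizer (P : Set Y)).subgroupOf (Subgroup.normalizer (P : Set Y)) := by
    ext x
    rw [Subgroup.mem_subgroupOf, Subgroup.mem_centralizer_iff, Subgroup.mem_centralizer_iff]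
    constructor
    · intro hx y hy
      have := hx ⟨y, Subgroup.le_normalizer hy⟩ (by rw [hP']; exact Subgroup.mem_subgroupOf.mpr hy)
      exact congrArg Subtype.val this
    · intro hx y hy
      rw [hP'] at hy
      exact Subtype.ext (hx (y : Y) (Subgroup.mem_subgroupOf.mp hy))
  have key : ∀ (S : Subgroup ↥(Subgroup.normalizer (P : Set Y))) [S.Normal],
      Subgroup.centralizer (P' : Set ↥(Subgroup.normalizer (P : Set Y))) = S →
      (QuotientGroup.mk (s := S) (⟨g, hg⟩ : ↥(Subgroup.normalizer (P : Set Y)))) ∈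
        pCore p (↥(Subgroup.normalizer (P : Set Y)) ⧸ S) := by
    intro S _ hS
    subst hS
    exact hmem
  exact key _ hceq

end Cfsg.Agent.Lib.Helper51.QdStab
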