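import Mathlib
import Cfsg.Agent.Lib.Helper46.QdSylow
import Cfsg.Agent.S0653
import Cfsg.Agent.S0658
import Cfsg.Prelude.Def_LocalEven

set_option autoImplicit false
set_option linter.unusedSectionVars false
set_option linter.unusedVariables false
set_option linter.style.haveILetI false

namespace Cfsg.Agent.Lib.Helper51.QdZJ

open Cfsg Cfsg.Agent.Lib.Helper46.QdOver Cfsg.Agent.Lib.Helper46.SL2 Cfsg.Agent.Lib.Helper46.NatSL2
  Cfsg.Agent.Lib.Helper46.QdSylow Cfsg.Agent.Lib.Helper11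

variable {F : Type*} [Field F]

theorem dd_col_mul {e : Fin 2 → F} {M : QG F} (hM : M ∈ Se e) (N : QG F) :
    dd e (col (M * N)) = dd e (col M) + dd e (col N) := by
  rw [col_mul, dd_add]
  congr 1
  have h1 : mv (blk M) e = e := hM
  calc dd e (mv (blk M) (col N)) = dd (mv (blk M) e) (mv (blk M) (col N)) := by rw [h1]
    _ = dd e (col N) := dd_mv _ _ _

/-- the second abelian subgroup of maximal order of `Se e` -/
def A2 (e : Fin 2 → F) : Subgroup (QG F) where
  carrier := {M | M ∈ Se e ∧ dd e (col M) = 0}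
  one_mem' := ⟨Subgroup.one_mem _, by rw [col_one, dd_zero_right]⟩
  mul_mem' := by
    rintro a b ⟨ha, ha0⟩ ⟨hb, hb0⟩
    exact ⟨Subgroup.mul_mem _ ha hb, by rw [dd_col_mul ha, ha0, hb0, add_zero]⟩
  inv_mem' := by
    rintro a ⟨ha, ha0⟩
    refine ⟨Subgroup.inv_mem _ ha, ?_⟩
    have h := dd_col_mul ha a⁻¹
    rw [mul_inv_cancel, col_one, dd_zero_right, ha0, zero_add] at h
    exact h.symm

theorem mem_A2 {e : Fin 2 → F} {M : QG F} : M ∈ A2 e ↔ M ∈ Se e ∧ dd e (col M) = 0 := Iff.rfl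

theorem comm_of_coords {e f : Fin 2 → F} (hef : dd e f = 1) {M N : QG F} (hM : M ∈ Se e)
    (hN : N ∈ Se e) (h : tt f M * yy e N = tt f N * yy e M) : M * N = N * M := by
  have h1 := Co_mul hef (Co_coords hef hM) (Co_coords hef hN)
  have h2 := Co_mul hef (Co_coords hef hN) (Co_coords hef hM)
  have e1 : tt f M + tt f N = tt f N + tt f M := add_comm _ _
  have e2 : xx f M + xx f N + tt f M * yy e N = xx f N + xx f M + tt f N * yy e M := by
    rw [h]; ring
  have e3 : yy e M + yy e N = yy e N + yy e M := add_comm _ _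
  rw [e1, e2, e3] at h1
  exact Co_unique h1 h2

theorem coords_of_comm {e f : Fin 2 → F} (hef : dd e f = 1) {M N : QG F} (hM : M ∈ Se e)
    (hN : N ∈ Se e) (h : M * N = N * M) : tt f M * yy e N = tt f N * yy e M := by
  have h1 := Co_mul hef (Co_coords hef hM) (Co_coords hef hN)
  have h2 := Co_mul hef (Co_coords hef hN) (Co_coords hef hM)
  rw [h] at h1
  obtain ⟨-, hx1, -⟩ := coords_of_Co hef h1
  obtain ⟨-, hx2, -⟩ := coords_of_Co hef h2
  have := hx1.symm.trans hx2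
  linear_combination this

theorem A2_comm {e f : Fin 2 → F} (hef : dd e f = 1) {M N : QG F} (hM : M ∈ A2 e)
    (hN : N ∈ A2 e) : M * N = N * M := by
  apply comm_of_coords hef hM.1 hN.1
  have h1 : yy e M = 0 := hM.2
  have h2 : yy e N = 0 := hN.2
  rw [h1, h2, mul_zero, mul_zero]

theorem tt_of_mem_VV {f : Fin 2 → F} {M : QG F} (hM : M ∈ VV F) : tt f M = 0 := by
  unfold tt
  rw [MonoidHom.mem_ker.mp hM, mv_one, dd_self]

theorem mem_VV_of_tt {e f : Fin 2 → F} (hef : dd e f = 1) {M : QG F} (hM : M ∈ Se e)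
    (h : tt f M = 0) : M ∈ VV F := by
  have h1 := (Co_coords hef hM).1
  rw [h, transv_zero] at h1
  exact h1


theorem card_VV [Finite F] : Nat.card (VV F) = Nat.card (Fin 2 → F) :=
  Nat.card_congr ((Additive.ofMul).trans (psi (F := F)).toEquiv)

theorem card_le_of_comm [Finite F] {e f : Fin 2 → F} (hef : dd e f = 1) (B : Subgroup (QG F))
    (hB : B ≤ Se e) (hBc : ∀ a ∈ B, ∀ b ∈ B, a * b = b * a) :
    Nat.card B ≤ Nat.card (VV F) := by
  haveI : Finite (QG F) := by
    have : Finite (Matrix.SpecialLinearGroup (Fin 3) F) := by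
      unfold Matrix.SpecialLinearGroup
      infer_instance
    infer_instance
  by_cases hBV : B ≤ VV F
  · exact Subgroup.card_le_of_le hBV
  · obtain ⟨b, hbB, hbV⟩ := SetLike.not_le_iff_exists.mp hBV
    have ht : tt f b ≠ 0 := fun h => hbV (mem_VV_of_tt hef (hB hbB) h)
    rw [card_VV]
    apply Nat.card_le_card_of_injective (fun b' : ↥B => ![tt f (b' : QG F), xx f (b' : QG F)])
    intro b' b'' h
    have h0 : tt f (b' : QG F) = tt f (b'' : QG F) := by
      have := congrFun h 0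
      simpa using this
    have h1 : xx f (b' : QG F) = xx f (b'' : QG F) := by
      have := congrFun h 1
      simpa using this
    have c1 := coords_of_comm hef (hB hbB) (hB b'.2) (hBc b hbB b' b'.2)
    have c2 := coords_of_comm hef (hB hbB) (hB b''.2) (hBc b hbB b'' b''.2)
    have h2 : yy e (b' : QG F) = yy e (b'' : QG F) := by
      apply mul_left_cancel₀ ht
      rw [c1, c2, h0]
    apply Subtype.ext
    have k1 := Co_coords hef (hB b'.2)
    have k2 := Co_coords hef (hB b''.2)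
    rw [h0, h1, h2] at k1
    exact Co_unique k1 k2

theorem card_VV_le_A2 [Finite F] {e f : Fin 2 → F} (hef : dd e f = 1) :
    Nat.card (VV F) ≤ Nat.card (A2 e) := by
  haveI : Finite (QG F) := by
    have : Finite (Matrix.SpecialLinearGroup (Fin 3) F) := by
      unfold Matrix.SpecialLinearGroup
      infer_instance
    infer_instance
  have hmem : ∀ v : QG F, mk e f (yy e v) (xx f v) 0 ∈ A2 e := by
    intro v
    have h := Co_mk e f (yy e v) (xx f v) 0
    refine ⟨Co_mem_Se h, ?_⟩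
    exact (coords_of_Co hef h).2.2
  apply Nat.card_le_card_of_injective
    (fun v : ↥(VV F) => (⟨mk e f (yy e (v : QG F)) (xx f (v : QG F)) 0, hmem v⟩ : ↥(A2 e)))
  intro v v' h
  have h' : mk e f (yy e (v : QG F)) (xx f (v : QG F)) 0 =
      mk e f (yy e (v' : QG F)) (xx f (v' : QG F)) 0 := congrArg Subtype.val h
  have k := Co_mk e f (yy e (v : QG F)) (xx f (v : QG F)) 0
  have k' := Co_mk e f (yy e (v' : QG F)) (xx f (v' : QG F)) 0
  rw [← h'] at k'
  obtain ⟨a1, a2, -⟩ := coords_of_Co hef k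
  obtain ⟨b1, b2, -⟩ := coords_of_Co hef k'
  have hy : yy e (v : QG F) = yy e (v' : QG F) := a1.symm.trans b1
  have hx : xx f (v : QG F) = xx f (v' : QG F) := a2.symm.trans b2
  apply Subtype.ext
  have c1 := Co_coords hef (VV_le_Se e v.2)
  have c2 := Co_coords hef (VV_le_Se e v'.2)
  rw [tt_of_mem_VV v.2, hx, hy] at c1
  rw [tt_of_mem_VV v'.2] at c2
  exact Co_unique c1 c2

/-- `Z(J(T))` for a Sylow `p`-subgroup `T` of `Qd(p)`: nontrivial, inside the translation
subgroup, and missing a translation. -/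
theorem zj_props (p : ℕ) [Fact p.Prime] (T : Sylow p (QG (ZMod p))) :
    ∃ f : Fin 2 → ZMod p, f ≠ 0 ∧ centerThompsonAOf (T : Subgroup (QG (ZMod p))) ≤ VV (ZMod p) ∧
      centerThompsonAOf (T : Subgroup (QG (ZMod p))) ≠ ⊥ ∧
      tr f ∉ centerThompsonAOf (T : Subgroup (QG (ZMod p))) := by
  haveI : Finite (QG (ZMod p)) := by
    have : Finite (Matrix.SpecialLinearGroup (Fin 3) (ZMod p)) := by
      unfold Matrix.SpecialLinearGroup
      infer_instance
    infer_instance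
  have hcard : Fintype.card (ZMod p) = p ^ 1 := by rw [ZMod.card, pow_one]
  obtain ⟨e, he, hTe⟩ := sylow_eq_Se hcard T
  obtain ⟨y, hy⟩ := exists_dd_ne_zero he
  obtain ⟨f, hf⟩ : ∃ f, f = (dd e y)⁻¹ • y := ⟨_, rfl⟩
  have hef : dd e f = 1 := by rw [hf, dd_smul, inv_mul_cancel₀ hy]
  have hf0 : f ≠ 0 := by
    rintro rfl
    rw [dd_zero_right] at hef
    exact zero_ne_one hef
  have hcomm : ∀ X : Subgroup (QG (ZMod p)), IsMulCommutative X → ∀ a ∈ X, ∀ b ∈ X, a * b = b * a := by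
    intro X hX a ha b hb
    have := hX.is_comm.comm ⟨a, ha⟩ ⟨b, hb⟩
    exact congrArg Subtype.val this
  have hmax : ∀ Y : Subgroup (QG (ZMod p)), Y ≤ Se e → IsMulCommutative Y →
      Nat.card Y ≤ Nat.card (VV (ZMod p)) := fun Y hY hYc =>
    card_le_of_comm hef Y hY (hcomm Y hYc)
  have hVc : IsMulCommutative (VV (ZMod p)) := by
    refine ⟨⟨fun a b => Subtype.ext ?_⟩⟩
    apply eq_of_ker_col (Subgroup.mul_mem _ a.2 b.2) (Subgroup.mul_mem _ b.2 a.2)
    rw [col_mul_of_ker _ _ a.2, col_mul_of_ker _ _ b.2, add_comm]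
  have hA2c : IsMulCommutative (A2 e) :=
    ⟨⟨fun a b => Subtype.ext (A2_comm hef a.2 b.2)⟩⟩
  have hVfam : VV (ZMod p) ∈ famQ (fun X : Subgroup (QG (ZMod p)) => IsMulCommutative X) (Se e) :=
    ⟨VV_le_Se e, hVc, hmax⟩
  have hA2fam : A2 e ∈ famQ (fun X : Subgroup (QG (ZMod p)) => IsMulCommutative X) (Se e) :=
    ⟨fun M hM => hM.1, hA2c, fun Y hY hYc => (hmax Y hY hYc).trans (card_VV_le_A2 hef)⟩
  rw [hTe, Cfsg.Agent.S0653.centerThompsonAOf_eq_zQ]
  refine ⟨f, hf0, zQ_le_of_mem hVfam, ?_, ?_⟩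
  · have hTp : IsPGroup p (Se e) := by rw [← hTe]; exact T.isPGroup'
    apply Cfsg.Agent.S0658.zQ_ne_bot hTp
    intro hbot
    have h1 : tr f ∈ Se e := VV_le_Se e (tr_mem_ker f)
    rw [hbot, Subgroup.mem_bot] at h1
    have h2 := congrArg col h1
    rw [col_tr, col_one] at h2
    exact hf0 h2
  · intro h
    have h1 : tr f ∈ A2 e := zQ_le_of_mem hA2fam h
    have h2 := h1.2
    rw [col_tr, hef] at h2
    exact one_ne_zero h2


/-- In `Qd(p)`, `Z(J(T))` does not control strong fusion. -/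
theorem not_controls_qd (p : ℕ) [Fact p.Prime] (T : Sylow p (QG (ZMod p))) :
    ¬ ControlsStrongFusion p (centerThompsonAOf (T : Subgroup (QG (ZMod p)))) := by
  rintro ⟨T', hZT', hctl⟩
  obtain ⟨f, hf0, hZV, hZne, hfZ⟩ := zj_props p T
  obtain ⟨⟨v, hv⟩, hne⟩ := (Subgroup.ne_bot_iff_exists_ne_one).mp hZne
  have hv1 : v ≠ 1 := fun h => hne (Subtype.ext h)
  have hvV : v ∈ VV (ZMod p) := hZV hv
  have hx : col v ≠ 0 := fun h => hv1 (col_eq_zero_of_ker hvV h)
  obtain ⟨M, hM⟩ := exists_mv_eq hx hf0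
  obtain ⟨g, hg⟩ : ∃ g : QG (ZMod p), g = emb M := ⟨_, rfl⟩
  have hgv : g * v * g⁻¹ = tr f := by
    apply tr_eq_of_col ((MonoidHom.normal_ker _).conj_mem v hvV g)
    rw [col_conj' g v hvV, hg, blk_emb, hM]
  have hcard : Fintype.card (ZMod p) = p ^ 1 := by rw [ZMod.card, pow_one]
  obtain ⟨e', -, hT'e⟩ := sylow_eq_Se hcard T'
  have hVT' : VV (ZMod p) ≤ (T' : Subgroup (QG (ZMod p))) := by rw [hT'e]; exact VV_le_Se e'
  have hA : ({v} : Set (QG (ZMod p))) ⊆ (T' : Subgroup (QG (ZMod p))) := by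
    intro a ha
    rw [Set.mem_singleton_iff] at ha
    rw [ha]
    exact hZT' hv
  obtain ⟨-, h2⟩ := hctl {v} hA
  obtain ⟨n, hn, hna⟩ := h2 g (by
    rintro _ ⟨a, ha, rfl⟩
    rw [Set.mem_singleton_iff] at ha
    rw [ha]
    show g * v * g⁻¹ ∈ (T' : Subgroup (QG (ZMod p)))
    rw [hgv]
    exact hVT' (tr_mem_ker f))
  have h3 : g * v * g⁻¹ = n * v * n⁻¹ := hna v rfl
  have h4 : n * v * n⁻¹ ∈ centerThompsonAOf (T : Subgroup (QG (ZMod p))) :=
    (Subgroup.mem_normalizer_iff.mp hn v).mp hv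
  rw [← h3, hgv] at h4
  exact hfZ h4

end Cfsg.Agent.Lib.Helper51.QdZJ
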