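import Cfsg.Agent.Lib.Helper66.S3Defs

/-!
# S3 hive (S4305), leaf ZS, part 2: class-two calculus (helper51)
-/

set_option autoImplicit false

namespace Cfsg.Agent.Lib.Helper66.S3

universe u

open scoped commutatorElement

theorem zs_sig3 : sig * sig * sig = (1 : A3) := by decide

theorem zs_tau2 : tau * tau = (1 : A3) := by decide

theorem zs_A3_cases (a : A3) :
    a = 1 ∨ a = sig ∨ a = sig * sig ∨ a = tau ∨ a = sig * tau ∨ a = sig * sig * tau := by
  revert a; decide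

section zs_class2

variable {H : Type u} [Group H]

theorem zs_comm_mul_left (hcen : ∀ x y g : H, ⁅x, y⁆ * g = g * ⁅x, y⁆) (x y u : H) :
    ⁅x * y, u⁆ = ⁅x, u⁆ * ⁅y, u⁆ := by
  have h1 : ⁅x * y, u⁆ = x * ⁅y, u⁆ * x⁻¹ * ⁅x, u⁆ := by
    simp only [commutatorElement_def]; group
  rw [h1, ← hcen y u x, mul_inv_cancel_right]
  exact hcen _ _ _

theorem zs_comm_mul_right (hcen : ∀ x y g : H, ⁅x, y⁆ * g = g * ⁅x, y⁆) (x y u : H) :
    ⁅x, y * u⁆ = ⁅x, y⁆ * ⁅x, u⁆ := by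
  rw [← commutatorElement_inv (y * u) x, zs_comm_mul_left hcen, mul_inv_rev,
    commutatorElement_inv, commutatorElement_inv]
  exact hcen _ _ _

theorem zs_comm_inv_left (hcen : ∀ x y g : H, ⁅x, y⁆ * g = g * ⁅x, y⁆) (x u : H) :
    ⁅x⁻¹, u⁆ = ⁅x, u⁆⁻¹ := by
  have h := zs_comm_mul_left hcen x x⁻¹ u
  rw [mul_inv_cancel, commutatorElement_one_left] at h
  exact eq_inv_of_mul_eq_one_right h.symm

theorem zs_comm_inv_right (hcen : ∀ x y g : H, ⁅x, y⁆ * g = g * ⁅x, y⁆) (x u : H) :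
    ⁅x, u⁻¹⁆ = ⁅x, u⁆⁻¹ := by
  have h := zs_comm_mul_right hcen x u u⁻¹
  rw [mul_inv_cancel, commutatorElement_one_right] at h
  exact eq_inv_of_mul_eq_one_right h.symm

/-- `y^n x = k^n x y^n` for central `k` with `y x = k x y` -/
theorem zs_pow_mul_comm' (k x y : H) (hk : ∀ g : H, k * g = g * k) (h1 : y * x = k * x * y)
    (n : ℕ) : y ^ n * x = k ^ n * x * y ^ n := by
  induction n with
  | zero => simp
  | succ n ih =>
    have he : ∀ g : H, k ^ n * g = g * k ^ n := fun g =>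
      ((Commute.pow_left (hk g) n)).eq
    calc y ^ (n + 1) * x = y * (y ^ n * x) := by rw [pow_succ', mul_assoc]
      _ = y * (k ^ n * x * y ^ n) := by rw [ih]
      _ = (y * k ^ n) * x * y ^ n := by simp only [mul_assoc]
      _ = (k ^ n * y) * x * y ^ n := by rw [he y]
      _ = k ^ n * (y * x) * y ^ n := by simp only [mul_assoc]
      _ = k ^ n * (k * x * y) * y ^ n := by rw [h1]
      _ = k ^ (n + 1) * x * y ^ (n + 1) := by
        rw [pow_succ, pow_succ']; simp only [mul_assoc]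

/-- `(x y)^n = x^n y^n k^(0+1+...+(n-1))` -/
theorem zs_mul_pow' (k x y : H) (hk : ∀ g : H, k * g = g * k) (h1 : y * x = k * x * y) (n : ℕ) :
    (x * y) ^ n = x ^ n * y ^ n * k ^ (∑ i ∈ Finset.range n, i) := by
  induction n with
  | zero => simp
  | succ n ih =>
    have he : ∀ (m : ℕ) (g : H), k ^ m * g = g * k ^ m := fun m g =>
      ((Commute.pow_left (hk g) m)).eq
    calc (x * y) ^ (n + 1) = (x * y) ^ n * (x * y) := pow_succ _ _
      _ = x ^ n * y ^ n * k ^ (∑ i ∈ Finset.range n, i) * (x * y) := by rw [ih]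
      _ = x ^ n * y ^ n * (k ^ (∑ i ∈ Finset.range n, i) * (x * y)) := by rw [mul_assoc]
      _ = x ^ n * y ^ n * ((x * y) * k ^ (∑ i ∈ Finset.range n, i)) := by rw [he]
      _ = x ^ n * (y ^ n * x) * y * k ^ (∑ i ∈ Finset.range n, i) := by simp only [mul_assoc]
      _ = x ^ n * (k ^ n * x * y ^ n) * y * k ^ (∑ i ∈ Finset.range n, i) := by
          rw [zs_pow_mul_comm' k x y hk h1]
      _ = (x ^ n * k ^ n) * (x * y ^ n * y * k ^ (∑ i ∈ Finset.range n, i)) := by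
          simp only [mul_assoc]
      _ = (k ^ n * x ^ n) * (x * y ^ n * y * k ^ (∑ i ∈ Finset.range n, i)) := by rw [he n]
      _ = k ^ n * (x ^ n * x * y ^ n * y * k ^ (∑ i ∈ Finset.range n, i)) := by
          simp only [mul_assoc]
      _ = (x ^ n * x * y ^ n * y * k ^ (∑ i ∈ Finset.range n, i)) * k ^ n := by rw [he n]
      _ = x ^ (n + 1) * y ^ (n + 1) * (k ^ (∑ i ∈ Finset.range n, i) * k ^ n) := by
          rw [pow_succ, pow_succ]; simp only [mul_assoc]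
      _ = x ^ (n + 1) * y ^ (n + 1) * k ^ (∑ i ∈ Finset.range (n + 1), i) := by
          rw [Finset.sum_range_succ, pow_add (a := k)]

/-- `(x y)^n = x^n y^n κ^(0+1+...+(n-1))` -/
theorem zs_mul_pow (hcen : ∀ x y g : H, ⁅x, y⁆ * g = g * ⁅x, y⁆) (x y : H) (n : ℕ) :
    (x * y) ^ n = x ^ n * y ^ n * ⁅y, x⁆ ^ (∑ i ∈ Finset.range n, i) := by
  apply zs_mul_pow' ⁅y, x⁆ x y (hcen y x)
  simp only [commutatorElement_def]; group

/-- for odd `r` with `κ^r = 1`: `(x y)^r = x^r y^r` -/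
theorem zs_mul_pow_odd (hcen : ∀ x y g : H, ⁅x, y⁆ * g = g * ⁅x, y⁆) (x y : H) (r : ℕ)
    (hodd : Odd r) (hk : ⁅y, x⁆ ^ r = 1) : (x * y) ^ r = x ^ r * y ^ r := by
  rw [zs_mul_pow hcen]
  obtain ⟨m, hm⟩ := hodd
  have h2 : (∑ i ∈ Finset.range r, i) = r * m := by
    have h3 := Finset.sum_range_id_mul_two r
    have h4 : r * (r - 1) = r * m * 2 := by
      rw [hm]; simp; ring
    omega
  rw [h2, pow_mul, hk, one_pow, mul_one]

end zs_class2

end Cfsg.Agent.Lib.Helper66.S3
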