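import Cfsg.Agent.Lib.Helper51.S3ZSnorm
import Cfsg.Agent.Lib.Helper51.S3ZSclass2

/-!
# S3 hive (S4305), leaf ZS, part 3: the core argument (helper51)
-/

set_option autoImplicit false

namespace Cfsg.Agent.Lib.Helper66.S3

universe u

open scoped commutatorElement

section zs_core

variable {H V : Type u} [Group H] [CommGroup V] [MulDistribMulAction A3 H]
  [MulDistribMulAction A3 V] [MulDistribMulAction H V] {p r : ℕ} {F : Subgroup H}

theorem zs_sig3_smul (x : H) : sig • sig • sig • x = x := by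
  rw [← mul_smul, ← mul_smul, zs_sig3, one_smul]

theorem zs_inv_of_gen (hFA : ∀ a : A3, ∀ f ∈ F, a • f ∈ F) (g : H)
    (hs : sig • g ∈ F ⊔ Subgroup.zpowers g) (ht : tau • g ∈ F ⊔ Subgroup.zpowers g) :
    ∀ a : A3, ∀ m ∈ F ⊔ Subgroup.zpowers g, a • m ∈ F ⊔ Subgroup.zpowers g := by
  have key : ∀ a : A3, a • g ∈ F ⊔ Subgroup.zpowers g →
      ∀ m ∈ F ⊔ Subgroup.zpowers g, a • m ∈ F ⊔ Subgroup.zpowers g := by
    intro a ha m hm
    have hle : F ⊔ Subgroup.zpowers g ≤
        (F ⊔ Subgroup.zpowers g).comap (MulDistribMulAction.toMonoidHom H a) := by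
      apply sup_le
      · intro f hf
        show a • f ∈ F ⊔ Subgroup.zpowers g
        exact Subgroup.mem_sup_left (hFA a f hf)
      · rw [Subgroup.zpowers_le]
        show a • g ∈ F ⊔ Subgroup.zpowers g
        exact ha
    exact hle hm
  have hS := key sig hs
  have hT := key tau ht
  intro a
  rcases zs_A3_cases a with rfl | rfl | rfl | rfl | rfl | rfl
  · intro m hm; rwa [one_smul]
  · exact hS
  · intro m hm; rw [mul_smul]; exact hS _ (hS _ hm)
  · exact hT
  · intro m hm; rw [mul_smul]; exact hS _ (hT _ hm)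
  · intro m hm; rw [mul_smul, mul_smul]; exact hS _ (hS _ (hT _ hm))

omit [MulDistribMulAction A3 H] in
theorem zs_abelian_of_gen (hcent : ∀ h : H, ∀ f ∈ F, h * f = f * h) (g : H)
    (htop : F ⊔ Subgroup.zpowers g = ⊤) : ∀ x y : H, x * y = y * x := by
  have h1 : F ⊔ Subgroup.zpowers g ≤ Subgroup.centralizer {g} := by
    apply sup_le
    · intro f hf
      rw [Subgroup.mem_centralizer_singleton_iff]
      exact (hcent g f hf).symm
    · rw [Subgroup.zpowers_le, Subgroup.mem_centralizer_singleton_iff]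
  have hg : ∀ x : H, x * g = g * x := by
    intro x
    have : x ∈ Subgroup.centralizer {g} := h1 (htop ▸ Subgroup.mem_top x)
    exact Subgroup.mem_centralizer_singleton_iff.1 this
  have h2 : F ⊔ Subgroup.zpowers g ≤ Subgroup.center H := by
    apply sup_le
    · intro f hf
      rw [Subgroup.mem_center_iff]
      intro x; exact hcent x f hf
    · rw [Subgroup.zpowers_le, Subgroup.mem_center_iff]
      intro x; exact hg x
  intro x y
  have : x ∈ Subgroup.center H := h2 (htop ▸ Subgroup.mem_top x)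
  exact ((Subgroup.mem_center_iff.1 this) y).symm

theorem zs_not_sig_trivial (cfg : Config H V p r F) (hcent : ∀ h : H, ∀ f ∈ F, h * f = f * h)
    (hodd : Odd r) (hs : ∀ x : H, x⁻¹ * sig • x ∈ F) : False := by
  obtain ⟨h, hh⟩ : ∃ h : H, h ∉ F := by
    by_contra hcon
    push Not at hcon
    exact cfg.Fne ((Subgroup.eq_top_iff' F).2 hcon)
  obtain ⟨x0, y0, hxy⟩ := cfg.nonab
  have hF' : ∀ x y : H, ⁅x, y⁆ ∈ F := fun x y => cfg.quot_comm (by
    rw [commutator_def]
    exact Subgroup.commutator_mem_commutator (Subgroup.mem_top x) (Subgroup.mem_top y))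
  have key : ∀ g : H, tau • g ∈ F ⊔ Subgroup.zpowers g → g ∈ F := by
    intro g ht
    have hsg : sig • g ∈ F ⊔ Subgroup.zpowers g := by
      have : sig • g = g * (g⁻¹ * sig • g) := by group
      rw [this]
      exact Subgroup.mul_mem _ (Subgroup.mem_sup_right (Subgroup.mem_zpowers g))
        (Subgroup.mem_sup_left (hs g))
    have hinv := zs_inv_of_gen cfg.FA g hsg ht
    rcases cfg.quot_irr (F ⊔ Subgroup.zpowers g) le_sup_left hinv with h1 | h1
    · rw [← h1]; exact Subgroup.mem_sup_right (Subgroup.mem_zpowers g)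
    · exact absurd (zs_abelian_of_gen hcent g h1 x0 y0) hxy
  have ht2 : tau • tau • h = h := by rw [← mul_smul, zs_tau2, one_smul]
  have h1 : tau • h * h ∈ F := by
    apply key
    have e : tau • (tau • h * h) = (tau • h * h) * ⁅h⁻¹, (tau • h)⁻¹⁆ := by
      rw [smul_mul', ht2]; simp only [commutatorElement_def]; group
    rw [e]
    exact Subgroup.mul_mem _ (Subgroup.mem_sup_right (Subgroup.mem_zpowers _))
      (Subgroup.mem_sup_left (hF' _ _))
  have h2 : h * (tau • h)⁻¹ ∈ F := by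
    apply key
    have e : tau • (h * (tau • h)⁻¹) = (h * (tau • h)⁻¹)⁻¹ := by
      rw [smul_mul', smul_inv', ht2]; group
    rw [e]
    exact Subgroup.inv_mem _ (Subgroup.mem_sup_right (Subgroup.mem_zpowers _))
  have h3 : h * h ∈ F := by
    have : h * h = (h * (tau • h)⁻¹) * (tau • h * h) := by group
    rw [this]; exact F.mul_mem h2 h1
  obtain ⟨m, hm⟩ := hodd
  have h4 : h ^ r ∈ F := cfg.quot_exp h
  have h5 : h ^ r = (h * h) ^ m * h := by rw [hm, pow_succ, pow_mul, pow_two]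
  have h6 : h = ((h * h) ^ m)⁻¹ * h ^ r := by rw [h5, inv_mul_cancel_left]
  apply hh
  rw [h6]
  exact F.mul_mem (F.inv_mem (F.pow_mem h3 m)) h4

theorem zs_polarize (hcen : ∀ x y g : H, ⁅x, y⁆ * g = g * ⁅x, y⁆)
    (hsK : ∀ x y : H, ⁅sig • x, sig • y⁆ = ⁅x, y⁆)
    (h0 : ∀ g : H, ⁅g, sig • g⁆ = 1) :
    ∀ x g : H, g * (x⁻¹ * sig • x) = (x⁻¹ * sig • x) * g := by
  intro x g
  obtain ⟨h, hh⟩ : ∃ h : H, h = sig • sig • x := ⟨_, rfl⟩
  have e1 : sig • h = x := by rw [hh]; exact zs_sig3_smul x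
  have hp : ⁅g, sig • h⁆ * ⁅h, sig • g⁆ = 1 := by
    have h1 := h0 (g * h)
    rw [smul_mul', zs_comm_mul_left hcen, zs_comm_mul_right hcen, zs_comm_mul_right hcen,
      h0 g, h0 h, one_mul, mul_one] at h1
    exact h1
  have e2 : ⁅h, sig • g⁆ = ⁅sig • sig • h, g⁆ := by
    have h1 := hsK (sig • sig • h) g
    rw [zs_sig3_smul h] at h1
    exact h1
  have e3 : ⁅sig • sig • h, g⁆ = ⁅g, sig • sig • h⁆⁻¹ := (commutatorElement_inv g _).symm
  rw [e2, e3, mul_inv_eq_one] at hp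
  have e4 : ⁅g, (sig • h)⁻¹ * sig • sig • h⁆ = 1 := by
    rw [zs_comm_mul_right hcen, zs_comm_inv_right hcen, hp, inv_mul_cancel]
  rw [e1] at e4
  exact (commutatorElement_eq_one_iff_commute.1 e4).eq

theorem zs_cube (hcen : ∀ x y g : H, ⁅x, y⁆ * g = g * ⁅x, y⁆)
    (hsK : ∀ x y : H, ⁅sig • x, sig • y⁆ = ⁅x, y⁆) (h : H) :
    ⁅h * (sig • h)⁻¹, sig • (h * (sig • h)⁻¹)⁆ = ⁅h, sig • h⁆ ^ 3 := by
  have e1 : ⁅sig • h, sig • sig • h⁆ = ⁅h, sig • h⁆ := hsK h (sig • h)
  have e2 : ⁅sig • sig • h, h⁆ = ⁅h, sig • h⁆ := by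
    have h1 := hsK (sig • h) (sig • sig • h)
    rw [zs_sig3_smul h] at h1
    rw [h1, e1]
  have e3 : ⁅h, sig • sig • h⁆⁻¹ = ⁅h, sig • h⁆ := by
    rw [commutatorElement_inv, e2]
  rw [smul_mul', smul_inv', zs_comm_mul_left hcen, zs_comm_mul_right hcen,
    zs_comm_mul_right hcen, zs_comm_inv_right hcen, zs_comm_inv_left hcen,
    zs_comm_inv_left hcen, zs_comm_inv_right hcen, commutatorElement_self, inv_one, one_mul,
    inv_inv, e1, e3, pow_three']

end zs_core

end Cfsg.Agent.Lib.Helper66.S3
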