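import Cfsg.Agent.Lib.Helper51.S3ZScore

/-!
# S3 hive (S4305), leaf ZS, part 4: the main core statement (helper51)
-/

set_option autoImplicit false

namespace Cfsg.Agent.Lib.Helper66.S3

universe u

open scoped commutatorElement

section zs_main

variable {H V : Type u} [Group H] [CommGroup V] [MulDistribMulAction A3 H]
  [MulDistribMulAction A3 V] [MulDistribMulAction H V] {p r : ℕ} {F : Subgroup H}

/-- the derived subgroup is invariant under `A3` -/
theorem zs_commutator_inv (b : A3) (x : H) (hx : x ∈ commutator H) : b • x ∈ commutator H := by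
  have h1 : (commutator H).map (MulDistribMulAction.toMonoidHom H b) ≤ commutator H := by
    rw [commutator_def, Subgroup.map_commutator]
    exact Subgroup.commutator_mono le_top le_top
  exact h1 (Subgroup.mem_map_of_mem _ hx)

/-- if the derived subgroup fixes a nontrivial subgroup `W` pointwise, it is trivial -/
theorem zs_derived_trivial (cfg : Config H V p r F) (hcent : ∀ h : H, ∀ f ∈ F, h * f = f * h)
    (W : Subgroup V) (hW0 : W ≠ ⊥) (hfix : ∀ x ∈ commutator H, ∀ w ∈ W, x • w = w) :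
    ∀ x ∈ commutator H, x = 1 := by
  let U : Subgroup V :=
    { carrier := {v | ∀ x ∈ commutator H, x • v = v}
      one_mem' := fun x _ => smul_one x
      mul_mem' := by
        intro a b ha hb x hx
        rw [smul_mul', ha x hx, hb x hx]
      inv_mem' := by
        intro a ha x hx
        rw [smul_inv', ha x hx] }
  have hUH : ∀ h : H, ∀ u ∈ U, h • u ∈ U := by
    intro h u hu x hx
    have hxF : x ∈ F := cfg.quot_comm hx
    rw [← mul_smul, ← hcent h x hxF, mul_smul, hu x hx]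
  have hUA : ∀ a : A3, ∀ u ∈ U, a • u ∈ U := by
    intro a u hu x hx
    have h1 : a⁻¹ • x ∈ commutator H := zs_commutator_inv a⁻¹ x hx
    have h2 := cfg.hyp.compat a (a⁻¹ • x) u
    rw [smul_inv_smul, hu _ h1] at h2
    exact h2.symm
  have hWU : W ≤ U := fun w hw x hx => hfix x hx w hw
  rcases cfg.hyp.irr U hUH hUA with h1 | h1
  · exfalso
    apply hW0
    rw [eq_bot_iff, ← h1]
    exact hWU
  · intro x hx
    apply cfg.faithful
    intro v
    have : v ∈ U := h1 ▸ Subgroup.mem_top v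
    exact this x hx

theorem zs51_core (cfg : Config H V p r F) (hcent : ∀ h : H, ∀ f ∈ F, h * f = f * h)
    (hrp : r ≠ p) (C : Subgroup H) (W : Subgroup V) (hW0 : W ≠ ⊥)
    (hWH : ∀ h : H, ∀ w ∈ W, h • w ∈ W)
    (hD1 : ∀ c ∈ C, ∀ v ∈ W, c • v = v)
    (hD2 : ∀ f ∈ F, f ∉ C → ∀ v ∈ W, f • v = v → v = 1)
    (hSL : (∀ v ∈ W, sig • v = v → v = 1) → ∀ f ∈ F, f⁻¹ * sig • f ∈ C)
    (hHH : (∀ w ∈ W, sig • w = w → w = 1) → ∀ (h : H) (w : V), w ∈ W →
        (h * (sig • h)⁻¹) • w = w → (sig • (h * (sig • h)⁻¹)) • w = w)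
    (hZZ : ∃ z ∈ commutator H, z ≠ 1 ∧ z ^ r = 1 ∧ sig • z = z ∧ tau • z = z⁻¹ ∧
      ∀ w ∈ commutator H, ∃ k : ℕ, w = z ^ k) :
    ∃ v ∈ W, v ≠ 1 ∧ sig • v = v := by
  by_contra hcon
  have hfix : ∀ v ∈ W, sig • v = v → v = 1 := by
    intro v hv hsv
    by_contra hv1
    exact hcon ⟨v, hv, hv1, hsv⟩
  have SL := hSL hfix
  have HH := hHH hfix
  obtain ⟨z0, hz0m, hz01, hz0r, hz0s, -, hz0gen⟩ := hZZ
  have : Fact r.Prime := ⟨cfg.rprime⟩
  have hKm : ∀ x y : H, ⁅x, y⁆ ∈ commutator H := fun x y => by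
    rw [commutator_def]
    exact Subgroup.commutator_mem_commutator (Subgroup.mem_top x) (Subgroup.mem_top y)
  have hcen : ∀ x y g : H, ⁅x, y⁆ * g = g * ⁅x, y⁆ := fun x y g =>
    (hcent g _ (cfg.quot_comm (hKm x y))).symm
  have hsH' : ∀ w ∈ commutator H, sig • w = w := by
    intro w hw
    obtain ⟨k, rfl⟩ := hz0gen w hw
    rw [smul_pow', hz0s]
  have hrH' : ∀ w ∈ commutator H, w ^ r = 1 := by
    intro w hw
    obtain ⟨k, rfl⟩ := hz0gen w hw
    rw [← pow_mul, mul_comm, pow_mul, hz0r, one_pow]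
  have hsK : ∀ x y : H, ⁅sig • x, sig • y⁆ = ⁅x, y⁆ := by
    intro x y
    have h1 : sig • ⁅x, y⁆ = ⁅sig • x, sig • y⁆ := by
      simp only [commutatorElement_def, smul_mul', smul_inv']
    rw [← h1]; exact hsH' _ (hKm x y)
  have hord : orderOf z0 = r := orderOf_eq_prime hz0r hz01
  have := cfg.hyp.finH
  have hr6 : Nat.Coprime r 6 := by
    have hdvd : r ∣ Nat.card H := hord ▸ orderOf_dvd_natCard z0
    exact Nat.Coprime.coprime_dvd_left hdvd cfg.hyp.copH
  have hr2 : Nat.Coprime r 2 := Nat.Coprime.coprime_dvd_right (by norm_num : 2 ∣ 6) hr6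
  have hr3 : Nat.Coprime 3 r := (Nat.Coprime.coprime_dvd_right (by norm_num : 3 ∣ 6) hr6).symm
  have hodd : Odd r := Nat.Coprime.odd_of_right hr2
  -- an element `h` with `c`, `σ c` not commuting
  have hex : ∃ h : H, ⁅h * (sig • h)⁻¹, sig • (h * (sig • h)⁻¹)⁆ ≠ 1 := by
    by_contra hall
    push Not at hall
    have h0 : ∀ g : H, ⁅g, sig • g⁆ = 1 := by
      intro g
      have h3 := zs_cube hcen hsK g
      rw [hall g] at h3
      have hr' := hrH' _ (hKm g (sig • g))
      have h4 : ⁅g, sig • g⁆ ^ (Nat.gcd 3 r) = 1 := pow_gcd_eq_one.2 ⟨h3.symm, hr'⟩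
      rw [hr3, pow_one] at h4
      exact h4
    have hpol := zs_polarize hcen hsK h0
    have hcs : ∀ x : H, x⁻¹ * sig • x ∈ F := by
      intro x
      have hxc : x⁻¹ * sig • x ∈ Subgroup.center H := by
        rw [Subgroup.mem_center_iff]; intro g; exact hpol x g
      have hFle : F ≤ Subgroup.center H := fun f hf => by
        rw [Subgroup.mem_center_iff]; intro g; exact hcent g f hf
      have hcA : ∀ a : A3, ∀ m ∈ Subgroup.center H, a • m ∈ Subgroup.center H := by
        intro a m hm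
        rw [Subgroup.mem_center_iff] at hm ⊢
        intro g
        have h1 := hm (a⁻¹ • g)
        have h2 := congrArg (fun y => a • y) h1
        simp only [smul_mul', smul_inv_smul] at h2
        exact h2
      rcases cfg.quot_irr _ hFle hcA with h1 | h1
      · rw [← h1]; exact hxc
      · exfalso
        obtain ⟨x0, y0, hxy⟩ := cfg.nonab
        have h2 : x0 ∈ Subgroup.center H := h1 ▸ Subgroup.mem_top x0
        exact hxy ((Subgroup.mem_center_iff.1 h2 y0).symm)
    exact zs_not_sig_trivial cfg hcent hodd hcs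
  obtain ⟨h, hh⟩ := hex
  obtain ⟨c, hc⟩ : ∃ c : H, c = h * (sig • h)⁻¹ := ⟨_, rfl⟩
  obtain ⟨d, hd⟩ : ∃ d : H, d = sig • c := ⟨_, rfl⟩
  obtain ⟨z, hz⟩ : ∃ z : H, z = ⁅c⁻¹, d⁻¹⁆ := ⟨_, rfl⟩
  rw [← hc, ← hd] at hh
  have hzm : z ∈ commutator H := hz ▸ hKm _ _
  have hz1 : z ≠ 1 := by
    intro h1
    apply hh
    rw [hz, zs_comm_inv_left hcen, zs_comm_inv_right hcen, inv_inv] at h1
    exact h1
  have hzr : z ^ r = 1 := hrH' z hzm
  have hzF : z ∈ F := cfg.quot_comm hzm
  have hzcen : ∀ g : H, z * g = g * z := fun g => (hcent g z hzF).symm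
  have hzC : z ∉ C := by
    intro hzc
    obtain ⟨k, hk⟩ := hz0gen z hzm
    have hkr : Nat.Coprime k r := by
      rw [Nat.coprime_comm, Nat.Prime.coprime_iff_not_dvd cfg.rprime]
      rintro ⟨q, rfl⟩
      apply hz1
      rw [hk, pow_mul, hz0r, one_pow]
    obtain ⟨m, -, hm⟩ := Nat.exists_mul_mod_eq_one_of_coprime hkr cfg.rprime.one_lt
    have hz0z : z0 = z ^ m := by
      rw [hk, ← pow_mul, ← pow_mod_orderOf, hord, hm, pow_one]
    have hz0C : z0 ∈ C := hz0z ▸ C.pow_mem hzc m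
    have hall : ∀ x ∈ commutator H, ∀ w ∈ W, x • w = w := by
      intro x hx w hw
      obtain ⟨k', rfl⟩ := hz0gen x hx
      exact hD1 _ (C.pow_mem hz0C k') w hw
    exact hz01 (zs_derived_trivial cfg hcent W hW0 hall z0 hz0m)
  -- `c ^ r` fixes `W`
  have hcr : ∀ w ∈ W, c ^ r • w = w := by
    intro w hw
    have e1 : c ^ r = h ^ r * ((sig • h)⁻¹) ^ r := by
      rw [hc]
      exact zs_mul_pow_odd hcen h (sig • h)⁻¹ r hodd (hrH' _ (hKm _ _))
    have hf : h ^ r ∈ F := cfg.quot_exp h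
    have e2 : c ^ r = ((h ^ r)⁻¹ * sig • (h ^ r))⁻¹ := by
      rw [e1, mul_inv_rev, inv_inv, smul_pow', inv_pow]
      exact (hcent _ _ hf).symm
    rw [e2]
    exact hD1 _ (C.inv_mem (SL _ hf)) w hw
  have hcz : Commute c z := (hzcen c).symm
  have hzfix : ∀ w ∈ W, z • w = w → w = 1 := hD2 z hzF hzC
  obtain ⟨w, hw, hw1⟩ : ∃ w ∈ W, w ≠ 1 := by
    by_contra hne
    push Not at hne
    exact hW0 ((Subgroup.eq_bot_iff_forall _).2 hne)
  obtain ⟨j, u, hu, hu1, huf⟩ :=
    zs_exists_fixed r p cfg.pprime hrp c z hcz hzr W hWH cfg.Vexp hcr hzfix w hw hw1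
  -- conjugation
  have hconj : ∀ j : ℕ, c * z ^ j = (d ^ j)⁻¹ * c * d ^ j := by
    intro j
    induction j with
    | zero => simp
    | succ j ih =>
      have h1 : d⁻¹ * c * d = c * z := by
        rw [hz]; simp only [commutatorElement_def]; group
      have hzd : d * z ^ j = z ^ j * d := ((Commute.pow_left (hzcen d) j)).eq.symm
      calc c * z ^ (j + 1) = (c * z) * z ^ j := by rw [pow_succ', mul_assoc]
        _ = d⁻¹ * c * d * z ^ j := by rw [h1]
        _ = d⁻¹ * c * (d * z ^ j) := by simp only [mul_assoc]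
        _ = d⁻¹ * c * (z ^ j * d) := by rw [hzd]
        _ = d⁻¹ * (c * z ^ j) * d := by simp only [mul_assoc]
        _ = d⁻¹ * ((d ^ j)⁻¹ * c * d ^ j) * d := by rw [ih]
        _ = (d ^ (j + 1))⁻¹ * c * d ^ (j + 1) := by
          rw [pow_succ, mul_inv_rev]; simp only [mul_assoc]
  obtain ⟨u', hu'⟩ : ∃ u' : V, u' = d ^ j • u := ⟨_, rfl⟩
  have hu'W : u' ∈ W := hu' ▸ hWH _ _ hu
  have hu'1 : u' ≠ 1 := by
    intro h1
    apply hu1
    rw [hu'] at h1
    exact MulAction.injective (d ^ j) (h1.trans (smul_one _).symm)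
  have hcu' : c • u' = u' := by
    rw [hconj j, mul_smul, mul_smul, ← hu'] at huf
    have h1 := inv_smul_eq_iff.1 huf
    rw [← hu'] at h1
    exact h1
  have hdu' : d • u' = u' := by
    rw [hd, hc]
    apply HH h u' hu'W
    rw [← hc]; exact hcu'
  have hzu' : z • u' = u' := by
    rw [hz, commutatorElement_def, inv_inv, inv_inv, mul_smul, mul_smul, mul_smul, hdu', hcu',
      inv_smul_eq_iff.2 hdu'.symm, inv_smul_eq_iff.2 hcu'.symm]
  exact hu'1 (hzfix u' hu'W hzu')

end zs_main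

end Cfsg.Agent.Lib.Helper66.S3
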