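import Cfsg.Agent.Lib.Helper66.S3Defs

/-!
# S3 hive (S4305), leaf ZS, part 1: the norm argument (helper51)
-/

set_option autoImplicit false

namespace Cfsg.Agent.Lib.Helper66.S3

universe u

section zs_general

variable {H V : Type u} [Group H] [CommGroup V] [MulDistribMulAction H V]

/-- powers reduce mod `r` when `x ^ r` fixes `w` -/
theorem zs_pow_smul_mod (r : ℕ) (x : H) (w : V) (hx : x ^ r • w = w) (n : ℕ) :
    x ^ n • w = x ^ (n % r) • w := by
  have h1 : ∀ m : ℕ, (x ^ r) ^ m • w = w := by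
    intro m
    induction m with
    | zero => simp
    | succ m ih => rw [pow_succ, mul_smul, hx, ih]
  conv_lhs => rw [← Nat.mod_add_div n r]
  rw [pow_add, pow_mul, mul_smul, h1]

/-- the norm of `w` under `x` is fixed by `x` -/
theorem zs_norm_fixed (r : ℕ) [NeZero r] (x : H) (w : V) (hx : x ^ r • w = w) :
    x • (∏ k : ZMod r, x ^ k.val • w) = ∏ k : ZMod r, x ^ k.val • w := by
  rw [Finset.smul_prod']
  have h1 : ∀ k : ZMod r, x • x ^ k.val • w = x ^ (k + 1).val • w := by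
    intro k
    rw [← mul_smul, ← pow_succ', zs_pow_smul_mod r x w hx (k.val + 1), ZMod.val_add,
      ZMod.val_one_eq_one_mod, Nat.add_mod_mod]
  simp_rw [h1]
  exact Equiv.prod_comp (Equiv.addRight (1 : ZMod r)) (fun k : ZMod r => x ^ k.val • w)

/-- the double product over the `r` elements `c z^j` -/
theorem zs_double (r : ℕ) [Fact r.Prime] (c z : H) (hcz : Commute c z) (hz : z ^ r = 1) (w : V)
    (hNz : ∏ i : ZMod r, z ^ i.val • w = 1) :
    ∏ j : ZMod r, ∏ k : ZMod r, (c * z ^ j.val) ^ k.val • w = w ^ r := by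
  rw [Finset.prod_comm]
  have h1 : ∀ k j : ZMod r, (c * z ^ j.val) ^ k.val • w = c ^ k.val • (z ^ (j * k).val • w) := by
    intro k j
    rw [(hcz.pow_right j.val).mul_pow, mul_smul, ← pow_mul]
    congr 2
    rw [ZMod.val_mul]
    conv_lhs => rw [← Nat.mod_add_div (j.val * k.val) r]
    rw [pow_add, pow_mul, hz, one_pow, mul_one]
  simp_rw [h1]
  simp_rw [← Finset.smul_prod']
  rw [Fintype.prod_eq_single (0 : ZMod r)]
  · simp [ZMod.card]
  · intro k hk
    have h2 : ∏ j : ZMod r, z ^ (j * k).val • w = ∏ i : ZMod r, z ^ i.val • w :=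
      Equiv.prod_comp (Equiv.mulRight₀ k hk) (fun i : ZMod r => z ^ i.val • w)
    rw [h2, hNz, smul_one]

/-- some `c z^j` has a nontrivial fixed vector -/
theorem zs_exists_fixed (r p : ℕ) [Fact r.Prime] (hp : p.Prime) (hrp : r ≠ p) (c z : H)
    (hcz : Commute c z) (hz : z ^ r = 1)
    (W : Subgroup V) (hWH : ∀ h : H, ∀ w ∈ W, h • w ∈ W) (hexp : ∀ v : V, v ^ p = 1)
    (hcr : ∀ w ∈ W, c ^ r • w = w)
    (hzfix : ∀ w ∈ W, z • w = w → w = 1) (w : V) (hw : w ∈ W) (hw1 : w ≠ 1) :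
    ∃ j : ℕ, ∃ u ∈ W, u ≠ 1 ∧ (c * z ^ j) • u = u := by
  by_contra hcon
  push Not at hcon
  have hNz : ∏ i : ZMod r, z ^ i.val • w = 1 := by
    apply hzfix _ (prod_mem (fun k _ => hWH _ _ hw))
    exact zs_norm_fixed r z w (by rw [hz, one_smul])
  have hE : ∀ j : ZMod r, ∏ k : ZMod r, (c * z ^ j.val) ^ k.val • w = 1 := by
    intro j
    by_contra hne
    have hmem : ∏ k : ZMod r, (c * z ^ j.val) ^ k.val • w ∈ W :=
      prod_mem (fun k _ => hWH _ _ hw)
    have hfix := zs_norm_fixed r (c * z ^ j.val) w (by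
      rw [(hcz.pow_right _).mul_pow, ← pow_mul, mul_comm j.val r, pow_mul, hz, one_pow, mul_one]
      exact hcr w hw)
    exact hcon j.val _ hmem hne hfix
  have h3 := zs_double r c z hcz hz w hNz
  simp_rw [hE] at h3
  rw [Finset.prod_const_one] at h3
  have hcop : Nat.Coprime r p := (Nat.coprime_primes (Fact.out : r.Prime) hp).2 hrp
  have h4 : w ^ (Nat.gcd r p) = 1 := pow_gcd_eq_one.2 ⟨h3.symm, hexp w⟩
  rw [hcop, pow_one] at h4
  exact hw1 h4

end zs_general

end Cfsg.Agent.Lib.Helper66.S3
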