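import Cfsg.Agent.S0659
import Cfsg.Agent.Lib.Helper32.PPrimeP
import Cfsg.Agent.Lib.Helper2.PComplement
import Cfsg.Agent.Lib.Helper47.Conj
import Cfsg.Agent.Lib.Helper51.TNPC2

set_option autoImplicit false
set_option linter.style.haveILetI false
set_option linter.unusedSectionVars false
open Cfsg

/-!
# Thompson's characteristic subgroup `K` deciding normal `p`-complements (`p` odd)

Basic tools: the condition `Cnd`, `Z(J(S))` as a characteristic subgroup, lifting normal
`p`-complements through central `p`-subgroups, characteristic subgroups of sections.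
-/

namespace Cfsg.Agent.Lib.Helper51.TK

universe u

/-- every `p'`-element normalizing `L` centralizes `L` -/
def Cnd (p : ℕ) {G : Type*} [Group G] (L : Subgroup G) : Prop :=
  ∀ g ∈ Subgroup.normalizer (L : Set G), (orderOf g).Coprime p →
    g ∈ Subgroup.centralizer (L : Set G)

/-- `Z(J(S))` of a group -/
def zj (S : Type*) [Group S] : Subgroup S := centerThompsonAOf (⊤ : Subgroup S)

section basic

variable {G : Type*} [Group G]

theorem zIn_map {G' : Type*} [Group G'] (f : G →* G') (hf : Function.Injective f)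
    (A : Subgroup G) : (zIn A).map f = zIn (A.map f) := by
  ext x
  constructor
  · rintro ⟨a, ha, rfl⟩
    rw [SetLike.mem_coe, mem_zIn] at ha
    rw [mem_zIn]
    refine ⟨Subgroup.mem_map_of_mem f ha.1, ?_⟩
    rintro _ ⟨b, hb, rfl⟩
    rw [← map_mul, ← map_mul, ha.2 b hb]
  · intro hx
    rw [mem_zIn] at hx
    obtain ⟨⟨a, ha, rfl⟩, h2⟩ := hx
    refine ⟨a, ?_, rfl⟩
    rw [SetLike.mem_coe, mem_zIn]
    refine ⟨ha, ?_⟩
    intro b hb
    apply hf
    rw [map_mul, map_mul]
    exact h2 _ (Subgroup.mem_map_of_mem f hb)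

theorem centerThompsonAOf_eq_zIn (P : Subgroup G) :
    centerThompsonAOf P = zIn (thompsonSubgroupAOf P) := rfl

theorem zj_map {G' : Type*} [Group G'] (f : G →* G') (hf : Function.Injective f) :
    (zj G).map f = centerThompsonAOf f.range := by
  unfold zj
  rw [centerThompsonAOf_eq_zIn, centerThompsonAOf_eq_zIn, zIn_map f hf,
    thompsonAOf_map f ⊤ (fun x _ hx => hf (by rw [hx, map_one])), MonoidHom.range_eq_map]

theorem zj_map_equiv (φ : G ≃* G) : (zj G).map φ.toMonoidHom = zj G := by
  rw [zj_map φ.toMonoidHom φ.injective]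
  have : φ.toMonoidHom.range = ⊤ := MonoidHom.range_eq_top.2 φ.surjective
  rw [this]; rfl

instance zj_characteristic : (zj G).Characteristic := by
  rw [Subgroup.characteristic_iff_map_eq]
  intro φ
  exact zj_map_equiv φ

theorem zj_le_centralizer : zj G ≤ Subgroup.centralizer (zj G : Set G) := by
  intro x hx
  rw [Subgroup.mem_centralizer_iff]
  intro y hy
  have hx' : x ∈ zIn (thompsonSubgroupAOf (⊤ : Subgroup G)) := hx
  have hy' : y ∈ zIn (thompsonSubgroupAOf (⊤ : Subgroup G)) := hy
  rw [mem_zIn] at hx' hy'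
  exact hx'.2 y hy'.1

theorem thompson_le_centralizer_zj :
    thompsonSubgroupAOf (⊤ : Subgroup G) ≤ Subgroup.centralizer (zj G : Set G) := by
  intro x hx
  rw [Subgroup.mem_centralizer_iff]
  intro y hy
  have hy' : y ∈ zIn (thompsonSubgroupAOf (⊤ : Subgroup G)) := hy
  rw [mem_zIn] at hy'
  exact (hy'.2 x hx).symm

theorem centerThompsonAOf_centralizer_zj [Finite G] :
    centerThompsonAOf (Subgroup.centralizer (zj G : Set G)) = zj G := by
  have h := thompsonAOf_eq_of_le (U := Subgroup.centralizer (zj G : Set G)) (S := ⊤) le_top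
    thompson_le_centralizer_zj
  rw [centerThompsonAOf_eq_zIn, h]
  rfl

theorem zj_ne_bot [Finite G] {p : ℕ} [Fact p.Prime] (hG : IsPGroup p G) [Nontrivial G] :
    zj G ≠ ⊥ := by
  unfold zj
  rw [centerThompsonAOf_eq_zIn]
  apply zIn_ne_bot (p := p)
  · exact hG.to_subgroup _
  · apply thompsonAOf_ne_bot
    exact top_ne_bot

end basic

section central

variable {X : Type*} [Group X]

/-- Lifting a normal `p`-complement through a central `p`-subgroup. -/
theorem hnpc_of_central_quotient [Finite X] {p : ℕ} [hp : Fact p.Prime] (Z : Subgroup X)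
    [hZn : Z.Normal] (hZc : Z ≤ Subgroup.center X) (hZp : IsPGroup p Z)
    (h : HasNormalPComplement p (X ⧸ Z)) : HasNormalPComplement p X := by
  obtain ⟨Nb, hNbn, hcop, k, hk⟩ := npcn_of_hnpc h
  have := hNbn
  set T : Subgroup X := Nb.comap (QuotientGroup.mk' Z) with hT
  have hTn : T.Normal := inferInstance
  have hZT : Z ≤ T := by
    intro z hz
    rw [hT, Subgroup.mem_comap]
    have : QuotientGroup.mk' Z z = 1 := (QuotientGroup.eq_one_iff z).2 hz
    rw [this]; exact Nb.one_mem
  have hTidx : T.index = p ^ k := by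
    rw [hT, Subgroup.index_comap_of_surjective Nb (QuotientGroup.mk'_surjective Z), hk]
  have hTcard : Nat.card T = Nat.card Nb * Nat.card Z := by
    rw [hT, card_comap_of_surjective _ (QuotientGroup.mk'_surjective Z) Nb,
      QuotientGroup.ker_mk']
  -- `Z` as a Sylow subgroup of `T`
  have hZT_p : IsPGroup p (Z.subgroupOf T) := hZp.comap_subtype
  have hZT_card : Nat.card (Z.subgroupOf T) = Nat.card Z :=
    Nat.card_congr (Subgroup.subgroupOfEquivOfLe hZT).toEquiv
  have hZT_idx : (Z.subgroupOf T).index = Nat.card Nb := by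
    have h1 : Nat.card (Z.subgroupOf T) * (Z.subgroupOf T).index = Nat.card T :=
      Subgroup.card_mul_index _
    rw [hZT_card, hTcard, mul_comm] at h1
    exact Nat.eq_of_mul_eq_mul_right Nat.card_pos h1
  have hnd : ¬ p ∣ (Z.subgroupOf T).index := by
    rw [hZT_idx, ← Nat.Prime.coprime_iff_not_dvd hp.out, Nat.coprime_comm]
    exact hcop
  let PT : Sylow p T := hZT_p.toSylow hnd
  have hPT : (PT : Subgroup T) = Z.subgroupOf T := rfl
  have hTnpc : HasNormalPComplement p T := by
    apply Cfsg.Agent.Lib.Helper2.hasNormalPComplement_of_normalizer_le_centralizer PT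
    intro g _
    rw [Subgroup.mem_centralizer_iff]
    intro z hz
    have hz' : z ∈ Z.subgroupOf T := hz
    rw [Subgroup.mem_subgroupOf] at hz'
    have := Subgroup.mem_center_iff.1 (hZc hz') (g : X)
    exact Subtype.ext this.symm
  obtain ⟨M, hMT, hMn, hMcop, j, hj⟩ := exists_normal_hall_of_normal T hTnpc
  apply hnpc_of_npcn
  refine ⟨M, hMn, hMcop, k + j, ?_⟩
  have h1 : Nat.card M * M.index = Nat.card X := Subgroup.card_mul_index _
  have h2 : Nat.card T * T.index = Nat.card X := Subgroup.card_mul_index _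
  rw [hj, hTidx, ← h1] at h2
  have h3 : Nat.card M * (p ^ j * p ^ k) = Nat.card M * M.index := by
    rw [← h2]; ring
  have h4 := Nat.eq_of_mul_eq_mul_left Nat.card_pos h3
  rw [← h4, pow_add, mul_comm]

end central

section chars

variable {H : Type*} [Group H]

/-- the preimage of a characteristic subgroup of the quotient by a characteristic subgroup -/
theorem char_comap_quotient (N : Subgroup H) [hNn : N.Normal] [hN : N.Characteristic]
    (L : Subgroup (H ⧸ N)) [hL : L.Characteristic] :
    (L.comap (QuotientGroup.mk' N)).Characteristic := by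
  rw [Subgroup.characteristic_iff_le_comap]
  intro φ x hx
  rw [Subgroup.mem_comap] at hx ⊢
  have hNφ : N.map φ.toMonoidHom = N := (Subgroup.characteristic_iff_map_eq.1 hN) φ
  have h1 : L.comap (QuotientGroup.congr N N φ hNφ).toMonoidHom = L :=
    (Subgroup.characteristic_iff_comap_eq.1 hL) _
  rw [← h1, Subgroup.mem_comap] at hx
  exact hx

/-- restriction of an automorphism to a characteristic subgroup -/
def restrictChar (A : Subgroup H) [hA : A.Characteristic] (φ : H ≃* H) : ↥A ≃* ↥A where
  toFun a := ⟨φ a, by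
    have h := (Subgroup.characteristic_iff_comap_eq.1 hA) φ
    have : (a : H) ∈ A.comap φ.toMonoidHom := by rw [h]; exact a.2
    exact this⟩
  invFun a := ⟨φ.symm a, by
    have h := (Subgroup.characteristic_iff_comap_eq.1 hA) φ.symm
    have : (a : H) ∈ A.comap φ.symm.toMonoidHom := by rw [h]; exact a.2
    exact this⟩
  left_inv a := by apply Subtype.ext; simp
  right_inv a := by apply Subtype.ext; simp
  map_mul' a b := by apply Subtype.ext; simp

theorem char_map_subtype (A : Subgroup H) [hA : A.Characteristic] (K₀ : Subgroup ↥A)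
    [hK : K₀.Characteristic] : (K₀.map A.subtype).Characteristic := by
  rw [Subgroup.characteristic_iff_le_comap]
  intro φ x hx
  obtain ⟨a, ha, rfl⟩ := hx
  rw [Subgroup.mem_comap]
  have h1 : K₀.comap (restrictChar A φ).toMonoidHom = K₀ :=
    (Subgroup.characteristic_iff_comap_eq.1 hK) _
  have h2 : a ∈ K₀.comap (restrictChar A φ).toMonoidHom := by rw [h1]; exact ha
  rw [Subgroup.mem_comap] at h2
  exact ⟨_, h2, rfl⟩

theorem char_map_equiv {H' : Type*} [Group H'] (e : H ≃* H') (L : Subgroup H)
    [hL : L.Characteristic] : (L.map e.toMonoidHom).Characteristic := by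
  rw [Subgroup.characteristic_iff_le_comap]
  intro φ x hx
  obtain ⟨a, ha, rfl⟩ := hx
  rw [Subgroup.mem_comap]
  have h1 : L.comap ((e.trans φ).trans e.symm).toMonoidHom = L :=
    (Subgroup.characteristic_iff_comap_eq.1 hL) _
  have h2 : a ∈ L.comap ((e.trans φ).trans e.symm).toMonoidHom := by rw [h1]; exact ha
  rw [Subgroup.mem_comap] at h2
  refine ⟨_, h2, ?_⟩
  simp

/-- the normalizer of `ι(A)` normalizes the image of a characteristic subgroup of `A` -/
theorem normalizer_map_le_of_char {G : Type*} [Group G] (ι : H →* G)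
    (hι : Function.Injective ι) (A : Subgroup H) (K₀ : Subgroup ↥A) [hK : K₀.Characteristic] :
    Subgroup.normalizer ((A.map ι : Subgroup G) : Set G) ≤
      Subgroup.normalizer (((K₀.map A.subtype).map ι : Subgroup G) : Set G) := by
  have := char_map_equiv (A.equivMapOfInjective ι hι) K₀
  have h1 := Cfsg.Agent.Lib.Helper47.normalizer_le_normalizer_map_characteristic (A.map ι)
    (K₀.map (A.equivMapOfInjective ι hι).toMonoidHom)
  have h2 : (K₀.map (A.equivMapOfInjective ι hι).toMonoidHom).map (A.map ι).subtype =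
      (K₀.map A.subtype).map ι := by
    rw [Subgroup.map_map, Subgroup.map_map]
    congr 1
  rw [h2] at h1
  exact h1

end chars

end Cfsg.Agent.Lib.Helper51.TK
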