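import Cfsg.Agent.Lib.Helper51.ThompsonK1

set_option autoImplicit false
set_option linter.style.haveILetI false
set_option linter.unusedSectionVars false
open Cfsg

/-!
# Thompson's characteristic subgroup `K`: the recursive construction

`K(S)` is the preimage in `C_S(Z(J(S)))` of `K(C_S(Z(J(S))) / Z(J(S)))`.
-/

namespace Cfsg.Agent.Lib.Helper51.TK

universe u

section defs

variable (S : Type*) [Group S]

/-- `C_S(Z(J(S)))` -/
def s0 : Subgroup S := Subgroup.centralizer (zj S : Set S)

instance s0_characteristic : (s0 S).Characteristic := by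
  unfold s0; infer_instance

theorem zj_le_s0 : zj S ≤ s0 S := zj_le_centralizer

/-- `Z(J(S))` inside `C_S(Z(J(S)))` -/
def w0 : Subgroup ↥(s0 S) := (zj S).subgroupOf (s0 S)

theorem w0_eq [Finite S] : w0 S = zj ↥(s0 S) := by
  have h1 := zj_map (s0 S).subtype (Subgroup.subtype_injective _)
  rw [Subgroup.range_subtype] at h1
  have h2 : centerThompsonAOf (s0 S) = zj S := centerThompsonAOf_centralizer_zj
  rw [h2] at h1
  unfold w0 Subgroup.subgroupOf
  rw [← h1, Subgroup.comap_map_eq_self_of_injective (Subgroup.subtype_injective _)]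

instance w0_characteristic [Finite S] : (w0 S).Characteristic := by
  rw [w0_eq]; infer_instance

instance w0_normal [Finite S] : (w0 S).Normal := Subgroup.normal_of_characteristic _

theorem w0_le_center : w0 S ≤ Subgroup.center ↥(s0 S) := by
  intro x hx
  rw [Subgroup.mem_center_iff]
  intro y
  have hx' : (x : S) ∈ zj S := hx
  have hy : (y : S) ∈ Subgroup.centralizer (zj S : Set S) := y.2
  rw [Subgroup.mem_centralizer_iff] at hy
  exact Subtype.ext (hy _ hx').symm

variable {S}

/-- the subgroup of `S` built from a subgroup of the section `C_S(ZJ(S)) / ZJ(S)` -/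
def mkK [Finite S] (KQ : Subgroup (↥(s0 S) ⧸ w0 S)) : Subgroup S :=
  (KQ.comap (QuotientGroup.mk' (w0 S))).map (s0 S).subtype

variable [Finite S] (KQ : Subgroup (↥(s0 S) ⧸ w0 S))

theorem mem_mkK {x : S} :
    x ∈ mkK KQ ↔ ∃ h : x ∈ s0 S, QuotientGroup.mk' (w0 S) ⟨x, h⟩ ∈ KQ := by
  unfold mkK
  constructor
  · rintro ⟨a, ha, rfl⟩
    exact ⟨a.2, ha⟩
  · rintro ⟨h, hx⟩
    exact ⟨⟨x, h⟩, hx, rfl⟩

theorem mkK_le_s0 : mkK KQ ≤ s0 S := fun _ hx => ((mem_mkK KQ).1 hx).1

theorem zj_le_mkK : zj S ≤ mkK KQ := by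
  intro x hx
  rw [mem_mkK]
  refine ⟨zj_le_s0 S hx, ?_⟩
  have : QuotientGroup.mk' (w0 S) ⟨x, zj_le_s0 S hx⟩ = 1 := by
    rw [QuotientGroup.mk'_apply, QuotientGroup.eq_one_iff]
    exact hx
  rw [this]; exact KQ.one_mem

instance mkK_characteristic [hKQ : KQ.Characteristic] : (mkK KQ).Characteristic := by
  unfold mkK
  have := char_comap_quotient (w0 S) KQ
  exact char_map_subtype (s0 S) _

theorem centralizer_mkK_le (h : Subgroup.centralizer (KQ : Set (↥(s0 S) ⧸ w0 S)) ≤ KQ) :
    Subgroup.centralizer (mkK KQ : Set S) ≤ mkK KQ := by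
  intro x hx
  rw [Subgroup.mem_centralizer_iff] at hx
  have hx0 : x ∈ s0 S := by
    unfold s0
    rw [Subgroup.mem_centralizer_iff]
    intro z hz
    exact hx z (zj_le_mkK KQ hz)
  rw [mem_mkK]
  refine ⟨hx0, h ?_⟩
  rw [Subgroup.mem_centralizer_iff]
  intro y hy
  obtain ⟨a, rfl⟩ := QuotientGroup.mk'_surjective (w0 S) y
  have ha : (a : S) ∈ mkK KQ := (mem_mkK KQ).2 ⟨a.2, hy⟩
  have h1 := hx _ ha
  rw [← map_mul, ← map_mul]
  congr 1
  exact Subtype.ext h1

end defs

section transport

variable {G : Type*} [Group G] {p : ℕ}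

theorem cnd_subgroupOf (H L : Subgroup G) (hLH : L ≤ H) (h : Cnd p L) :
    Cnd p (L.subgroupOf H) := by
  intro g hg hgo
  have hgN : (g : G) ∈ Subgroup.normalizer (L : Set G) := by
    rw [Subgroup.mem_normalizer_iff] at hg ⊢
    intro x
    constructor
    · intro hx
      have := (hg ⟨x, hLH hx⟩).1 (Subgroup.mem_subgroupOf.2 hx)
      exact Subgroup.mem_subgroupOf.1 this
    · intro hx
      have hxH : x ∈ H := by
        have h1 : (g : G)⁻¹ * ((g : G) * x * (g : G)⁻¹) * (g : G) ∈ H :=
          H.mul_mem (H.mul_mem (H.inv_mem g.2) (hLH hx)) g.2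
        have h2 : (g : G)⁻¹ * ((g : G) * x * (g : G)⁻¹) * (g : G) = x := by group
        rwa [h2] at h1
      have := (hg ⟨x, hxH⟩).2 (Subgroup.mem_subgroupOf.2 hx)
      exact Subgroup.mem_subgroupOf.1 this
  have hord : orderOf (g : G) = orderOf g := Subgroup.orderOf_coe g
  have hc := h (g : G) hgN (by rw [hord]; exact hgo)
  rw [Subgroup.mem_centralizer_iff] at hc ⊢
  intro y hy
  exact Subtype.ext (hc _ (Subgroup.mem_subgroupOf.1 hy))

theorem map_codRestrict {S : Type*} [Group S] (ι : S →* G) (H : Subgroup G)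
    (hH : ∀ s, ι s ∈ H) (K : Subgroup S) :
    K.map (ι.codRestrict H hH) = (K.map ι).subgroupOf H := by
  ext x
  rw [Subgroup.mem_subgroupOf]
  constructor
  · rintro ⟨k, hk, rfl⟩
    exact ⟨k, hk, rfl⟩
  · rintro ⟨k, hk, hkx⟩
    exact ⟨k, hk, Subtype.ext hkx⟩

theorem range_codRestrict {S : Type*} [Group S] (ι : S →* G) (H : Subgroup G)
    (hH : ∀ s, ι s ∈ H) :
    (ι.codRestrict H hH).range = ι.range.subgroupOf H := by
  rw [MonoidHom.range_eq_map, MonoidHom.range_eq_map, map_codRestrict]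

theorem range_le_normalizer_map_zj {S : Type*} [Group S] (ι : S →* G) :
    ι.range ≤ Subgroup.normalizer (((zj S).map ι : Subgroup G) : Set G) := by
  have h1 := Subgroup.le_normalizer_map (H := zj S) ι
  have h2 : Subgroup.normalizer ((zj S : Subgroup S) : Set S) = ⊤ :=
    Subgroup.normalizer_eq_top_iff.2 (Subgroup.normal_of_characteristic _)
  rw [h2, ← MonoidHom.range_eq_map] at h1
  exact h1

end transport

section caseA

theorem caseA {p : ℕ} [hp : Fact p.Prime] (hp2 : p ≠ 2) {S : Type u} [Group S] [Finite S]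
    (hS : IsPGroup p S) (K : Subgroup S) {G : Type u} [Group G] [Finite G] (ι : S →* G)
    (hι : Function.Injective ι) (hidx : ¬ p ∣ ι.range.index) (hcnd : Cnd p (K.map ι))
    (IH : ∀ (G' : Type u) [Group G'] [Finite G'], Nat.card G' < Nat.card G → ∀ ι' : S →* G',
      Function.Injective ι' → ¬ p ∣ ι'.range.index → Cnd p (K.map ι') →
        HasNormalPComplement p G')
    (hne : Subgroup.normalizer (((zj S).map ι : Subgroup G) : Set G) ≠ ⊤) :
    HasNormalPComplement p G := by
  have hrH : ι.range ≤ Subgroup.normalizer (((zj S).map ι : Subgroup G) : Set G) :=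
    range_le_normalizer_map_zj ι
  have hιH : ∀ s, ι s ∈ Subgroup.normalizer (((zj S).map ι : Subgroup G) : Set G) :=
    fun s => hrH ⟨s, rfl⟩
  have hcard : Nat.card ↥(Subgroup.normalizer (((zj S).map ι : Subgroup G) : Set G)) <
      Nat.card G :=
    lt_of_le_of_ne (Subgroup.card_le_card_group _)
      (fun h => hne ((Subgroup.card_eq_iff_eq_top _).1 h))
  have hP : IsPGroup p ι.range := hS.of_surjective ι.rangeRestrict ι.rangeRestrict_surjective
  have hH : HasNormalPComplement p
      ↥(Subgroup.normalizer (((zj S).map ι : Subgroup G) : Set G)) := by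
    apply IH _ hcard (ι.codRestrict _ hιH)
    · intro a b hab
      apply hι
      exact congrArg Subtype.val hab
    · rw [range_codRestrict]
      intro hdvd
      exact hidx (dvd_trans hdvd (Subgroup.relIndex_dvd_index_of_le hrH))
    · rw [map_codRestrict]
      apply cnd_subgroupOf _ _ _ hcnd
      exact le_trans (by rw [MonoidHom.range_eq_map]; exact Subgroup.map_mono le_top) hrH
  have hcoe : ((hP.toSylow hidx : Sylow p G) : Subgroup G) = ι.range := rfl
  apply Cfsg.Agent.S0659.result hp2 (hP.toSylow hidx)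
  rw [hcoe, ← zj_map ι hι]
  exact hH

end caseA

end Cfsg.Agent.Lib.Helper51.TK
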