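import Cfsg.Agent.Lib.Helper51.ThompsonK2

set_option autoImplicit false
set_option linter.style.haveILetI false
set_option linter.unusedSectionVars false
open Cfsg

/-!
# Thompson's characteristic subgroup `K`: the main induction

`exists_good`: for odd `p`, every finite `p`-group `S` has a characteristic subgroup `K` with
`C_S(K) ≤ K` such that, for every embedding of `S` as a Sylow `p`-subgroup of a finite group `G`,
`G` has a normal `p`-complement as soon as the `p'`-elements of `N_G(K)` centralize `K`.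
Proof: Glauberman--Thompson (`S0659`) and a recursion through `C_S(ZJ(S)) / ZJ(S)`.
-/

namespace Cfsg.Agent.Lib.Helper51.TK

universe u

section caseB

open Cfsg.Agent.Lib.Helper51.TNPC in
theorem caseB {p : ℕ} [hp : Fact p.Prime] {S : Type u} [Group S] [Finite S]
    (hS : IsPGroup p S) (KQ : Subgroup (↥(s0 S) ⧸ w0 S)) [hKQc : KQ.Characteristic]
    (hKQ : ∀ (G' : Type u) [Group G'] [Finite G'] (ι' : (↥(s0 S) ⧸ w0 S) →* G'),
      Function.Injective ι' → ¬ p ∣ ι'.range.index → Cnd p (KQ.map ι') →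
        HasNormalPComplement p G')
    {G : Type u} [Group G] [Finite G] (ι : S →* G) (hι : Function.Injective ι)
    (hidx : ¬ p ∣ ι.range.index) (hcnd : Cnd p ((mkK KQ).map ι))
    (hnorm : ((zj S).map ι).Normal) : HasNormalPComplement p G := by
  have := hnorm
  have hG0n : (Subgroup.centralizer (((zj S).map ι : Subgroup G) : Set G)).Normal :=
    inferInstance
  have hP : IsPGroup p ι.range := hS.of_surjective ι.rangeRestrict ι.rangeRestrict_surjective
  have hι0mem : ∀ s : ↥(s0 S), (ι.comp (s0 S).subtype) s ∈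
      Subgroup.centralizer (((zj S).map ι : Subgroup G) : Set G) := by
    intro s
    rw [Subgroup.mem_centralizer_iff]
    rintro _ ⟨z, hz, rfl⟩
    have hs : (s : S) ∈ Subgroup.centralizer (zj S : Set S) := s.2
    rw [Subgroup.mem_centralizer_iff] at hs
    have := hs z hz
    show ι z * ι (s : S) = ι (s : S) * ι z
    rw [← map_mul, ← map_mul, this]
  obtain ⟨G0, hG0⟩ : ∃ G0 : Subgroup G,
      G0 = Subgroup.centralizer (((zj S).map ι : Subgroup G) : Set G) := ⟨_, rfl⟩
  rw [← hG0] at hι0mem hG0n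
  have := hG0n
  obtain ⟨ι0, hι0⟩ : ∃ ι0 : ↥(s0 S) →* ↥G0,
      ι0 = (ι.comp (s0 S).subtype).codRestrict G0 hι0mem := ⟨_, rfl⟩
  have hι0val : ∀ s, ((ι0 s : ↥G0) : G) = ι (s : S) := fun s => by rw [hι0]; rfl
  have hι0inj : Function.Injective ι0 := by
    intro a b hab
    apply Subtype.ext
    apply hι
    rw [← hι0val, ← hι0val, hab]
  have hWGle : (zj S).map ι ≤ G0 := by
    rw [hG0]
    rintro _ ⟨z, hz, rfl⟩
    rw [Subgroup.mem_centralizer_iff]
    rintro _ ⟨z', hz', rfl⟩
    have := Subgroup.mem_centralizer_iff.1 (zj_le_centralizer hz) z' hz'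
    rw [← map_mul, ← map_mul, this]
  obtain ⟨WG0, hWG0⟩ : ∃ WG0 : Subgroup ↥G0, WG0 = ((zj S).map ι).subgroupOf G0 := ⟨_, rfl⟩
  have hWG0n : WG0.Normal := by rw [hWG0]; exact hnorm.subgroupOf G0
  have hWG0c : WG0 ≤ Subgroup.center ↥G0 := by
    intro x hx
    rw [hWG0, Subgroup.mem_subgroupOf] at hx
    rw [Subgroup.mem_center_iff]
    intro y
    have hy : (y : G) ∈ Subgroup.centralizer (((zj S).map ι : Subgroup G) : Set G) := by
      rw [← hG0]; exact y.2
    rw [Subgroup.mem_centralizer_iff] at hy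
    exact Subtype.ext (hy _ hx).symm
  have hWG0p : IsPGroup p WG0 := by
    rw [hWG0]
    apply IsPGroup.comap_subtype
    exact hP.to_le (by rw [MonoidHom.range_eq_map]; exact Subgroup.map_mono le_top)
  have hmap : w0 S ≤ WG0.comap ι0 := by
    intro x hx
    rw [Subgroup.mem_comap, hWG0, Subgroup.mem_subgroupOf, hι0val]
    exact Subgroup.mem_map_of_mem ι hx
  obtain ⟨ιb, hιb⟩ : ∃ ιb : (↥(s0 S) ⧸ w0 S) →* (↥G0 ⧸ WG0),
      ιb = QuotientGroup.map (w0 S) WG0 ι0 hmap := ⟨_, rfl⟩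
  have hιb_mk : ∀ a, ιb (QuotientGroup.mk' (w0 S) a) = QuotientGroup.mk' WG0 (ι0 a) := by
    intro a; rw [hιb]; rfl
  have hιbinj : Function.Injective ιb := by
    rw [injective_iff_map_eq_one]
    intro y hy
    obtain ⟨a, rfl⟩ := QuotientGroup.mk'_surjective (w0 S) y
    rw [hιb_mk, QuotientGroup.mk'_apply, QuotientGroup.eq_one_iff, hWG0,
      Subgroup.mem_subgroupOf, hι0val] at hy
    obtain ⟨z, hz, hz2⟩ := hy
    have : z = (a : S) := hι hz2
    rw [QuotientGroup.mk'_apply, QuotientGroup.eq_one_iff]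
    show (a : S) ∈ zj S
    rw [← this]; exact hz
  have hι0range : ι0.range = ι.range.subgroupOf G0 := by
    ext x
    rw [Subgroup.mem_subgroupOf]
    constructor
    · rintro ⟨s, rfl⟩
      rw [hι0val]; exact ⟨_, rfl⟩
    · rintro ⟨s, hs⟩
      have hs0 : s ∈ s0 S := by
        unfold s0
        rw [Subgroup.mem_centralizer_iff]
        intro z hz
        apply hι
        rw [map_mul, map_mul, hs]
        have hx : (x : G) ∈ Subgroup.centralizer (((zj S).map ι : Subgroup G) : Set G) := by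
          rw [← hG0]; exact x.2
        exact Subgroup.mem_centralizer_iff.1 hx _ (Subgroup.mem_map_of_mem ι hz)
      refine ⟨⟨s, hs0⟩, ?_⟩
      apply Subtype.ext
      rw [hι0val]; exact hs
  have hι0idx : ¬ p ∣ ι0.range.index := by
    rw [hι0range]
    have h1 := Cfsg.Agent.Lib.Helper32.not_dvd_relIndex_inf_normal (hP.toSylow hidx) G0
    have hcoe : ((hP.toSylow hidx : Sylow p G) : Subgroup G) = ι.range := rfl
    rw [hcoe, Subgroup.inf_relIndex_right] at h1
    exact h1
  have hWG0le : WG0 ≤ ι0.range := by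
    rw [hι0range, hWG0]
    intro x hx
    rw [Subgroup.mem_subgroupOf] at hx ⊢
    exact (by rw [MonoidHom.range_eq_map]; exact Subgroup.map_mono le_top :
      (zj S).map ι ≤ ι.range) hx
  have hιbrange : ιb.range = ι0.range.map (QuotientGroup.mk' WG0) := by
    ext y
    constructor
    · rintro ⟨q, rfl⟩
      obtain ⟨a, rfl⟩ := QuotientGroup.mk'_surjective (w0 S) q
      rw [hιb_mk]
      exact Subgroup.mem_map_of_mem _ ⟨a, rfl⟩
    · rintro ⟨_, ⟨a, rfl⟩, rfl⟩
      exact ⟨QuotientGroup.mk' (w0 S) a, hιb_mk a⟩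
  have hιbidx : ¬ p ∣ ιb.range.index := by
    rw [hιbrange, Subgroup.index_map, QuotientGroup.ker_mk',
      MonoidHom.range_eq_top.2 (QuotientGroup.mk'_surjective WG0), Subgroup.index_top, mul_one,
      sup_eq_left.2 hWG0le]
    exact hι0idx
  -- the condition in the quotient
  have hcndb : Cnd p (KQ.map ιb) := by
    intro gb hgb hgo
    obtain ⟨g, rfl⟩ := QuotientGroup.mk'_surjective WG0 gb
    obtain ⟨i, j, hdec, ⟨e, he⟩, hcop⟩ := exists_pow_decomp (p := p) g
    have h1 : QuotientGroup.mk' WG0 (g ^ i) = 1 := by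
      have hx1 : ((QuotientGroup.mk' WG0 g) ^ i) ^ (p ^ e) = 1 := by
        rw [← map_pow, ← map_pow, he, map_one]
      have hd1 : orderOf ((QuotientGroup.mk' WG0 g) ^ i) ∣ p ^ e :=
        orderOf_dvd_of_pow_eq_one hx1
      have hd2 : orderOf ((QuotientGroup.mk' WG0 g) ^ i) ∣ orderOf (QuotientGroup.mk' WG0 g) :=
        orderOf_pow_dvd i
      have hc : (orderOf ((QuotientGroup.mk' WG0 g) ^ i)).Coprime (p ^ e) :=
        Nat.Coprime.coprime_dvd_left hd2 (Nat.Coprime.pow_right e hgo)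
      have := Nat.Coprime.eq_one_of_dvd hc hd1
      rw [map_pow]
      exact orderOf_eq_one_iff.1 this
    have hgb' : QuotientGroup.mk' WG0 g = QuotientGroup.mk' WG0 (g ^ j) := by
      conv_lhs => rw [hdec]
      rw [map_mul, h1, one_mul]
    rw [hgb'] at hgb ⊢
    have hbN : ((g ^ j : ↥G0) : G) ∈
        Subgroup.normalizer (((mkK KQ).map ι : Subgroup G) : Set G) := by
      apply mem_normalizer_of_conj_mem
      rintro _ ⟨k, hk, rfl⟩
      obtain ⟨hk0, hkQ⟩ := (mem_mkK KQ).1 hk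
      have h3 : ιb (QuotientGroup.mk' (w0 S) ⟨k, hk0⟩) ∈ KQ.map ιb :=
        Subgroup.mem_map_of_mem _ hkQ
      have h4 := ((Subgroup.mem_normalizer_iff.1 hgb) _).1 h3
      obtain ⟨q, hq, hq2⟩ := h4
      obtain ⟨a, rfl⟩ := QuotientGroup.mk'_surjective (w0 S) q
      rw [hιb_mk, hιb_mk, ← map_inv, ← map_mul, ← map_mul] at hq2
      have h6 : (ι0 a)⁻¹ * ((g ^ j) * ι0 ⟨k, hk0⟩ * (g ^ j)⁻¹) ∈ WG0 :=
        QuotientGroup.eq.1 hq2
      rw [hWG0, Subgroup.mem_subgroupOf] at h6
      obtain ⟨z, hz, hz2⟩ := h6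
      refine ⟨(a : S) * z, mul_mem ((mem_mkK KQ).2 ⟨a.2, hq⟩) (zj_le_mkK KQ hz), ?_⟩
      rw [map_mul, hz2]
      simp only [Subgroup.coe_mul, Subgroup.coe_inv, hι0val]
      group
    have hbo : (orderOf ((g ^ j : ↥G0) : G)).Coprime p := by
      rw [Subgroup.orderOf_coe]; exact hcop
    have hbC := hcnd _ hbN hbo
    rw [Subgroup.mem_centralizer_iff]
    rintro _ ⟨q, hq, rfl⟩
    obtain ⟨a, rfl⟩ := QuotientGroup.mk'_surjective (w0 S) q
    have ha : (a : S) ∈ mkK KQ := (mem_mkK KQ).2 ⟨a.2, hq⟩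
    have h7 := (Subgroup.mem_centralizer_iff.1 hbC) (ι a) (Subgroup.mem_map_of_mem ι ha)
    rw [hιb_mk, ← map_mul, ← map_mul]
    congr 1
    apply Subtype.ext
    simp only [Subgroup.coe_mul, hι0val]
    exact h7
  have h1 : HasNormalPComplement p (↥G0 ⧸ WG0) := hKQ _ ιb hιbinj hιbidx hcndb
  have h2 : HasNormalPComplement p ↥G0 := hnpc_of_central_quotient WG0 hWG0c hWG0p h1
  obtain ⟨M, hMG0, hMn, hMcop, k, hk⟩ := exists_normal_hall_of_normal G0 h2
  -- the quotient `G / G0` is a `p`-group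
  have hquot : IsPGroup p (G ⧸ G0) := by
    have hP0 : IsPGroup p ι0.range :=
      (hS.to_subgroup (s0 S)).of_surjective ι0.rangeRestrict ι0.rangeRestrict_surjective
    have hP0map : ((hP0.toSylow hι0idx : Sylow p ↥G0) : Subgroup ↥G0).map G0.subtype =
        (s0 S).map ι := by
      have hcoe : ((hP0.toSylow hι0idx : Sylow p ↥G0) : Subgroup ↥G0) = ι0.range := rfl
      rw [hcoe, MonoidHom.range_eq_map, Subgroup.map_map]
      have : G0.subtype.comp ι0 = ι.comp (s0 S).subtype := by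
        ext s; exact hι0val s
      rw [this, ← Subgroup.map_map, ← MonoidHom.range_eq_map, Subgroup.range_subtype]
    have hfr := Sylow.normalizer_sup_eq_top (hP0.toSylow hι0idx)
    rw [hP0map] at hfr
    intro x
    obtain ⟨g, rfl⟩ := QuotientGroup.mk'_surjective G0 x
    have hg : g ∈ Subgroup.normalizer (((s0 S).map ι : Subgroup G) : Set G) ⊔ G0 := by
      rw [hfr]; trivial
    have hg' : g ∈ ((Subgroup.normalizer (((s0 S).map ι : Subgroup G) : Set G) ⊔ G0 :
        Subgroup G) : Set G) := hg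
    rw [Subgroup.mul_normal] at hg'
    obtain ⟨n, hn, c, hc, rfl⟩ := Set.mem_mul.1 hg'
    have := char_comap_quotient (w0 S) KQ
    have hnK : n ∈ Subgroup.normalizer (((mkK KQ).map ι : Subgroup G) : Set G) :=
      normalizer_map_le_of_char ι hι (s0 S) (KQ.comap (QuotientGroup.mk' (w0 S))) hn
    obtain ⟨i, j, hdec, ⟨e, he⟩, hcop⟩ := exists_pow_decomp (p := p) n
    have hnj : n ^ j ∈ G0 := by
      have h1 : n ^ j ∈ Subgroup.normalizer (((mkK KQ).map ι : Subgroup G) : Set G) :=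
        Subgroup.pow_mem _ hnK j
      have h2 := hcnd _ h1 hcop
      rw [hG0]
      exact Subgroup.centralizer_le (Subgroup.map_mono (zj_le_mkK KQ)) h2
    refine ⟨e, ?_⟩
    have h3 : QuotientGroup.mk' G0 (n * c) = QuotientGroup.mk' G0 (n ^ i) := by
      have hc1 : QuotientGroup.mk' G0 c = 1 := (QuotientGroup.eq_one_iff c).2 hc
      have hn1 : QuotientGroup.mk' G0 (n ^ j) = 1 := (QuotientGroup.eq_one_iff _).2 hnj
      rw [map_mul, hc1, mul_one]
      conv_lhs => rw [hdec]
      rw [map_mul, hn1, mul_one]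
    rw [h3, ← map_pow, he, map_one]
  obtain ⟨a, ha⟩ := IsPGroup.iff_card.1 hquot
  apply hnpc_of_npcn
  refine ⟨M, hMn, hMcop, k + a, ?_⟩
  have e1 : Nat.card M * M.index = Nat.card G := Subgroup.card_mul_index _
  have e2 : Nat.card G0 * G0.index = Nat.card G := Subgroup.card_mul_index _
  rw [Subgroup.index_eq_card, ha, hk, ← e1] at e2
  have e3 : Nat.card M * (p ^ k * p ^ a) = Nat.card M * M.index := by
    rw [← e2]; ring
  have e4 := Nat.eq_of_mul_eq_mul_left Nat.card_pos e3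
  rw [← e4, pow_add]

end caseB

section main

/-- `K` is a characteristic self-centralizing subgroup of `S` deciding normal `p`-complements. -/
def Good (p : ℕ) (S : Type u) [Group S] (K : Subgroup S) : Prop :=
  K.Characteristic ∧ Subgroup.centralizer (K : Set S) ≤ K ∧
    ∀ (G : Type u) [Group G] [Finite G] (ι : S →* G), Function.Injective ι →
      ¬ p ∣ ι.range.index → Cnd p (K.map ι) → HasNormalPComplement p G

theorem step_aux {p : ℕ} [hp : Fact p.Prime] (hp2 : p ≠ 2) {S : Type u} [Group S] [Finite S]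
    (hS : IsPGroup p S) (KQ : Subgroup (↥(s0 S) ⧸ w0 S)) [hKQc : KQ.Characteristic]
    (hKQ : ∀ (G' : Type u) [Group G'] [Finite G'] (ι' : (↥(s0 S) ⧸ w0 S) →* G'),
      Function.Injective ι' → ¬ p ∣ ι'.range.index → Cnd p (KQ.map ι') →
        HasNormalPComplement p G') :
    ∀ (m : ℕ) (G : Type u) [Group G] [Finite G], Nat.card G = m → ∀ ι : S →* G,
      Function.Injective ι → ¬ p ∣ ι.range.index → Cnd p ((mkK KQ).map ι) →
        HasNormalPComplement p G := by
  intro m
  induction m using Nat.strong_induction_on with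
  | _ m ih =>
  intro G _ _ hm ι hι hidx hcnd
  by_cases hN : Subgroup.normalizer (((zj S).map ι : Subgroup G) : Set G) = ⊤
  · exact caseB hS KQ hKQ ι hι hidx hcnd (Subgroup.normalizer_eq_top_iff.1 hN)
  · apply caseA hp2 hS (mkK KQ) ι hι hidx hcnd _ hN
    intro G' _ _ hlt ι' hι' hidx' hcnd'
    exact ih (Nat.card G') (hm ▸ hlt) G' rfl ι' hι' hidx' hcnd'

theorem step {p : ℕ} [hp : Fact p.Prime] (hp2 : p ≠ 2) {S : Type u} [Group S] [Finite S]
    (hS : IsPGroup p S) (KQ : Subgroup (↥(s0 S) ⧸ w0 S)) (hKQ : Good p _ KQ) :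
    Good p S (mkK KQ) := by
  obtain ⟨hc, hcen, hprop⟩ := hKQ
  have := hc
  refine ⟨inferInstance, centralizer_mkK_le KQ hcen, ?_⟩
  intro G _ _ ι hι hidx hcnd
  exact step_aux hp2 hS KQ hprop _ G rfl ι hι hidx hcnd

theorem exists_good {p : ℕ} [hp : Fact p.Prime] (hp2 : p ≠ 2) :
    ∀ (n : ℕ) (S : Type u) [Group S] [Finite S], IsPGroup p S → Nat.card S = n →
      ∃ K : Subgroup S, Good p S K := by
  intro n
  induction n using Nat.strong_induction_on with
  | _ n ih =>
  intro S _ _ hS hn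
  by_cases htriv : Subsingleton S
  · refine ⟨⊤, inferInstance, le_top, ?_⟩
    intro G _ _ ι hι hidx _
    apply hnpc_of_coprime
    have h1 : ι.range = ⊥ := by
      rw [eq_bot_iff]
      rintro _ ⟨s, rfl⟩
      rw [Subsingleton.elim s 1, map_one]
      exact Subgroup.one_mem _
    rw [h1, Subgroup.index_bot] at hidx
    exact ((Nat.Prime.coprime_iff_not_dvd hp.out).2 hidx).symm
  · have hnt : Nontrivial S := not_subsingleton_iff_nontrivial.1 htriv
    have hQS : IsPGroup p (↥(s0 S) ⧸ w0 S) := (hS.to_subgroup _).to_quotient _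
    have hcard : Nat.card (↥(s0 S) ⧸ w0 S) < n := by
      have h1 : Nat.card ↥(s0 S) = Nat.card (↥(s0 S) ⧸ w0 S) * Nat.card (w0 S) :=
        Subgroup.card_eq_card_quotient_mul_card_subgroup (w0 S)
      have h2 : Nat.card (w0 S) = Nat.card (zj S) :=
        Nat.card_congr (Subgroup.subgroupOfEquivOfLe (zj_le_s0 S)).toEquiv
      have h3 : 1 < Nat.card (zj S) :=
        (Subgroup.one_lt_card_iff_ne_bot _).2 (zj_ne_bot hS)
      have h4 : Nat.card ↥(s0 S) ≤ n := hn ▸ Subgroup.card_le_card_group _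
      have h5 : 0 < Nat.card (↥(s0 S) ⧸ w0 S) := Nat.card_pos
      rw [h2] at h1
      nlinarith
    obtain ⟨KQ, hKQ⟩ := ih _ hcard (↥(s0 S) ⧸ w0 S) hQS rfl
    exact ⟨mkK KQ, step hp2 hS KQ hKQ⟩

end main

end Cfsg.Agent.Lib.Helper51.TK
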