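import Mathlib
import Cfsg.Agent.Lib.Helper44.TnsDefs

/-!
# Leaf TNS-G0 of S5979 (owner helper44): basis criterion for `IsKronSimilar`
-/

set_option autoImplicit false
open scoped MatrixGroups Kronecker
open Matrix Polynomial

namespace Cfsg.Agent.Lib.Helper44.Tns

universe v

variable {F : Type v} [Field F]

section finite

variable [Fintype F]

/-- TNS-G0 : basis criterion -/
theorem isKronSimilar_of_basis {n a b : ℕ} (e : Fin n ≃ Fin a × Fin b)
    (x : Matrix (Fin n) (Fin n) F) (A : Matrix (Fin a) (Fin a) F) (B : Matrix (Fin b) (Fin b) F)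
    (hA : IsUnit A.det) (hB : IsUnit B.det) (w : Module.Basis (Fin a × Fin b) F (Fin n → F))
    (h : ∀ j l, x *ᵥ w (j, l) = ∑ i, ∑ k, (A i j * B k l) • w (i, k)) :
    IsKronSimilar a b e x := by
  classical
  let b₀ : Module.Basis (Fin a × Fin b) F (Fin n → F) := (Pi.basisFun F (Fin n)).reindex e
  have hV : ∀ p q, b₀.toMatrix w p q = w q (e.symm p) := by
    intro p q
    simp [b₀, Module.Basis.toMatrix_apply]
  refine ⟨A, B, b₀.toMatrix w, w.toMatrix b₀, hA, hB, ?_, ?_⟩
  · exact Module.Basis.toMatrix_mul_toMatrix_flip b₀ w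
  · have key : Matrix.reindex e e x * b₀.toMatrix w = b₀.toMatrix w * (A ⊗ₖ B) := by
      ext p ⟨j, l⟩
      rw [Matrix.mul_apply, Matrix.mul_apply]
      have h1 : ∑ p', Matrix.reindex e e x p p' * b₀.toMatrix w p' (j, l) =
          (x *ᵥ w (j, l)) (e.symm p) := by
        rw [Matrix.mulVec, dotProduct]
        rw [← Equiv.sum_comp e.symm]
        apply Finset.sum_congr rfl
        intro p' _
        rw [hV]
        rfl
      rw [h1, h j l]
      rw [Fintype.sum_prod_type]
      simp only [Finset.sum_apply, Pi.smul_apply, smul_eq_mul]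
      apply Finset.sum_congr rfl
      intro i _
      apply Finset.sum_congr rfl
      intro k _
      rw [hV, Matrix.kroneckerMap_apply]
      ring
    have hVV : b₀.toMatrix w * w.toMatrix b₀ = 1 := Module.Basis.toMatrix_mul_toMatrix_flip b₀ w
    calc Matrix.reindex e e x = Matrix.reindex e e x * (b₀.toMatrix w * w.toMatrix b₀) := by
          rw [hVV, Matrix.mul_one]
      _ = (Matrix.reindex e e x * b₀.toMatrix w) * w.toMatrix b₀ := by rw [Matrix.mul_assoc]
      _ = b₀.toMatrix w * (A ⊗ₖ B) * w.toMatrix b₀ := by rw [key]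

end finite

end Cfsg.Agent.Lib.Helper44.Tns
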