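import Mathlib
import Cfsg.Agent.Lib.Helper44.TnsDefs
import Cfsg.Agent.Lib.Helper44.SLInvCyc

/-!
# Leaf TNS-G1 of S5979 (owner helper44): nonsquare scalar square
-/

set_option autoImplicit false
open scoped MatrixGroups Kronecker
open Matrix Polynomial

namespace Cfsg.Agent.Lib.Helper44.Tns

universe v

variable {F : Type v} [Field F]

theorem g1_A_mul_A (z : F) :
    (!![0, z; 1, 0] : Matrix (Fin 2) (Fin 2) F) * !![0, z; 1, 0] = z • (1 : Matrix (Fin 2) (Fin 2) F) := by
  ext i j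
  fin_cases i <;> fin_cases j <;> simp [Matrix.mul_apply, Fin.sum_univ_two]

theorem g1_kron_sq (b : ℕ) (z : F) :
    ((!![0, z; 1, 0] : Matrix (Fin 2) (Fin 2) F) ⊗ₖ (1 : Matrix (Fin b) (Fin b) F)) *
      ((!![0, z; 1, 0] : Matrix (Fin 2) (Fin 2) F) ⊗ₖ (1 : Matrix (Fin b) (Fin b) F)) =
      z • (1 : Matrix (Fin 2 × Fin b) (Fin 2 × Fin b) F) := by
  rw [← Matrix.mul_kronecker_mul, g1_A_mul_A, Matrix.mul_one, Matrix.smul_kronecker,
    Matrix.one_kronecker_one]

/-- conjugacy of matrices from conjugacy of the associated linear maps -/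
theorem g1_conj_of_equiv {ι : Type*} [Fintype ι] [DecidableEq ι] (X K : Matrix ι ι F)
    (T : (ι → F) ≃ₗ[F] (ι → F))
    (hT : ∀ w, T (Matrix.toLin' X w) = Matrix.toLin' K (T w)) :
    ∃ V V' : Matrix ι ι F, V * V' = 1 ∧ X = V * K * V' := by
  refine ⟨LinearMap.toMatrix' T.symm.toLinearMap, LinearMap.toMatrix' T.toLinearMap, ?_, ?_⟩
  · rw [← LinearMap.toMatrix'_comp]
    have : T.symm.toLinearMap ∘ₗ T.toLinearMap = LinearMap.id := by
      ext w
      simp
    rw [this, LinearMap.toMatrix'_id]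
  · have h1 : Matrix.toLin' X = T.symm.toLinearMap ∘ₗ Matrix.toLin' K ∘ₗ T.toLinearMap := by
      apply LinearMap.ext
      intro w
      simp only [LinearMap.comp_apply, LinearEquiv.coe_coe]
      rw [← hT w, LinearEquiv.symm_apply_apply]
    have h2 := congrArg LinearMap.toMatrix' h1
    rw [LinearMap.toMatrix'_toLin', LinearMap.toMatrix'_comp, LinearMap.toMatrix'_comp,
      LinearMap.toMatrix'_toLin', ← Matrix.mul_assoc] at h2
    exact h2

section finite

variable [Fintype F]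

/-- TNS-G1 : nonsquare scalar square -/
theorem isKronSimilar_of_nonsquare {n b : ℕ} (hn : n = 2 * b) (e : Fin n ≃ Fin 2 × Fin b)
    (x : Matrix (Fin n) (Fin n) F) (z : F) (hz : ¬ IsSquare z)
    (hxx : x * x = z • (1 : Matrix (Fin n) (Fin n) F)) :
    IsKronSimilar 2 b e x := by
  classical
  have hz0 : z ≠ 0 := by
    rintro rfl
    exact hz ⟨0, by simp⟩
  set X : Matrix (Fin 2 × Fin b) (Fin 2 × Fin b) F := Matrix.reindex e e x with hX
  set K : Matrix (Fin 2 × Fin b) (Fin 2 × Fin b) F :=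
    (!![0, z; 1, 0] : Matrix (Fin 2) (Fin 2) F) ⊗ₖ (1 : Matrix (Fin b) (Fin b) F) with hK
  have hXX : X * X = z • (1 : Matrix (Fin 2 × Fin b) (Fin 2 × Fin b) F) := by
    rw [hX, Matrix.reindex_apply, Matrix.submatrix_mul_equiv, hxx]
    ext p q
    simp [Matrix.one_apply]
  have hKK : K * K = z • (1 : Matrix (Fin 2 × Fin b) (Fin 2 × Fin b) F) := g1_kron_sq b z
  have hy : ∀ w, Matrix.toLin' X (Matrix.toLin' X w) = z • w := by
    intro w
    rw [← LinearMap.comp_apply, ← Matrix.toLin'_mul, hXX]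
    simp
  have hy' : ∀ w, Matrix.toLin' K (Matrix.toLin' K w) = z • w := by
    intro w
    rw [← LinearMap.comp_apply, ← Matrix.toLin'_mul, hKK]
    simp
  have hfr : Module.finrank F (Fin 2 × Fin b → F) = 2 * b := by
    rw [Module.finrank_fintype_fun_eq_card, Fintype.card_prod, Fintype.card_fin, Fintype.card_fin]
  obtain ⟨T, hT⟩ := Cfsg.Agent.Lib.Helper44.SLInv.exists_equiv_of_nonsquare z hz b hfr
    (Matrix.toLin' X) (Matrix.toLin' K) hy hy'
  obtain ⟨V, V', hVV, hconj⟩ := g1_conj_of_equiv X K T hT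
  refine ⟨!![0, z; 1, 0], 1, V, V', ?_, ?_, hVV, hconj⟩
  · rw [Matrix.det_fin_two_of]
    simpa using hz0
  · simp

end finite

end Cfsg.Agent.Lib.Helper44.Tns
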