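import Mathlib
import Cfsg.Agent.Lib.Helper44.TnsDefs
import Cfsg.Agent.Lib.Helper44.SLInvCent
import Cfsg.Agent.Lib.Helper44.SLInvForm
import Cfsg.Agent.Lib.Helper51.TnsG0

/-!
# Leaf TNS-G2 of S5979 (owner helper44): square scalar square
-/

set_option autoImplicit false
open scoped MatrixGroups Kronecker
open Matrix Polynomial

namespace Cfsg.Agent.Lib.Helper44.Tns

universe v

variable {F : Type v} [Field F]

section finite

variable [Fintype F]

/-- the sum over a Kronecker column of `1 ⊗ diagonal d` -/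
theorem g2_sum_eq {b : ℕ} {M : Type*} [AddCommGroup M] [Module F M] (d : Fin b → F)
    (w : Fin 2 × Fin b → M) (j : Fin 2) (l : Fin b) :
    ∑ i, ∑ k, ((1 : Matrix (Fin 2) (Fin 2) F) i j * (Matrix.diagonal d) k l) • w (i, k) =
      d l • w (j, l) := by
  classical
  rw [Finset.sum_eq_single j]
  · rw [Finset.sum_eq_single l]
    · simp
    · intro k _ hk
      rw [Matrix.diagonal_apply_ne _ hk, mul_zero, zero_smul]
    · intro h
      exact absurd (Finset.mem_univ l) h
  · intro i _ hi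
    apply Finset.sum_eq_zero
    intro k _
    rw [Matrix.one_apply_ne hi, zero_mul, zero_smul]
  · intro h
    exact absurd (Finset.mem_univ j) h

/-- TNS-G2 : square scalar square -/
theorem isKronSimilar_of_square {n b : ℕ} (hn : n = 2 * b) (hb : 0 < b) (e : Fin n ≃ Fin 2 × Fin b)
    (h2 : (2 : F) ≠ 0)
    (hv : padicValNat 2 (Fintype.card F - 1) ≤ padicValNat 2 n)
    (x : Matrix (Fin n) (Fin n) F) (hdet : x.det = 1) (c : F) (hc : c ≠ 0)
    (hxx : x * x = (c * c) • (1 : Matrix (Fin n) (Fin n) F)) :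
    IsKronSimilar 2 b e x := by
  classical
  obtain ⟨Xl, hXl⟩ : ∃ Xl : (Fin n → F) →ₗ[F] (Fin n → F), Xl = Matrix.toLin' x := ⟨_, rfl⟩
  have hX : ∀ w, Xl (Xl w) = (c * c) • w := by
    intro w
    rw [hXl, ← LinearMap.comp_apply, ← Matrix.toLin'_mul, hxx]
    simp
  have hcompl := Cfsg.Agent.Lib.Helper44.SLInv.isCompl_eigen Xl c h2 hc hX
  have hdet2 := Cfsg.Agent.Lib.Helper44.SLInv.det_eq_of_eigen Xl c h2 hc hX
  obtain ⟨Ep, hEp⟩ : ∃ Ep : Submodule F (Fin n → F), Ep = LinearMap.ker (Xl - c • LinearMap.id) :=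
    ⟨_, rfl⟩
  obtain ⟨Em, hEm⟩ : ∃ Em : Submodule F (Fin n → F), Em = LinearMap.ker (Xl + c • LinearMap.id) :=
    ⟨_, rfl⟩
  rw [← hEp, ← hEm] at hcompl hdet2
  have hdim : Module.finrank F Ep + Module.finrank F Em = n := by
    rw [Submodule.finrank_add_eq_of_isCompl hcompl, Module.finrank_fintype_fun_eq_card,
      Fintype.card_fin]
  have hdetl : LinearMap.det Xl = 1 := by rw [hXl, LinearMap.det_toLin', hdet]
  have hn0 : n ≠ 0 := by omega
  have hem : Even (Module.finrank F Em) := by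
    by_contra hodd
    rw [Nat.not_even_iff_odd] at hodd
    have h3 : c ^ n = -1 := by
      rw [← hdim, pow_add]
      rw [hdet2, Odd.neg_pow hodd] at hdetl
      linear_combination (-1 : F) * hdetl
    exact Cfsg.Agent.Lib.Helper44.SLInv.pow_ne_neg_one h2 hn0 hv c hc h3
  have hep : Even (Module.finrank F Ep) := by
    have hne : Even n := ⟨b, by omega⟩
    rw [← hdim] at hne
    exact (Nat.even_add.mp hne).mpr hem
  obtain ⟨s, hs⟩ := hep
  obtain ⟨t, ht⟩ := hem
  have hst : s + t = b := by omega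
  -- bases of the eigenspaces
  let up : Module.Basis (Fin 2 × Fin s) F Ep :=
    (Module.finBasisOfFinrankEq F Ep (by rw [hs]; ring : Module.finrank F Ep = 2 * s)).reindex
      finProdFinEquiv.symm
  let um : Module.Basis (Fin 2 × Fin t) F Em :=
    (Module.finBasisOfFinrankEq F Em (by rw [ht]; ring : Module.finrank F Em = 2 * t)).reindex
      finProdFinEquiv.symm
  let wsum : Module.Basis ((Fin 2 × Fin s) ⊕ (Fin 2 × Fin t)) F (Fin n → F) :=
    (up.prod um).map (Submodule.prodEquivOfIsCompl Ep Em hcompl)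
  have hwl : ∀ q, wsum (Sum.inl q) = (up q : Fin n → F) := by
    intro q
    simp [wsum, Submodule.coe_prodEquivOfIsCompl']
  have hwr : ∀ q, wsum (Sum.inr q) = (um q : Fin n → F) := by
    intro q
    simp [wsum, Submodule.coe_prodEquivOfIsCompl']
  have hXp : ∀ v : Ep, Xl (v : Fin n → F) = c • (v : Fin n → F) := by
    intro v
    have hv2 : (v : Fin n → F) ∈ LinearMap.ker (Xl - c • LinearMap.id) := hEp ▸ v.2
    exact (Cfsg.Agent.Lib.Helper44.SLInv.mem_ker_sub Xl c _).1 hv2
  have hXm : ∀ v : Em, Xl (v : Fin n → F) = (-c) • (v : Fin n → F) := by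
    intro v
    have hv2 : (v : Fin n → F) ∈ LinearMap.ker (Xl + c • LinearMap.id) := hEm ▸ v.2
    rw [neg_smul]
    exact (Cfsg.Agent.Lib.Helper44.SLInv.mem_ker_add Xl c _).1 hv2
  let σ : Fin b ≃ Fin s ⊕ Fin t := (finCongr hst.symm).trans finSumFinEquiv.symm
  let τ : Fin 2 × Fin b ≃ (Fin 2 × Fin s) ⊕ (Fin 2 × Fin t) :=
    (Equiv.prodCongr (Equiv.refl _) σ).trans (Equiv.prodSumDistrib _ _ _)
  let w : Module.Basis (Fin 2 × Fin b) F (Fin n → F) := wsum.reindex τ.symm
  let d : Fin b → F := fun l => Sum.elim (fun _ => c) (fun _ => -c) (σ l)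
  have hd0 : ∀ l, d l ≠ 0 := by
    intro l
    show Sum.elim (fun _ => c) (fun _ => -c) (σ l) ≠ 0
    rcases σ l with l' | l'
    · simpa using hc
    · simpa using hc
  have hw : ∀ j l, w (j, l) = wsum (τ (j, l)) := by
    intro j l
    simp [w]
  refine isKronSimilar_of_basis e x 1 (Matrix.diagonal d) (by simp) ?_ w ?_
  · rw [Matrix.det_diagonal, isUnit_iff_ne_zero]
    exact Finset.prod_ne_zero_iff.mpr fun l _ => hd0 l
  · intro j l
    rw [g2_sum_eq d (fun q => w q) j l]
    have hx : x *ᵥ w (j, l) = Xl (w (j, l)) := by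
      rw [hXl, Matrix.toLin'_apply]
    rw [hx, hw]
    have hτ : τ (j, l) = (Equiv.prodSumDistrib _ _ _) (j, σ l) := rfl
    show Xl (wsum (τ (j, l))) = Sum.elim (fun _ => c) (fun _ => -c) (σ l) • wsum (τ (j, l))
    rw [hτ]
    rcases σ l with l' | l'
    · show Xl (wsum (Sum.inl (j, l'))) = c • wsum (Sum.inl (j, l'))
      rw [hwl, hXp]
    · show Xl (wsum (Sum.inr (j, l'))) = (-c) • wsum (Sum.inr (j, l'))
      rw [hwr, hXm]

end finite

end Cfsg.Agent.Lib.Helper44.Tns
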