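import Mathlib

/-!
# Tq hive (helper59, S5973 + S5987), chunk TQ-ARP: `r ∣ #Ω` forces `r ≠ p`
-/

set_option autoImplicit false

namespace Cfsg.Agent.Lib.Helper59.Tq

/-- common step: `r ∣ M` gives a numerator factor divisible by `r` -/
theorem arp_exists_factor (q d e m M : ℕ)
    (hM : M * ∏ j ∈ Finset.range m, (q ^ m - q ^ j)
      = ∏ j ∈ Finset.range m, (q ^ j *
        (if e = 0 then (q ^ (d - j) - 1) * (q ^ (d - j - 1) + 1)
          else (q ^ (d - j) + 1) * (q ^ (d - j - 1) - 1))))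
    (r : ℕ) (hr : r.Prime) (hrM : r ∣ M) :
    ∃ j, j < m ∧ (r ∣ q ^ j ∨ r ∣ (if e = 0 then (q ^ (d - j) - 1) * (q ^ (d - j - 1) + 1)
          else (q ^ (d - j) + 1) * (q ^ (d - j - 1) - 1))) := by
  have h1 : r ∣ ∏ j ∈ Finset.range m, (q ^ j *
        (if e = 0 then (q ^ (d - j) - 1) * (q ^ (d - j - 1) + 1)
          else (q ^ (d - j) + 1) * (q ^ (d - j - 1) - 1))) := by
    rw [← hM]; exact Dvd.dvd.mul_right hrM _
  obtain ⟨j, hj, hd⟩ := (Prime.dvd_finsetProd_iff hr.prime _).1 h1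
  exact ⟨j, Finset.mem_range.1 hj, (hr.dvd_mul).1 hd⟩

/-- TQ-ARP: `r ∣ #Ω` forces `r ≠ p` -/
theorem arith_ne_p (q p : ℕ) (hp : p.Prime) (hq : ∃ f, 1 ≤ f ∧ q = p ^ f) (d e m M : ℕ)
    (he : e = 0 ∨ e = 1) (hmd : m + 1 ≤ d)
    (hM : M * ∏ j ∈ Finset.range m, (q ^ m - q ^ j)
      = ∏ j ∈ Finset.range m, (q ^ j *
        (if e = 0 then (q ^ (d - j) - 1) * (q ^ (d - j - 1) + 1)
          else (q ^ (d - j) + 1) * (q ^ (d - j - 1) - 1))))
    (r : ℕ) (hr : r.Prime) (hrM : r ∣ M) : r ≠ p := by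
  intro hrp
  subst hrp
  obtain ⟨f, hf, hqf⟩ := hq
  have hq1 : 1 ≤ q := by rw [hqf]; exact Nat.one_le_pow _ _ hr.pos
  have hrq : r ∣ q := by rw [hqf]; exact dvd_pow_self r (by omega)
  have hL : ∏ j ∈ Finset.range m, (q ^ m - q ^ j)
      = (∏ j ∈ Finset.range m, q ^ j) * ∏ j ∈ Finset.range m, (q ^ (m - j) - 1) := by
    rw [← Finset.prod_mul_distrib]
    apply Finset.prod_congr rfl
    intro j hj
    have hjm : j < m := Finset.mem_range.1 hj
    rw [Nat.mul_sub, mul_one, ← pow_add, Nat.add_sub_cancel' hjm.le]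
  rw [hL, Finset.prod_mul_distrib, ← mul_assoc, mul_comm M, mul_assoc] at hM
  have hpos : 0 < ∏ j ∈ Finset.range m, q ^ j := Finset.prod_pos (fun j _ => pow_pos hq1 j)
  have hM' := Nat.eq_of_mul_eq_mul_left hpos hM
  have h2 : r ∣ ∏ j ∈ Finset.range m,
      (if e = 0 then (q ^ (d - j) - 1) * (q ^ (d - j - 1) + 1)
          else (q ^ (d - j) + 1) * (q ^ (d - j - 1) - 1)) := by
    rw [← hM']; exact Dvd.dvd.mul_right hrM _
  obtain ⟨j, hj, hd⟩ := (Prime.dvd_finsetProd_iff hr.prime _).1 h2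
  have hjm : j < m := Finset.mem_range.1 hj
  have hr1 : ¬ r ∣ 1 := fun h => by
    have := Nat.le_of_dvd one_pos h
    have := hr.one_lt
    omega
  have hA : r ∣ q ^ (d - j) := dvd_pow hrq (by omega)
  have hB : r ∣ q ^ (d - j - 1) := dvd_pow hrq (by omega)
  have hA1 : 1 ≤ q ^ (d - j) := Nat.one_le_pow _ _ hq1
  have hB1 : 1 ≤ q ^ (d - j - 1) := Nat.one_le_pow _ _ hq1
  rcases he with rfl | rfl
  · rw [if_pos rfl] at hd
    rcases (hr.dvd_mul).1 hd with h | h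
    · have h3 := Nat.dvd_sub hA h
      have h4 : q ^ (d - j) - (q ^ (d - j) - 1) = 1 := by omega
      rw [h4] at h3
      exact hr1 h3
    · exact hr1 ((Nat.dvd_add_right hB).1 h)
  · rw [if_neg one_ne_zero] at hd
    rcases (hr.dvd_mul).1 hd with h | h
    · exact hr1 ((Nat.dvd_add_right hA).1 h)
    · have h3 := Nat.dvd_sub hB h
      have h4 : q ^ (d - j - 1) - (q ^ (d - j - 1) - 1) = 1 := by omega
      rw [h4] at h3
      exact hr1 h3

end Cfsg.Agent.Lib.Helper59.Tq
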