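import Mathlib
import Cfsg.Agent.Lib.Helper51.TqARP

/-!
# Tq hive (helper59, S5973 + S5987), chunk TQ-ARODD: the arithmetic for `i = ord_r(q)` odd
-/

set_option autoImplicit false

namespace Cfsg.Agent.Lib.Helper59.Tq

theorem arodd_pred_mod_of_dvd {i d : ℕ} (hi : 0 < i) (hd : 0 < d) (h : d % i = 0) :
    (d - 1) % i = i - 1 := by
  obtain ⟨c, rfl⟩ := Nat.dvd_of_mod_eq_zero h
  have hc : 1 ≤ c := by
    rcases Nat.eq_zero_or_pos c with rfl | hc
    · simp at hd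
    · exact hc
  have h1 : i * c - 1 = i * (c - 1) + (i - 1) := by
    obtain ⟨c', rfl⟩ : ∃ c', c = c' + 1 := ⟨c - 1, by omega⟩
    rw [Nat.mul_succ, Nat.add_sub_cancel]
    omega
  rw [h1, Nat.mul_add_mod, Nat.mod_eq_of_lt (by omega)]

theorem arodd_pred_mod_of_not {i d : ℕ} (hi : 0 < i) (h : d % i ≠ 0) :
    (d - 1) % i = d % i - 1 := by
  have h0 := Nat.div_add_mod d i
  have hlt := Nat.mod_lt d hi
  have h1 : d - 1 = i * (d / i) + (d % i - 1) := by omega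
  rw [h1, Nat.mul_add_mod, Nat.mod_eq_of_lt (by omega)]

/-- the pure div/mod core of TQ-ARODD, with `D = d - e` -/
theorem arodd_core (i D m : ℕ) (hi : 0 < i) (hmD : m ≤ D)
    (hH : ∃ j0, j0 < m ∧ j0 ≤ D ∧ 1 ≤ D - j0 ∧ i ∣ D - j0) :
    (∀ j, 1 ≤ j → i * j ≤ D → ∃ a b, a + b * i = m ∧ b ≤ j ∧ a + i * j ≤ D) ↔
      (i ≤ m ∧ m % i ≤ D % i) := by
  obtain ⟨j0, hj0m, hj0D, hpos, hdvd⟩ := hH
  have hDdm := Nat.div_add_mod D i
  have hkl := Nat.mod_lt D hi
  constructor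
  · intro hL
    have hile : i ≤ D - j0 := Nat.le_of_dvd hpos hdvd
    have hJ1 : 1 ≤ D / i := Nat.div_pos (by omega) hi
    obtain ⟨a, b, hab, hbJ, haJ⟩ := hL (D / i) hJ1 (Nat.mul_div_le D i)
    have hak : a ≤ D % i := by omega
    have hai : a < i := by omega
    have hma : m % i = a := by
      rw [← hab, Nat.add_mul_mod_self_right, Nat.mod_eq_of_lt hai]
    refine ⟨?_, by omega⟩
    by_contra hlt
    push Not at hlt
    -- `m < i`, so `b = 0`
    have hb0 : b = 0 := by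
      rcases Nat.eq_zero_or_pos b with h | h
      · exact h
      · have : i ≤ b * i := Nat.le_mul_of_pos_left i h
        omega
    subst hb0
    -- `D % i = j0 % i ≤ j0`
    obtain ⟨t, ht⟩ := hdvd
    have hD : D = j0 + i * t := by omega
    have hk : D % i = j0 % i := by rw [hD, Nat.add_mul_mod_self_left]
    have := Nat.mod_le j0 i
    omega
  · rintro ⟨him, hmk⟩ j hj1 hjD
    have hmdm := Nat.mod_add_div' m i
    by_cases hj : j ≤ m / i
    · have h1 : j * i ≤ m := le_trans (Nat.mul_le_mul_right i hj) (Nat.div_mul_le_self m i)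
      refine ⟨m - j * i, j, Nat.sub_add_cancel h1, le_rfl, ?_⟩
      rw [mul_comm i j]
      omega
    · push Not at hj
      refine ⟨m % i, m / i, hmdm, hj.le, ?_⟩
      have h2 : j ≤ D / i := (Nat.le_div_iff_mul_le hi).2 (by rw [mul_comm]; exact hjD)
      have h3 : i * j ≤ i * (D / i) := Nat.mul_le_mul_left i h2
      omega

/-- TQ-ARODD: the arithmetic for `i` odd -/
theorem arith_odd (q p : ℕ) (hp : p.Prime) (hq : ∃ f, 1 ≤ f ∧ q = p ^ f) (d e m M : ℕ)
    (he : e = 0 ∨ e = 1) (hm : 1 ≤ m) (hmd : m + 1 ≤ d)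
    (hM : M * ∏ j ∈ Finset.range m, (q ^ m - q ^ j)
      = ∏ j ∈ Finset.range m, (q ^ j *
        (if e = 0 then (q ^ (d - j) - 1) * (q ^ (d - j - 1) + 1)
          else (q ^ (d - j) + 1) * (q ^ (d - j - 1) - 1))))
    (r : ℕ) (hr : r.Prime) (hr2 : r ≠ 2) (hrp : r ≠ p) (hrM : r ∣ M) (i : ℕ)
    (hi : i = orderOf ((q : ℕ) : ZMod r)) (hio : Odd i) :
    (∀ j, 1 ≤ j → i * j + e ≤ d → ∃ a b, a + b * i = m ∧ b ≤ j ∧ a + i * j + e ≤ d) ↔
      (i ≤ m ∧ (if e = 0 then 2 * (m % i) ≤ (2 * d) % (2 * i)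
        else ((2 * d) % (2 * i) = 0 ∨ 2 * (m % i) < (2 * d) % (2 * i)))) := by
  obtain ⟨f, hf, hqf⟩ := hq
  have hi0 : 0 < i := hio.pos
  have hq1 : 1 ≤ q := by rw [hqf]; exact Nat.one_le_pow _ _ hp.pos
  have hrq : ¬ r ∣ q := by
    intro h
    rw [hqf] at h
    exact hrp ((Nat.prime_dvd_prime_iff_eq hr hp).1 (hr.dvd_of_dvd_pow h))
  -- `r ∣ q ^ a - 1` iff `i ∣ a`
  have key1 : ∀ a, r ∣ q ^ a - 1 → i ∣ a := by
    intro a h
    rw [hi, orderOf_dvd_iff_pow_eq_one]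
    have h1 : ((q ^ a - 1 : ℕ) : ZMod r) = 0 := (ZMod.natCast_eq_zero_iff _ _).2 h
    rw [Nat.cast_sub (Nat.one_le_pow _ _ hq1), Nat.cast_pow, Nat.cast_one, sub_eq_zero] at h1
    exact h1
  -- `r ∤ q ^ a + 1`
  have key2 : ∀ a, ¬ r ∣ q ^ a + 1 := by
    intro a h
    have h1 : ((q ^ a + 1 : ℕ) : ZMod r) = 0 := (ZMod.natCast_eq_zero_iff _ _).2 h
    rw [Nat.cast_add, Nat.cast_pow, Nat.cast_one] at h1
    have h2 : ((q : ℕ) : ZMod r) ^ a = -1 := eq_neg_of_add_eq_zero_left h1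
    have h3 : ((q : ℕ) : ZMod r) ^ (a * 2) = 1 := by rw [pow_mul, h2]; simp
    have h4 : i ∣ a * 2 := by rw [hi]; exact orderOf_dvd_of_pow_eq_one h3
    have h5 : i ∣ a := (Nat.coprime_two_right.2 hio).dvd_of_dvd_mul_right h4
    have h6 : ((q : ℕ) : ZMod r) ^ a = 1 := by
      rw [hi] at h5; exact orderOf_dvd_iff_pow_eq_one.1 h5
    rw [h6] at h2
    -- `1 = -1` in `ZMod r`
    have h7 : ((2 : ℕ) : ZMod r) = 0 := by
      have : (1 : ZMod r) + 1 = 0 := by nth_rewrite 1 [h2]; simp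
      push_cast
      rw [← this]; norm_num
    have h8 : r ∣ 2 := (ZMod.natCast_eq_zero_iff _ _).1 h7
    exact hr2 ((Nat.prime_dvd_prime_iff_eq hr Nat.prime_two).1 h8)
  -- the numerator factor divisible by `r`
  obtain ⟨j0, hj0, hd⟩ := arp_exists_factor q d e m M hM r hr hrM
  have hH : ∃ j0, j0 < m ∧ j0 ≤ d - e ∧ 1 ≤ d - e - j0 ∧ i ∣ d - e - j0 := by
    refine ⟨j0, hj0, ?_, ?_, ?_⟩
    · rcases he with rfl | rfl <;> omega
    · rcases he with rfl | rfl <;> omega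
    · rcases hd with hd | hd
      · exact absurd (hr.dvd_of_dvd_pow hd) hrq
      · rcases he with rfl | rfl
        · rw [if_pos rfl] at hd
          rcases (hr.dvd_mul).1 hd with h | h
          · simpa using key1 _ h
          · exact absurd h (key2 _)
        · rw [if_neg one_ne_zero] at hd
          rcases (hr.dvd_mul).1 hd with h | h
          · exact absurd h (key2 _)
          · have := key1 _ h
            have h9 : d - 1 - j0 = d - j0 - 1 := by omega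
            rw [h9]; exact this
  have hcore := arodd_core i (d - e) m hi0 (by rcases he with rfl | rfl <;> omega) hH
  have h2d : (2 * d) % (2 * i) = 2 * (d % i) := Nat.mul_mod_mul_left 2 d i
  rw [h2d]
  have hL : (∀ j, 1 ≤ j → i * j + e ≤ d → ∃ a b, a + b * i = m ∧ b ≤ j ∧ a + i * j + e ≤ d) ↔
      (∀ j, 1 ≤ j → i * j ≤ d - e → ∃ a b, a + b * i = m ∧ b ≤ j ∧ a + i * j ≤ d - e) := by
    have hed : e ≤ d := by rcases he with rfl | rfl <;> omega
    constructor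
    · intro h j hj1 hj
      obtain ⟨a, b, h1, h2, h3⟩ := h j hj1 (by omega)
      exact ⟨a, b, h1, h2, by omega⟩
    · intro h j hj1 hj
      obtain ⟨a, b, h1, h2, h3⟩ := h j hj1 (by omega)
      exact ⟨a, b, h1, h2, by omega⟩
  rw [hL, hcore]
  have hmi := Nat.mod_lt m hi0
  have hdi := Nat.mod_lt d hi0
  rcases he with rfl | rfl
  · rw [if_pos rfl, Nat.sub_zero]
    constructor
    · rintro ⟨h1, h2⟩; exact ⟨h1, by omega⟩
    · rintro ⟨h1, h2⟩; exact ⟨h1, by omega⟩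
  · rw [if_neg one_ne_zero]
    by_cases hz : d % i = 0
    · rw [arodd_pred_mod_of_dvd hi0 (by omega) hz]
      constructor
      · rintro ⟨h1, _⟩; exact ⟨h1, Or.inl (by omega)⟩
      · rintro ⟨h1, _⟩; exact ⟨h1, by omega⟩
    · rw [arodd_pred_mod_of_not hi0 hz]
      constructor
      · rintro ⟨h1, h2⟩; exact ⟨h1, Or.inr (by omega)⟩
      · rintro ⟨h1, h2 | h2⟩
        · omega
        · exact ⟨h1, by omega⟩

end Cfsg.Agent.Lib.Helper59.Tq
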