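import Mathlib
import Cfsg.Agent.Lib.Helper51.S4Section
import Cfsg.Agent.Lib.Helper51.AgB
import Cfsg.Agent.Lib.Helper51.TNPC2
import Cfsg.Agent.Lib.Helper91.BaerInv
import Cfsg.Agent.Lib.Helper55.Cores
import Cfsg.Agent.Lib.Helper11.Quad

set_option autoImplicit false
set_option maxHeartbeats 800000

/-!
# A transvection on a normal abelian `2`-subgroup outside `O₂` of the quotient by the centralizer
forces a section isomorphic to `S₄`
-/

universe u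

namespace Cfsg.Agent.Lib.Helper51.Wc

open Subgroup Cfsg
open Cfsg.Agent.Lib.Helper33

variable {𝔥 : Type u} [Group 𝔥]

/-- Elements congruent modulo `C(V)` act alike on `V`. -/
theorem conj_eq_of_mul_inv_mem {V : Subgroup 𝔥} {x y : 𝔥}
    (h : y⁻¹ * x ∈ centralizer (V : Set 𝔥)) {v : 𝔥} (hv : v ∈ V) :
    x * v * x⁻¹ = y * v * y⁻¹ := by
  have h1 := mem_centralizer_iff.mp h v hv
  calc x * v * x⁻¹ = y * ((y⁻¹ * x) * v) * x⁻¹ := by group
    _ = y * (v * (y⁻¹ * x)) * x⁻¹ := by rw [h1]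
    _ = y * v * y⁻¹ := by group

/-- The commutator map `v ↦ d v d⁻¹ v⁻¹` on the abelian normal subgroup `V`. -/
noncomputable def commHom (V : Subgroup 𝔥) [hVn : V.Normal]
    (hVc : ∀ x ∈ V, ∀ y ∈ V, x * y = y * x) (d : 𝔥) : V →* V :=
  MonoidHom.mk' (fun v => ⟨d * v * d⁻¹ * (v : 𝔥)⁻¹,
    V.mul_mem (hVn.conj_mem v v.2 d) (V.inv_mem v.2)⟩) (by
    intro v w
    apply Subtype.ext
    simp only [Subgroup.coe_mul]
    have h1 := hVc (d * w * d⁻¹ * (w : 𝔥)⁻¹)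
      (V.mul_mem (hVn.conj_mem w w.2 d) (V.inv_mem w.2)) (v : 𝔥)⁻¹ (V.inv_mem v.2)
    calc d * ((v : 𝔥) * w) * d⁻¹ * ((v : 𝔥) * w)⁻¹
        = d * v * d⁻¹ * ((d * w * d⁻¹ * (w : 𝔥)⁻¹) * (v : 𝔥)⁻¹) := by group
      _ = d * v * d⁻¹ * ((v : 𝔥)⁻¹ * (d * w * d⁻¹ * (w : 𝔥)⁻¹)) := by rw [h1]
      _ = _ := by group)

theorem commHom_apply (V : Subgroup 𝔥) [hVn : V.Normal]
    (hVc : ∀ x ∈ V, ∀ y ∈ V, x * y = y * x) (d : 𝔥) (v : V) :
    ((commHom V hVc d v : V) : 𝔥) = d * v * d⁻¹ * (v : 𝔥)⁻¹ := rfl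

theorem involves_S4_of_transvection [Finite 𝔥] (V : Subgroup 𝔥) [hVn : V.Normal]
    (hVc : ∀ x ∈ V, ∀ y ∈ V, x * y = y * x) (hV2 : IsPGroup 2 V)
    (a : 𝔥) (ha2 : ∃ k : ℕ, a ^ (2 ^ k) = 1)
    (haK : a ∉ centralizer (V : Set 𝔥)) (ha2K : a ^ 2 ∈ centralizer (V : Set 𝔥))
    (htr : (V ⊓ centralizer {a}).relIndex V ≤ 2) (T : Sylow 2 𝔥)
    (hO : ∀ N : Subgroup 𝔥, N.Normal →
      (∀ n ∈ N, ∃ t ∈ (T : Subgroup 𝔥), t⁻¹ * n ∈ centralizer (V : Set 𝔥)) → a ∉ N) :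
    Involves (Equiv.Perm (Fin 4)) 𝔥 := by
  classical
  obtain ⟨K, hK⟩ : ∃ K : Subgroup 𝔥, K = centralizer (V : Set 𝔥) := ⟨_, rfl⟩
  haveI hKn : K.Normal := by rw [hK]; infer_instance
  rw [← hK] at haK ha2K hO
  have hactK : ∀ {x y : 𝔥}, y⁻¹ * x ∈ K → ∀ {v : 𝔥}, v ∈ V → x * v * x⁻¹ = y * v * y⁻¹ := by
    intro x y h v hv
    exact conj_eq_of_mul_inv_mem (hK ▸ h) hv
  obtain ⟨π, hπ⟩ : ∃ π : 𝔥 →* 𝔥 ⧸ K, π = QuotientGroup.mk' K := ⟨_, rfl⟩
  have hsurj : Function.Surjective π := hπ ▸ QuotientGroup.mk'_surjective K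
  have hker : ∀ x, π x = 1 ↔ x ∈ K := by
    intro x; rw [hπ]; exact QuotientGroup.eq_one_iff x
  have hπeq : ∀ {x y : 𝔥}, π x = π y → y⁻¹ * x ∈ K := by
    intro x y h
    rw [← hker, map_mul, map_inv, h, inv_mul_cancel]
  -- the involution
  have ht2 : orderOf (π a) = 2 := by
    apply orderOf_eq_prime
    · rw [← map_pow, hker]; exact ha2K
    · rw [Ne, hker]; exact haK
  have hO' : ∀ N : Subgroup (𝔥 ⧸ K), N.Normal → IsPGroup 2 N → π a ∉ N := by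
    intro N hNn hN2 haN
    refine hO (N.comap π) (hNn.comap π) ?_ haN
    intro n hn
    haveI := hNn
    have h1 : N ≤ Cfsg.pCore 2 (𝔥 ⧸ K) := Cfsg.Agent.Lib.Helper55.le_pCore 2 N hN2
    have h2 : Cfsg.pCore 2 (𝔥 ⧸ K) ≤ ((T.mapSurjective hsurj : Sylow 2 (𝔥 ⧸ K)) : Subgroup (𝔥 ⧸ K)) :=
      Cfsg.Agent.Lib.Helper11.pCore_le_sylow _
    have h3 : π n ∈ ((T.mapSurjective hsurj : Sylow 2 (𝔥 ⧸ K)) : Subgroup (𝔥 ⧸ K)) := h2 (h1 hn)
    rw [Sylow.coe_mapSurjective, Subgroup.mem_map] at h3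
    obtain ⟨t, ht, hte⟩ := h3
    exact ⟨t, ht, hπeq hte.symm⟩
  obtain ⟨h', hh1, hhodd, hhinv⟩ :=
    Cfsg.Agent.Lib.Helper91.exists_inverted_odd_of_not_mem_normal_two_group (π a) ht2 hO'
  obtain ⟨d₀, rfl⟩ := hsurj h'
  -- the odd part of a lift
  have hn₀ : orderOf d₀ ≠ 0 := (orderOf_pos d₀).ne'
  obtain ⟨j, m, hm, hjm⟩ := Nat.exists_eq_two_pow_mul_odd hn₀
  obtain ⟨d, hd⟩ : ∃ d, d = d₀ ^ (2 ^ j) := ⟨_, rfl⟩
  have hdm : d ^ m = 1 := by rw [hd, ← pow_mul, ← hjm, pow_orderOf_eq_one]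
  have hdodd : Odd (orderOf d) := Odd.of_dvd_nat hm (orderOf_dvd_of_pow_eq_one hdm)
  have hπd : π d = (π d₀) ^ (2 ^ j) := by rw [hd, map_pow]
  have hdK : d ∉ K := by
    intro hdK
    rw [← hker, hπd] at hdK
    have h1 : orderOf (π d₀) ∣ 2 ^ j := orderOf_dvd_of_pow_eq_one hdK
    obtain ⟨i, _, hi⟩ := (Nat.dvd_prime_pow Nat.prime_two).mp h1
    have : orderOf (π d₀) = 1 := by
      rcases Nat.eq_zero_or_pos i with h0 | h0
      · rw [hi, h0, pow_zero]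
      · exfalso
        rw [hi] at hhodd
        exact (Nat.not_even_iff_odd.mpr hhodd) (Nat.even_pow.mpr ⟨even_two, h0.ne'⟩)
    exact hh1 (orderOf_eq_one_iff.mp this)
  have hinv : π a * π d * (π a)⁻¹ = (π d)⁻¹ := by
    rw [hπd, ← inv_pow, ← hhinv, conj_pow]
  -- a square root of `d`
  obtain ⟨e, he⟩ := hdodd
  obtain ⟨c, hc⟩ : ∃ c, c = d ^ (e + 1) := ⟨_, rfl⟩
  have hcc : c * c = d := by
    rw [hc, ← pow_add]
    have : e + 1 + (e + 1) = orderOf d + 1 := by omega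
    rw [this, pow_succ, pow_orderOf_eq_one, one_mul]
  have hπc : π a * π c * (π a)⁻¹ = (π c)⁻¹ := by
    rw [hc, map_pow, ← inv_pow, ← hinv, conj_pow]
  have hπc' : π a * π c = (π c)⁻¹ * π a := by
    rw [← hπc]; group
  -- `a d` acts on `V` as `c⁻¹ a c`
  have hadK : (c⁻¹ * a * c)⁻¹ * (a * d) ∈ K := by
    apply hπeq
    rw [← hcc]
    simp only [map_mul, map_inv]
    rw [← mul_assoc, hπc']
  have hdinvK : (d⁻¹)⁻¹ * (a * d * a⁻¹) ∈ K := by
    apply hπeq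
    simp only [map_mul, map_inv]
    exact hinv
  -- the centralizers
  obtain ⟨C₁, hC₁⟩ : ∃ C₁, C₁ = V ⊓ centralizer {a} := ⟨_, rfl⟩
  obtain ⟨C₂, hC₂⟩ : ∃ C₂, C₂ = V ⊓ centralizer {c⁻¹ * a * c} := ⟨_, rfl⟩
  obtain ⟨Cd, hCd⟩ : ∃ Cd, Cd = V ⊓ centralizer {d} := ⟨_, rfl⟩
  have hC₂cj : C₂ = cj c⁻¹ C₁ := by
    ext x
    rw [mem_cj, hC₂, hC₁, inv_inv, Subgroup.mem_inf, Subgroup.mem_inf,
      mem_centralizer_singleton_iff, mem_centralizer_singleton_iff]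
    constructor
    · rintro ⟨hxV, hx⟩
      refine ⟨hVn.conj_mem x hxV c, ?_⟩
      calc c * x * c⁻¹ * a = c * (x * (c⁻¹ * a * c)) * c⁻¹ := by group
        _ = c * ((c⁻¹ * a * c) * x) * c⁻¹ := by rw [hx]
        _ = a * (c * x * c⁻¹) := by group
    · rintro ⟨hxV, hx⟩
      refine ⟨?_, ?_⟩
      · have := hVn.conj_mem _ hxV c⁻¹
        have e1 : c⁻¹ * (c * x * c⁻¹) * c⁻¹⁻¹ = x := by group
        rwa [e1] at this
      · calc x * (c⁻¹ * a * c) = c⁻¹ * ((c * x * c⁻¹) * a) * c := by group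
          _ = c⁻¹ * (a * (c * x * c⁻¹)) * c := by rw [hx]
          _ = c⁻¹ * a * c * x := by group
  have hidx₂ : C₂.relIndex V ≤ 2 := by
    have h1 : cj c⁻¹ V = V := Cfsg.Agent.Lib.Helper51.TNPC.cj_of_normal c⁻¹ V
    have h2 := relIndex_cj c⁻¹ C₁ V
    rw [h1, ← hC₂cj] at h2
    rw [h2, hC₁]; exact htr
  have hle : C₁ ⊓ C₂ ≤ Cd := by
    intro v hv
    rw [hC₁, hC₂, Subgroup.mem_inf, Subgroup.mem_inf, Subgroup.mem_inf] at hv
    obtain ⟨⟨hvV, hv1⟩, ⟨_, hv2⟩⟩ := hv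
    rw [mem_centralizer_singleton_iff] at hv1 hv2
    rw [hCd, Subgroup.mem_inf]
    refine ⟨hvV, ?_⟩
    rw [mem_centralizer_singleton_iff]
    have h1 := hactK hadK hvV
    have h2 : c⁻¹ * a * c * v * (c⁻¹ * a * c)⁻¹ = v := by
      rw [← hv2]; group
    rw [h2] at h1
    -- h1 : a * d * v * (a * d)⁻¹ = v
    have h3 : d * v * d⁻¹ = a⁻¹ * v * a := by
      calc d * v * d⁻¹ = a⁻¹ * (a * d * v * (a * d)⁻¹) * a := by group
        _ = a⁻¹ * v * a := by rw [h1]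
    have h4 : a⁻¹ * v * a = v := by
      calc a⁻¹ * v * a = a⁻¹ * (v * a) := by group
        _ = a⁻¹ * (a * v) := by rw [hv1]
        _ = v := by group
    rw [h4] at h3
    calc v * d = (d * v * d⁻¹) * d := by rw [h3]
      _ = d * v := by group
  have hne0 : (C₁ ⊓ C₂).relIndex V ≠ 0 := by
    unfold Subgroup.relIndex
    exact Subgroup.index_ne_zero_of_finite
  have hidx4 : Cd.relIndex V ≤ 4 := by
    have h1 := Subgroup.relIndex_le_of_le_left (L := V) hle hne0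
    have h2 : (C₁ ⊓ C₂).relIndex V ≤ C₁.relIndex V * C₂.relIndex V := Subgroup.relIndex_inf_le
    have h3 : C₁.relIndex V ≤ 2 := hC₁ ▸ htr
    calc Cd.relIndex V ≤ (C₁ ⊓ C₂).relIndex V := h1
      _ ≤ C₁.relIndex V * C₂.relIndex V := h2
      _ ≤ 2 * 2 := Nat.mul_le_mul h3 hidx₂
  -- the four-group
  obtain ⟨φ, hφ⟩ : ∃ φ : V →* V, φ = commHom V hVc d := ⟨_, rfl⟩
  have hφapp : ∀ v : V, ((φ v : V) : 𝔥) = d * v * d⁻¹ * (v : 𝔥)⁻¹ := by
    intro v; rw [hφ]; rfl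
  obtain ⟨W, hW⟩ : ∃ W : Subgroup 𝔥, W = φ.range.map V.subtype := ⟨_, rfl⟩
  have hmemW : ∀ x : 𝔥, x ∈ W ↔ ∃ v ∈ V, d * v * d⁻¹ * v⁻¹ = x := by
    intro x
    rw [hW, Subgroup.mem_map]
    constructor
    · rintro ⟨y, ⟨v, rfl⟩, rfl⟩
      exact ⟨v, v.2, (hφapp v).symm⟩
    · rintro ⟨v, hv, rfl⟩
      exact ⟨φ ⟨v, hv⟩, ⟨⟨v, hv⟩, rfl⟩, hφapp ⟨v, hv⟩⟩
  have hWV : W ≤ V := by
    rw [hW]; exact Subgroup.map_subtype_le _
  have hkerφ : φ.ker = Cd.subgroupOf V := by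
    ext v
    rw [MonoidHom.mem_ker, Subgroup.mem_subgroupOf, hCd, Subgroup.mem_inf,
      mem_centralizer_singleton_iff]
    constructor
    · intro h
      have h1 := congrArg Subtype.val h
      rw [hφapp] at h1
      refine ⟨v.2, ?_⟩
      have h2 : d * v * d⁻¹ = v := by
        have := mul_inv_eq_one.mp h1
        exact this
      calc (v : 𝔥) * d = (d * v * d⁻¹) * d := by rw [h2]
        _ = d * v := by group
    · rintro ⟨_, h⟩
      apply Subtype.ext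
      rw [hφapp]
      simp only [Subgroup.coe_one]
      rw [← h]; group
  have hcardW : Nat.card W = Cd.relIndex V := by
    rw [hW, Subgroup.card_map_of_injective (Subgroup.subtype_injective V), ← Subgroup.index_ker,
      hkerφ]
    rfl
  have hcardW4 : Nat.card W ≤ 4 := hcardW ▸ hidx4
  -- `d` normalizes `W`
  have hdW : ∀ x ∈ W, d * x * d⁻¹ ∈ W := by
    intro x hx
    obtain ⟨v, hv, rfl⟩ := (hmemW x).mp hx
    refine (hmemW _).mpr ⟨d * v * d⁻¹, hVn.conj_mem v hv d, ?_⟩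
    group
  have hdN : d ∈ normalizer (W : Set 𝔥) :=
    Cfsg.Agent.Lib.Helper11.mem_normalizer_of_conj_mem W d hdW
  -- `d` acts without fixed points
  have hfix : (∀ x ∈ W, d * x * d⁻¹ = x) → W = ⊥ := by
    intro hall
    rw [eq_bot_iff]
    intro x hx
    rw [Subgroup.mem_bot]
    obtain ⟨v, hv, hxv⟩ := (hmemW x).mp hx
    have hdv : d * v * d⁻¹ = x * v := by rw [← hxv]; group
    have hpow : ∀ n : ℕ, d ^ n * v * (d ^ n)⁻¹ = x ^ n * v := by
      intro n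
      induction n with
      | zero => simp
      | succ n ih =>
        have h1 := hall x hx
        calc d ^ (n + 1) * v * (d ^ (n + 1))⁻¹ = d * (d ^ n * v * (d ^ n)⁻¹) * d⁻¹ := by
              rw [pow_succ']; group
          _ = d * (x ^ n * v) * d⁻¹ := by rw [ih]
          _ = (d * x * d⁻¹) ^ n * (d * v * d⁻¹) := by rw [conj_pow]; group
          _ = x ^ n * (x * v) := by rw [h1, hdv]
          _ = x ^ (n + 1) * v := by rw [pow_succ]; group
    have h2 := hpow (orderOf d)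
    rw [pow_orderOf_eq_one] at h2
    have h3 : x ^ orderOf d = 1 := by
      have : (1 : 𝔥) * v * (1 : 𝔥)⁻¹ = v := by group
      rw [this] at h2
      exact (mul_eq_right.mp h2.symm)
    obtain ⟨k, hk⟩ := hV2 ⟨x, hWV hx⟩
    have hk' : x ^ 2 ^ k = 1 := by
      have := congrArg Subtype.val hk
      simpa using this
    have h4 : orderOf x ∣ Nat.gcd (orderOf d) (2 ^ k) :=
      Nat.dvd_gcd (orderOf_dvd_of_pow_eq_one h3) (orderOf_dvd_of_pow_eq_one hk')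
    have h5 : Nat.gcd (orderOf d) (2 ^ k) = 1 := by
      apply Nat.Coprime.pow_right
      rw [Nat.coprime_comm, Nat.Prime.coprime_iff_not_dvd Nat.prime_two]
      intro h2d
      have : Even (orderOf d) := even_iff_two_dvd.mpr h2d
      rw [he] at this
      exact (Nat.not_even_iff_odd.mpr ⟨e, rfl⟩) this
    rw [h5, Nat.dvd_one, orderOf_eq_one_iff] at h4
    exact h4
  have hWne : W ≠ ⊥ := by
    intro hbot
    apply hdK
    rw [hK, mem_centralizer_iff]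
    intro v hv
    have h1 : d * v * d⁻¹ * v⁻¹ ∈ W := (hmemW _).mpr ⟨v, hv, rfl⟩
    rw [hbot, Subgroup.mem_bot] at h1
    have h2 : d * v * d⁻¹ = v := mul_inv_eq_one.mp h1
    calc v * d = (d * v * d⁻¹) * d := by rw [h2]
      _ = d * v := by group
  have hrX : ∃ x ∈ W, d * x * d⁻¹ ≠ x := by
    by_contra hcon
    push Not at hcon
    exact hWne (hfix hcon)
  -- the order of `W`
  have hW2 : IsPGroup 2 W := hV2.to_le hWV
  have hcard4 : Nat.card W = 4 := by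
    obtain ⟨n, hn⟩ := (IsPGroup.iff_card).mp hW2
    have hn1 : Nat.card W ≠ 1 := by
      intro h1
      exact hWne (Subgroup.card_eq_one.mp h1)
    have hn2 : Nat.card W ≠ 2 := by
      intro h2
      obtain ⟨y, hy, hyu⟩ := (Nat.card_eq_two_iff' (1 : W)).mp h2
      obtain ⟨x, hx, hxd⟩ := hrX
      have hx1 : (⟨x, hx⟩ : W) ≠ 1 := by
        intro h
        have := congrArg Subtype.val h
        simp only [Subgroup.coe_one] at this
        apply hxd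
        rw [this]; group
      have hx2 : (⟨d * x * d⁻¹, hdW x hx⟩ : W) ≠ 1 := by
        intro h
        have := congrArg Subtype.val h
        simp only [Subgroup.coe_one] at this
        apply hx1
        apply Subtype.ext
        simp only [Subgroup.coe_one]
        have e1 : x = d⁻¹ * (d * x * d⁻¹) * d := by group
        rw [e1, this]; group
      have e1 := hyu _ hx1
      have e2 := hyu _ hx2
      apply hxd
      have := congrArg Subtype.val (e2.trans e1.symm)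
      exact this
    rw [hn] at hcardW4 hn1 hn2 ⊢
    match n, hcardW4, hn1, hn2 with
    | 0, _, h, _ => exact absurd rfl h
    | 1, _, _, h => exact absurd rfl h
    | 2, _, _, _ => rfl
    | (n + 3), h, _, _ =>
      exfalso
      have : 2 ^ (n + 3) = 8 * 2 ^ n := by ring
      have h0 : 0 < 2 ^ n := Nat.pos_of_ne_zero (by positivity)
      omega
  -- `a` normalizes `W`
  have hdinvN : d⁻¹ ∈ normalizer (W : Set 𝔥) := inv_mem hdN
  have haW : ∀ x ∈ W, a * x * a⁻¹ ∈ W := by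
    intro x hx
    obtain ⟨v, hv, rfl⟩ := (hmemW x).mp hx
    have hv' : a * v * a⁻¹ ∈ V := hVn.conj_mem v hv a
    have h1 := hactK hdinvK hv'
    -- h1 : a d a⁻¹ * v' * (a d a⁻¹)⁻¹ = d⁻¹ * v' * d⁻¹⁻¹
    have h2 : d * (a * v * a⁻¹) * d⁻¹ * (a * v * a⁻¹)⁻¹ ∈ W := (hmemW _).mpr ⟨_, hv', rfl⟩
    have h3 := (mem_normalizer_iff.mp hdinvN _).mp (W.inv_mem h2)
    have e1 : a * (d * v * d⁻¹ * v⁻¹) * a⁻¹ =
        (a * d * a⁻¹ * (a * v * a⁻¹) * (a * d * a⁻¹)⁻¹) * (a * v * a⁻¹)⁻¹ := by group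
    rw [e1, h1]
    have e2 : d⁻¹ * (a * v * a⁻¹) * d⁻¹⁻¹ * (a * v * a⁻¹)⁻¹ =
        d⁻¹ * (d * (a * v * a⁻¹) * d⁻¹ * (a * v * a⁻¹)⁻¹)⁻¹ * d⁻¹⁻¹ := by group
    rw [e2]
    exact h3
  have haN : a ∈ normalizer (W : Set 𝔥) :=
    Cfsg.Agent.Lib.Helper11.mem_normalizer_of_conj_mem W a haW
  have htX : ∃ x ∈ W, a * x * a⁻¹ ≠ x := by
    by_contra hcon
    push Not at hcon
    obtain ⟨x, hx, hxd⟩ := hrX
    apply hxd
    -- `d²` centralizes `W`
    have hsq : ∀ y ∈ W, d * y * d⁻¹ = d⁻¹ * y * d := by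
      intro y hy
      have h1 := hcon _ (hdW y hy)
      have h2 := hcon y hy
      have h3 := hactK hdinvK (hWV hy)
      have e1 : a * (d * y * d⁻¹) * a⁻¹ =
          a * d * a⁻¹ * (a * y * a⁻¹) * (a * d * a⁻¹)⁻¹ := by group
      rw [e1, h2, h3] at h1
      rw [← h1]; group
    have hsq' : ∀ y ∈ W, d ^ 2 * y * (d ^ 2)⁻¹ = y := by
      intro y hy
      have h1 := hsq _ (hdW y hy)
      calc d ^ 2 * y * (d ^ 2)⁻¹ = d * (d * y * d⁻¹) * d⁻¹ := by rw [pow_two]; group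
        _ = d⁻¹ * (d * y * d⁻¹) * d := h1
        _ = y := by group
    have hpw : ∀ n : ℕ, ∀ y ∈ W, (d ^ 2) ^ n * y * ((d ^ 2) ^ n)⁻¹ = y := by
      intro n
      induction n with
      | zero => intro y _; simp
      | succ n ih =>
        intro y hy
        calc (d ^ 2) ^ (n + 1) * y * ((d ^ 2) ^ (n + 1))⁻¹
            = (d ^ 2) ^ n * (d ^ 2 * y * (d ^ 2)⁻¹) * ((d ^ 2) ^ n)⁻¹ := by
              rw [pow_succ]; group
          _ = y := by rw [hsq' y hy, ih y hy]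
    have hdd : (d ^ 2) ^ (e + 1) = d := by
      rw [← pow_mul]
      have : 2 * (e + 1) = orderOf d + 1 := by omega
      rw [this, pow_succ, pow_orderOf_eq_one, one_mul]
    have := hpw (e + 1) x hx
    rw [hdd] at this
    exact this
  exact involves_S4_of_four W hcard4 d a hdN haN ⟨e, he⟩ ha2 hrX htX

end Cfsg.Agent.Lib.Helper51.Wc
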