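import Mathlib
import Cfsg.Agent.Lib.Helper54.Climb

set_option autoImplicit false

/-!
# Climbing with a family of subgroups

A variant of `Cfsg.Agent.Lib.Helper54.Climb.climb` in which the climbing steps are made with the
members of a family of subgroups (instead of single elements): if every nontrivial orbit of every
member of the family has trivial `v`-product, then the product of `v` over all points equals the
product over the fixed points of the join of the family.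
-/

namespace Cfsg.Agent.Lib.Helper51.Wc

open Finset Subgroup
open Cfsg.Agent.Lib.Helper33 Cfsg.Agent.Lib.Helper54.Climb

variable {𝔥 : Type*} [Group 𝔥] {Ω : Type*} [Fintype Ω] [MulAction 𝔥 Ω]
  {C : Type*} [CommGroup C]

/-- The orbit of `ω` under the subgroup `A`, as a finset. -/
noncomputable def orbF (A : Subgroup 𝔥) (ω : Ω) : Finset Ω := by
  classical exact univ.filter (fun ω' => ∃ a ∈ A, a • ω = ω')

theorem mem_orbF {A : Subgroup 𝔥} {ω ω' : Ω} : ω' ∈ orbF A ω ↔ ∃ a ∈ A, a • ω = ω' := by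
  classical
  unfold orbF
  rw [Finset.mem_filter]
  simp

theorem self_mem_orbF (A : Subgroup 𝔥) (ω : Ω) : ω ∈ orbF A ω :=
  mem_orbF.mpr ⟨1, A.one_mem, one_smul _ _⟩

/-- A finset stable under `A` all of whose `A`-orbits have trivial product has trivial product. -/
theorem prod_eq_one_of_orbits (A : Subgroup 𝔥) (v : Ω → C) :
    ∀ (n : ℕ) (X : Finset Ω), X.card = n → (∀ ω ∈ X, ∀ a ∈ A, a • ω ∈ X) →
      (∀ ω ∈ X, ∏ ω' ∈ orbF A ω, v ω' = 1) → ∏ ω ∈ X, v ω = 1 := by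
  classical
  intro n
  induction n using Nat.strong_induction_on with
  | _ n ih =>
  intro X hn hst hv
  by_cases hX : X = ∅
  · rw [hX, Finset.prod_empty]
  obtain ⟨ω, hω⟩ := Finset.nonempty_iff_ne_empty.mpr hX
  have hOX : orbF A ω ⊆ X := by
    intro ω' hω'
    obtain ⟨a, ha, rfl⟩ := mem_orbF.mp hω'
    exact hst ω hω a ha
  have hst' : ∀ ω' ∈ X \ orbF A ω, ∀ a ∈ A, a • ω' ∈ X \ orbF A ω := by
    intro ω' hω' a ha
    rw [Finset.mem_sdiff] at hω' ⊢
    refine ⟨hst ω' hω'.1 a ha, ?_⟩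
    intro hmem
    apply hω'.2
    obtain ⟨b, hb, hbω⟩ := mem_orbF.mp hmem
    refine mem_orbF.mpr ⟨a⁻¹ * b, A.mul_mem (A.inv_mem ha) hb, ?_⟩
    rw [mul_smul, hbω, inv_smul_smul]
  have hcard : (X \ orbF A ω).card < n := by
    rw [← hn]
    apply Finset.card_lt_card
    refine ⟨Finset.sdiff_subset, ?_⟩
    intro hsub
    have := hsub hω
    rw [Finset.mem_sdiff] at this
    exact this.2 (self_mem_orbF A ω)
  have h1 := ih _ hcard (X \ orbF A ω) rfl hst'
    (fun ω' hω' => hv ω' (Finset.mem_sdiff.mp hω').1)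
  rw [← Finset.prod_sdiff hOX, h1, one_mul]
  exact hv ω hω

theorem mem_fixP_sup' {D A : Subgroup 𝔥} {ω : Ω} :
    ω ∈ fixP (D ⊔ A) ↔ ω ∈ fixP D ∧ ∀ a ∈ A, a • ω = ω := by
  rw [mem_fixP_iff_le, mem_fixP_iff_le, sup_le_iff]
  constructor
  · rintro ⟨h1, h2⟩
    exact ⟨h1, fun a ha => MulAction.mem_stabilizer_iff.mp (h2 ha)⟩
  · rintro ⟨h1, h2⟩
    exact ⟨h1, fun a ha => MulAction.mem_stabilizer_iff.mpr (h2 a ha)⟩

/-- One climbing step with a subgroup `A` normalizing `D`. -/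
theorem stepS (v : Ω → C) (D A : Subgroup 𝔥) (hAD : A ≤ normalizer (D : Set 𝔥))
    (hv : ∀ ω : Ω, (∃ a ∈ A, a • ω ≠ ω) → ∏ ω' ∈ orbF A ω, v ω' = 1) :
    ∏ ω ∈ fixP D, v ω = ∏ ω ∈ fixP (D ⊔ A), v ω := by
  classical
  have hfilt : (fixP (D ⊔ A) : Finset Ω) = (fixP D).filter (fun ω => ∀ a ∈ A, a • ω = ω) := by
    ext ω
    rw [mem_fixP_sup', Finset.mem_filter]
  rw [hfilt, ← Finset.prod_filter_mul_prod_filter_not (fixP D) (fun ω => ∀ a ∈ A, a • ω = ω)]
  have hinvD : ∀ ω ∈ (fixP D : Finset Ω), ∀ a ∈ A, a • ω ∈ (fixP D : Finset Ω) := by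
    intro ω hω a ha
    rw [mem_fixP] at hω ⊢
    intro d hd
    have h1 : a⁻¹ * d * a ∈ D := (mem_normalizer_iff''.mp (hAD ha) d).mp hd
    have h2 := hω _ h1
    calc d • a • ω = a • (a⁻¹ * d * a) • ω := by
          rw [← mul_smul, ← mul_smul]; congr 1; group
      _ = a • ω := by rw [h2]
  have hrest : ∏ ω ∈ (fixP D).filter (fun ω => ¬ ∀ a ∈ A, a • ω = ω), v ω = 1 := by
    refine prod_eq_one_of_orbits A v _ _ rfl ?_ ?_
    · intro ω hω b hb
      rw [Finset.mem_filter] at hω ⊢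
      refine ⟨hinvD ω hω.1 b hb, ?_⟩
      intro hfix
      apply hω.2
      have h1 : b • ω = ω := by
        have := hfix b⁻¹ (A.inv_mem hb)
        rw [inv_smul_smul] at this
        exact this.symm
      intro a ha
      have h2 := hfix (a * b⁻¹) (A.mul_mem ha (A.inv_mem hb))
      rw [mul_smul, inv_smul_smul] at h2
      rw [h2, h1]
    · intro ω hω
      rw [Finset.mem_filter] at hω
      apply hv
      by_contra hcon
      push Not at hcon
      exact hω.2 hcon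
  rw [hrest, mul_one]

/-- Climbing with a family `𝒮` of subgroups of the `p`-group `P`, closed under `P`-conjugation. -/
theorem climbS [Finite 𝔥] {p : ℕ} [hp : Fact p.Prime] (v : Ω → C)
    (P : Subgroup 𝔥) (hP : IsPGroup p P)
    (𝒮 : Set (Subgroup 𝔥)) (hSP : ∀ A ∈ 𝒮, A ≤ P) (hSconj : ∀ A ∈ 𝒮, ∀ t ∈ P, cj t A ∈ 𝒮)
    (hSv : ∀ A ∈ 𝒮, ∀ ω : Ω, (∃ a ∈ A, a • ω ≠ ω) → ∏ ω' ∈ orbF A ω, v ω' = 1) :
    ∀ D : Subgroup 𝔥, D ≤ P → D ≤ sSup {A | A ∈ 𝒮 ∧ A ≤ D} →
      ∏ ω ∈ fixP D, v ω = ∏ ω ∈ fixP (sSup 𝒮), v ω := by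
  intro D
  obtain ⟨n, hn⟩ : ∃ n, Nat.card P - Nat.card D = n := ⟨_, rfl⟩
  induction n using Nat.strong_induction_on generalizing D with
  | _ n ih =>
  intro hDP hDgen
  by_cases hSD : ∀ A ∈ 𝒮, A ≤ D
  · have : D = sSup 𝒮 := by
      apply le_antisymm
      · exact le_trans hDgen (sSup_le_sSup (fun A hA => hA.1))
      · exact sSup_le hSD
    rw [this]
  · push Not at hSD
    -- find a member of `𝒮` normalizing `D`, not inside `D`
    have hex : ∃ A ∈ 𝒮, A ≤ normalizer (D : Set 𝔥) ∧ ¬ A ≤ D := by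
      by_contra hcon
      have hcon' : ∀ A ∈ 𝒮, A ≤ normalizer (D : Set 𝔥) → A ≤ D := by
        intro A hAS hAN
        by_contra hAD
        exact hcon ⟨A, hAS, hAN, hAD⟩
      obtain ⟨N, hNdef⟩ : ∃ N, N = P ⊓ normalizer (D : Set 𝔥) := ⟨_, rfl⟩
      have hDN : D ≤ N := hNdef ▸ le_inf hDP le_normalizer
      by_cases hNP : N = P
      · obtain ⟨A, hAS, hAD⟩ := hSD
        apply hAD
        apply hcon' A hAS
        have : A ≤ N := hNP ▸ hSP A hAS
        rw [hNdef] at this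
        exact this.trans inf_le_right
      · have hNlt : N < P := lt_of_le_of_ne (hNdef ▸ inf_le_left) hNP
        have hgrow := normalizer_growth hP hNlt
        obtain ⟨s, hs, hsN⟩ := SetLike.exists_of_lt hgrow
        apply hsN
        rw [hNdef]
        refine ⟨hs.1, ?_⟩
        show s ∈ normalizer (D : Set 𝔥)
        rw [← cj_eq_self_iff]
        have hle : cj s D ≤ D := by
          have h1 : cj s D ≤ cj s (sSup {A | A ∈ 𝒮 ∧ A ≤ D}) := cj_mono hDgen
          refine le_trans h1 ?_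
          rw [cj_le_iff]
          apply sSup_le
          rintro A ⟨hAS, hAD⟩
          rw [← cj_le_iff]
          have h2 : cj s A ∈ 𝒮 := hSconj A hAS s hs.1
          apply hcon' _ h2
          have h3 : cj s A ≤ cj s N := cj_mono (hAD.trans hDN)
          have h4 : cj s N = N := cj_eq_self_iff.mpr hs.2
          rw [h4, hNdef] at h3
          exact h3.trans inf_le_right
        have hcard : Nat.card (cj s D) = Nat.card D := card_cj s D
        exact Subgroup.eq_of_le_of_card_ge hle hcard.ge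
    obtain ⟨A, hAS, hAN, hAD⟩ := hex
    rw [stepS v D A hAN (hSv A hAS)]
    have hlt : D < D ⊔ A := by
      refine lt_of_le_of_ne le_sup_left ?_
      intro h
      apply hAD
      rw [h]
      exact le_sup_right
    have hD'P : D ⊔ A ≤ P := sup_le hDP (hSP A hAS)
    have hc1 : Nat.card D < Nat.card (D ⊔ A : Subgroup 𝔥) :=
      Set.Finite.card_lt_card (Set.toFinite _) hlt
    have hc2 : Nat.card (D ⊔ A : Subgroup 𝔥) ≤ Nat.card P :=
      Subgroup.card_le_of_le hD'P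
    refine ih (Nat.card P - Nat.card (D ⊔ A : Subgroup 𝔥)) (by omega) _ rfl hD'P ?_
    refine sup_le ?_ ?_
    · refine le_trans hDgen (sSup_le_sSup ?_)
      rintro B ⟨hBS, hBD⟩
      exact ⟨hBS, hBD.trans le_sup_left⟩
    · exact le_sSup ⟨hAS, le_sup_right⟩

/-- The climbing lemma, from the trivial subgroup up to the join of the family. -/
theorem climbS_bot [Finite 𝔥] {p : ℕ} [hp : Fact p.Prime] (v : Ω → C)
    (P : Subgroup 𝔥) (hP : IsPGroup p P)
    (𝒮 : Set (Subgroup 𝔥)) (hSP : ∀ A ∈ 𝒮, A ≤ P) (hSconj : ∀ A ∈ 𝒮, ∀ t ∈ P, cj t A ∈ 𝒮)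
    (hSv : ∀ A ∈ 𝒮, ∀ ω : Ω, (∃ a ∈ A, a • ω ≠ ω) → ∏ ω' ∈ orbF A ω, v ω' = 1) :
    ∏ ω : Ω, v ω = ∏ ω ∈ fixP (sSup 𝒮), v ω := by
  classical
  have h := climbS v P hP 𝒮 hSP hSconj hSv ⊥ bot_le bot_le
  rw [← h]
  apply Finset.prod_congr _ (fun _ _ => rfl)
  ext ω
  rw [mem_fixP]
  simp only [Finset.mem_univ, true_iff]
  intro d hd
  rw [Subgroup.mem_bot] at hd
  rw [hd, one_smul]

end Cfsg.Agent.Lib.Helper51.Wc
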