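import Mathlib
import Cfsg.Agent.Lib.Helper51.WcD

set_option autoImplicit false

/-!
# Orbit products of a twisted function with values in the group of order two

If `v (a • ω) = v ω * l a` for a homomorphism `l : A → C₂` on an abelian `2`-group `A`, and the
orbit of `ω` has length at least four, then the product of `v` over the orbit is trivial.
-/

namespace Cfsg.Agent.Lib.Helper51.Wc

open Finset Subgroup

abbrev C2 := Multiplicative (ZMod 2)

theorem c2_sq (x : C2) : x * x = 1 := by
  revert x; decide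

theorem c2_pow_even (x : C2) {n : ℕ} (hn : Even n) : x ^ n = 1 := by
  obtain ⟨k, rfl⟩ := hn
  rw [pow_add, ← mul_pow, c2_sq, one_pow]

theorem c2_eq_of_ne_one {x : C2} (hx : x ≠ 1) : x = Multiplicative.ofAdd 1 := by
  revert x; decide

/-- The product of the values of a homomorphism to `C₂` over a finite group of order divisible by
four is trivial. -/
theorem prod_hom_c2 {Q : Type*} [Group Q] [Fintype Q] (h4 : 4 ∣ Fintype.card Q) (f : Q →* C2) :
    ∏ q : Q, f q = 1 := by
  classical
  by_cases htriv : ∀ q, f q = 1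
  · exact Finset.prod_eq_one (fun q _ => htriv q)
  push Not at htriv
  obtain ⟨q₀, hq₀⟩ := htriv
  have hσ : f q₀ = Multiplicative.ofAdd 1 := c2_eq_of_ne_one hq₀
  have hval : ∀ q, f q = if q ∈ f.ker then 1 else Multiplicative.ofAdd (1 : ZMod 2) := by
    intro q
    by_cases hq : q ∈ f.ker
    · rw [if_pos hq]; exact MonoidHom.mem_ker.mp hq
    · rw [if_neg hq]
      exact c2_eq_of_ne_one (fun h => hq (MonoidHom.mem_ker.mpr h))
  rw [Finset.prod_congr rfl (fun q _ => hval q), Finset.prod_ite, Finset.prod_const_one, one_mul,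
    Finset.prod_const]
  apply c2_pow_even
  -- the complement of the kernel is a coset of the kernel
  have hbij : (Finset.univ.filter (fun q => ¬ q ∈ f.ker)).card =
      (Finset.univ.filter (fun q => q ∈ f.ker)).card := by
    apply Finset.card_bij (fun q _ => q₀⁻¹ * q)
    · intro q hq
      rw [Finset.mem_filter] at hq ⊢
      refine ⟨Finset.mem_univ _, ?_⟩
      rw [MonoidHom.mem_ker, map_mul, map_inv, hσ]
      have h1 : f q = Multiplicative.ofAdd 1 :=
        c2_eq_of_ne_one (fun h => hq.2 (MonoidHom.mem_ker.mpr h))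
      rw [h1]
      exact inv_mul_cancel _
    · intro q _ q' _ h
      exact mul_left_cancel h
    · intro q hq
      rw [Finset.mem_filter] at hq
      refine ⟨q₀ * q, ?_, by group⟩
      rw [Finset.mem_filter]
      refine ⟨Finset.mem_univ _, ?_⟩
      rw [MonoidHom.mem_ker, map_mul, hσ, MonoidHom.mem_ker.mp hq.2, mul_one]
      decide
  have hsum : (Finset.univ.filter (fun q => q ∈ f.ker)).card +
      (Finset.univ.filter (fun q => ¬ q ∈ f.ker)).card = Fintype.card Q := by
    rw [Finset.card_filter_add_card_filter_not, Finset.card_univ]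
  rw [hbij] at hsum
  obtain ⟨m, hm⟩ := h4
  rw [hbij]
  exact ⟨m, by omega⟩

variable {𝔥 : Type*} [Group 𝔥] {Ω : Type*} [Fintype Ω] [MulAction 𝔥 Ω]

/-- The orbit product. -/
theorem orbit_prod_eq_one [Finite 𝔥] (A : Subgroup 𝔥) (hA2 : IsPGroup 2 A)
    (hAc : ∀ a ∈ A, ∀ b ∈ A, a * b = b * a)
    (v : Ω → C2) (ω : Ω) (l : A →* C2) (hv : ∀ a : A, v ((a : 𝔥) • ω) = v ω * l a)
    (hidx : (MulAction.stabilizer A ω).index ≠ 2) (hne : ∃ a ∈ A, a • ω ≠ ω) :
    ∏ ω' ∈ orbF A ω, v ω' = 1 := by
  classical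
  obtain ⟨S, hS⟩ : ∃ S : Subgroup A, S = MulAction.stabilizer A ω := ⟨_, rfl⟩
  haveI hSn : S.Normal := by
    constructor
    intro n hn g
    have : g * n * g⁻¹ = n := by
      apply Subtype.ext
      have := hAc g g.2 n n.2
      simp only [Subgroup.coe_mul, Subgroup.coe_inv]
      rw [this]; group
    rw [this]; exact hn
  have hSl : ∀ s ∈ S, l s = 1 := by
    intro s hs
    rw [hS, MulAction.mem_stabilizer_iff] at hs
    have h1 := hv s
    have h2 : (s : 𝔥) • ω = ω := hs
    rw [h2] at h1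
    exact (mul_eq_left.mp h1.symm)
  obtain ⟨lb, hlb⟩ : ∃ lb : A ⧸ S →* C2, lb = QuotientGroup.lift S l hSl := ⟨_, rfl⟩
  haveI : Fintype (A ⧸ S) := Fintype.ofFinite _
  haveI : Fintype (MulAction.orbit A ω) := Fintype.ofFinite _
  -- rewrite the product over the orbit
  have h1 : ∏ ω' ∈ orbF A ω, v ω' = ∏ x : MulAction.orbit A ω, v x := by
    apply Finset.prod_subtype
    intro x
    rw [mem_orbF, MulAction.mem_orbit_iff]
    constructor
    · rintro ⟨a, ha, rfl⟩
      exact ⟨⟨a, ha⟩, rfl⟩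
    · rintro ⟨a, rfl⟩
      exact ⟨a, a.2, rfl⟩
  obtain ⟨e, he⟩ : ∃ e : MulAction.orbit A ω ≃ A ⧸ S,
      ∀ q : A ⧸ S, ((e.symm q : MulAction.orbit A ω) : Ω) = (q.out : 𝔥) • ω := by
    subst hS
    refine ⟨MulAction.orbitEquivQuotientStabilizer A ω, ?_⟩
    intro q
    conv_lhs => rw [← QuotientGroup.out_eq' q]
    rw [MulAction.orbitEquivQuotientStabilizer_symm_apply]
    rfl
  have h2 : ∏ x : MulAction.orbit A ω, v x = ∏ q : A ⧸ S, v ((q.out : 𝔥) • ω) := by
    rw [← Equiv.prod_comp e.symm]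
    apply Finset.prod_congr rfl
    intro q _
    rw [he]
  have h3 : ∀ q : A ⧸ S, v ((q.out : 𝔥) • ω) = v ω * lb q := by
    intro q
    rw [hv q.out, hlb]
    congr 1
    conv_rhs => rw [← QuotientGroup.out_eq' q]
    rfl
  rw [h1, h2, Finset.prod_congr rfl (fun q _ => h3 q), Finset.prod_mul_distrib, Finset.prod_const,
    Finset.card_univ]
  -- the index is divisible by four
  have hcardQ : Fintype.card (A ⧸ S) = S.index := by
    rw [Subgroup.index_eq_card, Nat.card_eq_fintype_card]
  have hpow : ∃ k, S.index = 2 ^ k := by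
    have hdvd : S.index ∣ Nat.card A := Subgroup.index_dvd_card S
    obtain ⟨n, hn⟩ := (IsPGroup.iff_card).mp hA2
    rw [hn] at hdvd
    exact (Nat.dvd_prime_pow Nat.prime_two).mp hdvd |>.imp fun k hk => hk.2
  obtain ⟨k, hk⟩ := hpow
  have hne1 : S.index ≠ 1 := by
    intro h1'
    rw [Subgroup.index_eq_one] at h1'
    obtain ⟨a, ha, haω⟩ := hne
    apply haω
    have : (⟨a, ha⟩ : A) ∈ S := by rw [h1']; exact Subgroup.mem_top _
    rw [hS, MulAction.mem_stabilizer_iff] at this
    exact this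
  have h4 : 4 ∣ S.index := by
    have hidx' : S.index ≠ 2 := hS ▸ hidx
    rw [hk] at hne1 hidx' ⊢
    match k, hne1, hidx' with
    | 0, h, _ => exact absurd rfl h
    | 1, _, h => exact absurd rfl h
    | (k + 2), _, _ => exact ⟨2 ^ k, by ring⟩
  rw [hcardQ, prod_hom_c2 (hcardQ ▸ h4) lb, mul_one]
  apply c2_pow_even
  obtain ⟨m, hm⟩ := h4
  exact ⟨2 * m, by omega⟩

end Cfsg.Agent.Lib.Helper51.Wc
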