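import Mathlib
import Cfsg.Agent.Lib.Helper51.WcB
import Cfsg.Agent.Lib.Helper51.WcC
import Cfsg.Agent.Lib.Helper33.Pair
import Cfsg.Agent.Lib.Helper33.SecBasic

set_option autoImplicit false
set_option maxHeartbeats 800000

/-!
# The local configuration for the `S₄`-free weak closure theorem at the prime `2`

`u` is an element of a normal abelian `2`-subgroup `V`, `M = C(u)` is a proper subgroup containing
every proper subgroup that contains the Sylow `2`-subgroup `T`, and `N(J(T)) ≤ M`.  We study the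
abelian subgroups `A` of `T` of largest order outside `K₀ = C(V)` with `|A ∩ V|` as large as
possible.
-/

universe u

namespace Cfsg.Agent.Lib.Helper51.Wc

open Subgroup Cfsg
open Cfsg.Agent.Lib.Helper33 Cfsg.Agent.Lib.Helper51

variable {𝔥 : Type u} [Group 𝔥]

/-- The local configuration. -/
structure Cfg (T : Sylow 2 𝔥) (u : 𝔥) (V K₀ M : Subgroup 𝔥) : Prop where
  hS4 : ¬ Involves (Equiv.Perm (Fin 4)) 𝔥
  hM : M = centralizer {u}
  hMtop : M ≠ ⊤
  hTM : (T : Subgroup 𝔥) ≤ M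
  h3 : ∀ K : Subgroup 𝔥, (T : Subgroup 𝔥) ≤ K → K ≠ ⊤ → K ≤ M
  hJ : normalizer (thompsonSubgroupAOf (T : Subgroup 𝔥) : Set 𝔥) ≤ M
  hVn : V.Normal
  hVT : V ≤ (T : Subgroup 𝔥)
  hVc : ∀ x ∈ V, ∀ y ∈ V, x * y = y * x
  hVu : ∀ g : 𝔥, g * u * g⁻¹ ∈ V
  hK₀ : K₀ = centralizer (V : Set 𝔥)
  hcore : ∀ N : Subgroup 𝔥, N.Normal → N ≤ M → N ≤ K₀

namespace Cfg

variable {T : Sylow 2 𝔥} {u : 𝔥} {V K₀ M : Subgroup 𝔥}

theorem K₀_normal (c : Cfg T u V K₀ M) : K₀.Normal := by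
  haveI := c.hVn
  rw [c.hK₀]; infer_instance

theorem K₀_le_M (c : Cfg T u V K₀ M) : K₀ ≤ M := by
  intro k hk
  rw [c.hK₀] at hk
  rw [c.hM, mem_centralizer_singleton_iff]
  have h1 : u ∈ V := by
    have := c.hVu 1
    simpa using this
  exact (mem_centralizer_iff.mp hk u h1).symm

theorem V_le_K₀ (c : Cfg T u V K₀ M) : V ≤ K₀ := by
  intro x hx
  rw [c.hK₀, mem_centralizer_iff]
  intro y hy
  exact c.hVc y hy x hx

/-- The Frattini argument: a normal subgroup inside `M` meets `T` in a normal subgroup. -/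
theorem inf_normal [Finite 𝔥] (c : Cfg T u V K₀ M) (D : Subgroup 𝔥) (hDn : D.Normal) (hDM : D ≤ M) :
    ((T : Subgroup 𝔥) ⊓ D).Normal := by
  have hnD : (⊤ : Subgroup 𝔥) ≤ normalizer (D : Set 𝔥) := by
    rw [normalizer_eq_top_iff.mpr hDn]
  have hTi : ¬ 2 ∣ (T : Subgroup 𝔥).relIndex ⊤ := by
    rw [relIndex_top_right]; exact T.not_dvd_index
  have hRi := sylow_inf_normal (p := 2) (N := ⊤) (R := (T : Subgroup 𝔥)) (C := D) le_top
    T.isPGroup' hTi le_top hnD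
  have hTN : (T : Subgroup 𝔥) ≤ normalizer (((T : Subgroup 𝔥) ⊓ D : Subgroup 𝔥) : Set 𝔥) := by
    apply TNPC.le_normalizer_of_conj_mem
    intro g hg d hd
    exact ⟨(T : Subgroup 𝔥).mul_mem ((T : Subgroup 𝔥).mul_mem hg hd.1) ((T : Subgroup 𝔥).inv_mem hg),
      hDn.conj_mem d hd.2 g⟩
  rw [← normalizer_eq_top_iff]
  by_contra hne
  have hNM := c.h3 _ hTN hne
  apply c.hMtop
  rw [eq_top_iff]
  intro x _
  obtain ⟨x₁, hx₁, y, hy, rfl⟩ := frattini_gen (p := 2) (H := ⊤) (M := D)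
    (R := (T : Subgroup 𝔥) ⊓ D) hnD le_top inf_le_right (T.isPGroup'.to_le inf_le_left) hRi
    (mem_top x)
  exact M.mul_mem (hDM hx₁) (hNM hy.2)

/-- Some abelian subgroup of `T` of largest order does not centralize `V`. -/
theorem exists_not_le [Finite 𝔥] (c : Cfg T u V K₀ M) :
    ∃ A ∈ maxAbIn (T : Subgroup 𝔥), ¬ A ≤ K₀ := by
  by_contra hcon
  push Not at hcon
  obtain ⟨D, hD⟩ : ∃ D, D = (T : Subgroup 𝔥) ⊓ K₀ := ⟨_, rfl⟩
  have hDn : D.Normal := hD ▸ c.inf_normal K₀ c.K₀_normal c.K₀_le_M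
  have hJD : thompsonSubgroupAOf (T : Subgroup 𝔥) ≤ D := by
    rw [thompsonAOf_eq_sSup]
    apply sSup_le
    intro A hA
    rw [hD]
    exact le_inf hA.1 (hcon A hA)
  have hJeq := thompsonAOf_eq_of_le (hD ▸ inf_le_left : D ≤ (T : Subgroup 𝔥)) hJD
  apply c.hMtop
  rw [eq_top_iff]
  refine le_trans ?_ c.hJ
  rw [← hJeq]
  refine le_trans ?_ (normalizer_le_normalizer_thompsonAOf D)
  rw [normalizer_eq_top_iff.mpr hDn]

/-- The family of optimal abelian subgroups. -/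
def fam (T : Sylow 2 𝔥) (V K₀ : Subgroup 𝔥) : Set (Subgroup 𝔥) :=
  {A | A ∈ maxAbIn (T : Subgroup 𝔥) ∧ ¬ A ≤ K₀ ∧
    ∀ A' ∈ maxAbIn (T : Subgroup 𝔥), ¬ A' ≤ K₀ →
      Nat.card (A' ⊓ V : Subgroup 𝔥) ≤ Nat.card (A ⊓ V : Subgroup 𝔥)}

theorem fam_nonempty [Finite 𝔥] (c : Cfg T u V K₀ M) : ∃ A, A ∈ fam T V K₀ := by
  obtain ⟨A₁, hA₁, hA₁K⟩ := c.exists_not_le
  haveI : Nonempty {A : Subgroup 𝔥 // A ∈ maxAbIn (T : Subgroup 𝔥) ∧ ¬ A ≤ K₀} :=
    ⟨⟨A₁, hA₁, hA₁K⟩⟩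
  obtain ⟨A, hA⟩ := Finite.exists_max
    (fun A : {A : Subgroup 𝔥 // A ∈ maxAbIn (T : Subgroup 𝔥) ∧ ¬ A ≤ K₀} =>
      Nat.card (A.1 ⊓ V : Subgroup 𝔥))
  exact ⟨A.1, A.2.1, A.2.2, fun A' hA' hA'K => hA ⟨A', hA', hA'K⟩⟩

theorem fam_le {A : Subgroup 𝔥} (hA : A ∈ fam T V K₀) : A ≤ (T : Subgroup 𝔥) := hA.1.1

theorem fam_comm {A : Subgroup 𝔥} (hA : A ∈ fam T V K₀) : ∀ a ∈ A, ∀ b ∈ A, a * b = b * a :=
  (isMulComm_iff A).mp hA.1.2.1

/-- The family is closed under conjugation into `T`. -/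
theorem fam_cj [Finite 𝔥] (c : Cfg T u V K₀ M) {A : Subgroup 𝔥} (hA : A ∈ fam T V K₀) (t : 𝔥)
    (ht : cj t A ≤ (T : Subgroup 𝔥)) : cj t A ∈ fam T V K₀ := by
  haveI := c.hVn
  haveI := c.K₀_normal
  obtain ⟨⟨hAT, hAc, hAmax⟩, hAK, hAopt⟩ := hA
  refine ⟨⟨ht, isMulComm_map _ hAc, ?_⟩, ?_, ?_⟩
  · intro B hB hBc
    rw [card_cj]
    exact hAmax B hB hBc
  · intro hle
    apply hAK
    rw [cj_le_iff, TNPC.cj_of_normal] at hle
    exact hle
  · intro A' hA' hA'K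
    have h1 : cj t A ⊓ V = cj t (A ⊓ V) := by
      rw [cj_inf, TNPC.cj_of_normal t V]
    rw [h1, card_cj]
    exact hAopt A' hA' hA'K

/-- `V` acts quadratically on the members of the family. -/
theorem fam_quad [Finite 𝔥] (c : Cfg T u V K₀ M) {A : Subgroup 𝔥} (hA : A ∈ fam T V K₀) :
    ∀ x ∈ V, ∀ a ∈ A, cm x a ∈ A := by
  haveI := c.hVn
  apply normalized_of_max_inter (p := 2) (P := (T : Subgroup 𝔥)) (Z := V) (H := K₀) T.isPGroup'
    c.hVT c.hVc ?_ ?_ hA.1 hA.2.1 hA.2.2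
  · rw [normalizer_eq_top_iff.mpr c.hVn]; exact le_top
  · intro h hh z hz
    rw [c.hK₀] at hh
    exact (mem_centralizer_iff.mp hh z hz).symm

/-- No member of the family has a conjugate of `u` whose centralizer has index two in it. -/
theorem fam_index_ne_two [Finite 𝔥] (c : Cfg T u V K₀ M) {A : Subgroup 𝔥} (hA : A ∈ fam T V K₀)
    (g : 𝔥) : (A ⊓ centralizer {g * u * g⁻¹}).relIndex A ≠ 2 := by
  intro hidx
  haveI := c.hVn
  haveI := c.K₀_normal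
  obtain ⟨y, hy⟩ : ∃ y, y = g * u * g⁻¹ := ⟨_, rfl⟩
  rw [← hy] at hidx
  have hyV : y ∈ V := hy ▸ c.hVu g
  obtain ⟨B, hB⟩ : ∃ B, B = A ⊓ centralizer {y} := ⟨_, rfl⟩
  rw [← hB] at hidx
  have hBA : B ≤ A := hB ▸ inf_le_left
  have hAT : A ≤ (T : Subgroup 𝔥) := fam_le hA
  have hAc := fam_comm hA
  have hcardA : Nat.card B * 2 = Nat.card A := by
    rw [← hidx]; exact TNPC.card_mul_relIndex_of_le hBA
  have hposB : 0 < Nat.card B := Nat.card_pos
  -- `y ∉ A`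
  have hyA : y ∉ A := by
    intro hyA
    have hAB : A ≤ B := by
      intro a ha
      rw [hB]
      exact ⟨ha, mem_centralizer_singleton_iff.mpr (hAc a ha y hyA)⟩
    have : Nat.card A ≤ Nat.card B := Subgroup.card_le_of_le hAB
    omega
  have hyB : y ∉ B := fun h => hyA (hBA h)
  -- the replacement `A*`
  obtain ⟨A', hA'⟩ : ∃ A', A' = B ⊔ zpowers y := ⟨_, rfl⟩
  have hBA' : B ≤ A' := hA' ▸ le_sup_left
  have hyA' : y ∈ A' := hA' ▸ (le_sup_right : zpowers y ≤ B ⊔ zpowers y) (mem_zpowers y)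
  have hA'T : A' ≤ (T : Subgroup 𝔥) := by
    rw [hA']
    exact sup_le (hBA.trans hAT) (zpowers_le.mpr (c.hVT hyV))
  have hBc : ∀ a ∈ B, ∀ b ∈ B, a * b = b * a := fun a ha b hb => hAc a (hBA ha) b (hBA hb)
  have hA'c : IsMulCommutative A' := by
    rw [hA']
    apply Cfsg.Agent.Lib.Helper11.isMulCommutative_sup_of_commute B (zpowers y) hBc
    · intro a ha b hb
      obtain ⟨i, rfl⟩ := mem_zpowers_iff.mp ha
      obtain ⟨j, rfl⟩ := mem_zpowers_iff.mp hb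
      rw [← zpow_add, ← zpow_add, add_comm]
    · intro z hz k hk
      rw [hB] at hz
      have h1 : y ∈ centralizer {z} := by
        rw [mem_centralizer_singleton_iff]
        exact (mem_centralizer_singleton_iff.mp hz.2).symm
      have h2 : k ∈ centralizer {z} := (zpowers_le.mpr h1) hk
      exact (mem_centralizer_singleton_iff.mp h2).symm
  have hcardA' : Nat.card A ≤ Nat.card A' := by
    have hlt : B < A' := lt_of_le_of_ne hBA' (fun h => hyB (h ▸ hyA'))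
    have h1 : Nat.card B < Nat.card A' := Set.Finite.card_lt_card (Set.toFinite _) hlt
    obtain ⟨k, hk⟩ := Subgroup.card_dvd_of_le hBA'
    rw [hk] at h1 ⊢
    rw [← hcardA]
    have hk2 : 2 ≤ k := by
      by_contra hk2
      push Not at hk2
      interval_cases k <;> omega
    exact Nat.mul_le_mul_left _ hk2
  have hA'max : A' ∈ maxAbIn (T : Subgroup 𝔥) :=
    ⟨hA'T, hA'c, fun B' hB' hB'c => (hA.1.2.2 B' hB' hB'c).trans hcardA'⟩
  -- the intersection with `V` grows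
  have hgrow : Nat.card (A ⊓ V : Subgroup 𝔥) < Nat.card (A' ⊓ V : Subgroup 𝔥) := by
    have hle : A ⊓ V ≤ A' ⊓ V := by
      intro x hx
      refine ⟨hBA' ?_, hx.2⟩
      rw [hB]
      exact ⟨hx.1, mem_centralizer_singleton_iff.mpr (c.hVc x hx.2 y hyV)⟩
    have hlt : A ⊓ V < A' ⊓ V :=
      lt_of_le_of_ne hle (fun h => hyA ((h ▸ (⟨hyA', hyV⟩ : y ∈ A' ⊓ V) : y ∈ A ⊓ V).1))
    exact Set.Finite.card_lt_card (Set.toFinite _) hlt
  have hA'K : A' ≤ K₀ := by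
    by_contra hnot
    have := hA.2.2 A' hA'max hnot
    omega
  have hBK : B ≤ K₀ := hBA'.trans hA'K
  -- an element of `A` outside `K₀`
  obtain ⟨a, haA, haK⟩ := SetLike.not_le_iff_exists.mp hA.2.1
  have ha2K : a ^ 2 ∈ K₀ := by
    apply hBK
    have h1 : (B.subgroupOf A).index = 2 := hidx
    have h2 := Subgroup.sq_mem_of_index_two h1 (⟨a, haA⟩ : A)
    rw [mem_subgroupOf] at h2
    simpa using h2
  -- the transvection inequality
  have hBV : B ≤ normalizer (V : Set 𝔥) := by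
    rw [normalizer_eq_top_iff.mpr c.hVn]; exact le_top
  have h1 := Cfsg.Agent.Lib.Helper11.card_sup_mul_card_inf B V hBV
  have hBVc : IsMulCommutative (B ⊔ V : Subgroup 𝔥) := by
    apply Cfsg.Agent.Lib.Helper11.isMulCommutative_sup_of_commute B V hBc c.hVc
    intro z hz k hk
    have := hBK hz
    rw [c.hK₀] at this
    exact (mem_centralizer_iff.mp this k hk).symm
  have h2 : Nat.card (B ⊔ V : Subgroup 𝔥) ≤ Nat.card A :=
    hA.1.2.2 _ (sup_le (hBA.trans hAT) c.hVT) hBVc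
  have h3 : Nat.card (B ⊓ V : Subgroup 𝔥) ≤ Nat.card (A ⊓ V : Subgroup 𝔥) :=
    Subgroup.card_le_of_le (inf_le_inf_right V hBA)
  have hVle : Nat.card V ≤ 2 * Nat.card (A ⊓ V : Subgroup 𝔥) := by
    have h4 : Nat.card B * Nat.card V ≤ Nat.card B * (2 * Nat.card (A ⊓ V : Subgroup 𝔥)) := by
      calc Nat.card B * Nat.card V
          = Nat.card (B ⊔ V : Subgroup 𝔥) * Nat.card (B ⊓ V : Subgroup 𝔥) := h1.symm
        _ ≤ Nat.card A * Nat.card (A ⊓ V : Subgroup 𝔥) := Nat.mul_le_mul h2 h3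
        _ = Nat.card B * (2 * Nat.card (A ⊓ V : Subgroup 𝔥)) := by rw [← hcardA]; ring
    exact Nat.le_of_mul_le_mul_left h4 hposB
  have htr : (V ⊓ centralizer {a}).relIndex V ≤ 2 := by
    have h5 : A ⊓ V ≤ V ⊓ centralizer {a} := by
      intro x hx
      exact ⟨hx.2, mem_centralizer_singleton_iff.mpr (hAc x hx.1 a haA)⟩
    have h6 := TNPC.card_mul_relIndex_of_le (inf_le_left : V ⊓ centralizer {a} ≤ V)
    have h7 : Nat.card (A ⊓ V : Subgroup 𝔥) ≤ Nat.card (V ⊓ centralizer {a} : Subgroup 𝔥) :=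
      Subgroup.card_le_of_le h5
    have hpos : 0 < Nat.card (V ⊓ centralizer {a} : Subgroup 𝔥) := Nat.card_pos
    by_contra hgt
    push Not at hgt
    have h8 : Nat.card (V ⊓ centralizer {a} : Subgroup 𝔥) * 3 ≤
        Nat.card (V ⊓ centralizer {a} : Subgroup 𝔥) * (V ⊓ centralizer {a}).relIndex V :=
      Nat.mul_le_mul_left _ hgt
    omega
  have ha2 : ∃ k : ℕ, a ^ (2 ^ k) = 1 := by
    obtain ⟨k, hk⟩ := T.isPGroup' ⟨a, hAT haA⟩
    refine ⟨k, ?_⟩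
    have := congrArg Subtype.val hk
    simpa using this
  apply c.hS4
  rw [c.hK₀] at haK ha2K
  apply involves_S4_of_transvection V c.hVc (T.isPGroup'.to_le c.hVT) a ha2 haK ha2K htr T
  intro N hNn hN haN
  apply haK
  rw [← c.hK₀]
  apply c.hcore N hNn ?_ haN
  intro n hn
  obtain ⟨t, ht, htn⟩ := hN n hn
  have h9 : n = t * (t⁻¹ * n) := by group
  rw [h9]
  exact M.mul_mem (c.hTM ht) (c.K₀_le_M (c.hK₀ ▸ htn))

end Cfg

end Cfsg.Agent.Lib.Helper51.Wc
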