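import Mathlib
import Cfsg.Agent.Lib.Helper51.WcF
import Cfsg.Agent.Lib.Helper51.WcE
import Cfsg.Agent.Lib.Helper54.EngelLocal

set_option autoImplicit false
set_option maxHeartbeats 1600000

/-!
# The local configuration is contradictory: the trace argument
-/

universe u

namespace Cfsg.Agent.Lib.Helper51.Wc

open Subgroup Cfsg Finset
open Cfsg.Agent.Lib.Helper33 Cfsg.Agent.Lib.Helper51 Cfsg.Agent.Lib.Helper54.Climb
open Cfsg.Agent.Lib.Helper54.EngelLocal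

variable {𝔥 : Type u} [Group 𝔥]

namespace Cfg

variable {T : Sylow 2 𝔥} {u : 𝔥} {V K₀ M : Subgroup 𝔥}

/-- The join of the family is weakly closed in `T`. -/
theorem sSup_fam_wc [Finite 𝔥] (c : Cfg T u V K₀ M) (t : 𝔥)
    (ht : cj t (sSup (fam T V K₀)) ≤ (T : Subgroup 𝔥)) :
    cj t (sSup (fam T V K₀)) = sSup (fam T V K₀) := by
  have hle : cj t (sSup (fam T V K₀)) ≤ sSup (fam T V K₀) := by
    rw [cj_le_iff]
    apply sSup_le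
    intro A hA
    rw [← cj_le_iff]
    apply le_sSup
    apply c.fam_cj hA t
    exact le_trans (cj_mono (le_sSup hA)) ht
  exact Subgroup.eq_of_le_of_card_ge hle (card_cj t _).ge

theorem sSup_fam_le (T : Sylow 2 𝔥) (V K₀ : Subgroup 𝔥) :
    sSup (fam T V K₀) ≤ (T : Subgroup 𝔥) :=
  sSup_le (fun _ hA => fam_le hA)

theorem normalizer_sSup_fam_le [Finite 𝔥] (c : Cfg T u V K₀ M) :
    normalizer ((sSup (fam T V K₀) : Subgroup 𝔥) : Set 𝔥) ≤ M := by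
  apply c.h3
  · intro t ht
    rw [← cj_eq_self_iff]
    apply c.sSup_fam_wc
    intro y hy
    rw [mem_cj] at hy
    have h2 := (T : Subgroup 𝔥).mul_mem ((T : Subgroup 𝔥).mul_mem ht (sSup_fam_le T V K₀ hy))
      ((T : Subgroup 𝔥).inv_mem ht)
    have h4 : t * (t⁻¹ * y * t) * t⁻¹ = y := by group
    rwa [h4] at h2
  · intro htop
    have hEn : (sSup (fam T V K₀) : Subgroup 𝔥).Normal := normalizer_eq_top_iff.mp htop
    obtain ⟨A, hA⟩ := c.fam_nonempty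
    apply hA.2.1
    refine le_trans (le_sSup hA) ?_
    exact c.hcore _ hEn ((sSup_fam_le T V K₀).trans c.hTM)

theorem fixP_sSup_fam [Finite 𝔥] [Fintype (𝔥 ⧸ M)] (c : Cfg T u V K₀ M) :
    (fixP (sSup (fam T V K₀)) : Finset (𝔥 ⧸ M)) = {((1 : 𝔥) : 𝔥 ⧸ M)} := by
  obtain ⟨E, hE⟩ : ∃ E, E = sSup (fam T V K₀) := ⟨_, rfl⟩
  rw [← hE]
  have hET : E ≤ (T : Subgroup 𝔥) := hE ▸ sSup_fam_le T V K₀
  ext ω
  rw [Finset.mem_singleton, mem_fixP]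
  constructor
  · intro hω
    rw [← QuotientGroup.out_eq' ω]
    obtain ⟨t, ht⟩ : ∃ t, t = ω.out := ⟨_, rfl⟩
    rw [← ht]
    have hle : cj t⁻¹ E ≤ M := by
      intro y hy
      rw [mem_cj, inv_inv] at hy
      have h1 := hω _ hy
      rw [← QuotientGroup.out_eq' ω, ← ht] at h1
      have h2 := (smul_mk_eq_iff' (H := M) (t * y * t⁻¹) t).mp h1
      have h4 : t⁻¹ * (t * y * t⁻¹) * t = y := by group
      rwa [h4] at h2
    obtain ⟨d, hd, hdle⟩ := sylow_sub c.hTM T.isPGroup' (sylow_not_dvd_relIndex' T c.hTM) hle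
      (isPGroup_cj (T.isPGroup'.to_le hET))
    rw [← cj_mul] at hdle
    have h5 : cj (d * t⁻¹) E = E := by
      rw [hE] at hdle ⊢
      exact c.sSup_fam_wc _ hdle
    have h6 : d * t⁻¹ ∈ M := by
      apply c.normalizer_sSup_fam_le
      rw [← hE]
      exact cj_eq_self_iff.mp h5
    have h7 : t⁻¹ ∈ M := by
      have := M.mul_mem (M.inv_mem hd) h6
      rwa [inv_mul_cancel_left] at this
    rw [QuotientGroup.eq, mul_one]
    exact h7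
  · intro hω e he
    rw [hω]
    have h1 : (e • ((1 : 𝔥) : 𝔥 ⧸ M)) = ((e * 1 : 𝔥) : 𝔥 ⧸ M) := rfl
    rw [h1, mul_one, QuotientGroup.eq, mul_one]
    exact M.inv_mem (c.hTM (hET he))

/-- The orbit products. -/
theorem orbit_prod [Finite 𝔥] [Fintype (𝔥 ⧸ M)] (c : Cfg T u V K₀ M) (Y : Subgroup 𝔥)
    (hδ : ∀ t : 𝔥, t * u * t⁻¹ * u⁻¹ ∈ Y) (Λ : Y →* C2) (v : 𝔥 ⧸ M → C2)
    (hvmk : ∀ t : 𝔥, v (t : 𝔥 ⧸ M) = Λ ⟨t * u * t⁻¹ * u⁻¹, hδ t⟩)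
    {A : Subgroup 𝔥} (hA : A ∈ fam T V K₀) (ω : 𝔥 ⧸ M) (hne : ∃ a ∈ A, a • ω ≠ ω) :
    ∏ ω' ∈ orbF A ω, v ω' = 1 := by
  obtain ⟨t, ht⟩ : ∃ t : 𝔥, (t : 𝔥 ⧸ M) = ω := ⟨ω.out, QuotientGroup.out_eq' ω⟩
  subst ht
  have hAc := fam_comm hA
  have hAT : A ≤ (T : Subgroup 𝔥) := fam_le hA
  obtain ⟨y, hy⟩ : ∃ y, y = t * u * t⁻¹ := ⟨_, rfl⟩
  have hyV : y ∈ V := hy ▸ c.hVu t
  have hmemY : ∀ a : 𝔥, a * y * a⁻¹ * y⁻¹ ∈ Y := by
    intro a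
    have h1 := Y.mul_mem (hδ (a * t)) (Y.inv_mem (hδ t))
    have e : a * t * u * (a * t)⁻¹ * u⁻¹ * (t * u * t⁻¹ * u⁻¹)⁻¹ = a * y * a⁻¹ * y⁻¹ := by
      rw [hy]; group
    rwa [e] at h1
  have hψA : ∀ b ∈ A, b * y * b⁻¹ * y⁻¹ ∈ A := by
    intro b hb
    have h1 := c.fam_quad hA y⁻¹ (V.inv_mem hyV) b⁻¹ (A.inv_mem hb)
    have e : b * y * b⁻¹ * y⁻¹ = (cm y⁻¹ b⁻¹)⁻¹ := by unfold cm; group
    rw [e]
    exact A.inv_mem h1
  obtain ⟨l, hl⟩ : ∃ l : A →* C2, ∀ a : A, l a = Λ ⟨(a : 𝔥) * y * (a : 𝔥)⁻¹ * y⁻¹, hmemY a⟩ := by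
    refine ⟨MonoidHom.mk' (fun a : A => Λ ⟨(a : 𝔥) * y * (a : 𝔥)⁻¹ * y⁻¹, hmemY a⟩) ?_,
      fun a => rfl⟩
    intro a b
    have hcomm := hAc a a.2 _ (hψA b b.2)
    have e : (⟨((a * b : A) : 𝔥) * y * ((a * b : A) : 𝔥)⁻¹ * y⁻¹, hmemY _⟩ : Y) =
        ⟨(b : 𝔥) * y * (b : 𝔥)⁻¹ * y⁻¹, hmemY b⟩ * ⟨(a : 𝔥) * y * (a : 𝔥)⁻¹ * y⁻¹, hmemY a⟩ := by
      apply Subtype.ext
      simp only [Subgroup.coe_mul]
      calc (a : 𝔥) * b * y * ((a : 𝔥) * b)⁻¹ * y⁻¹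
          = (a : 𝔥) * ((b : 𝔥) * y * (b : 𝔥)⁻¹ * y⁻¹) * (a : 𝔥)⁻¹ *
              ((a : 𝔥) * y * (a : 𝔥)⁻¹ * y⁻¹) := by group
        _ = ((b : 𝔥) * y * (b : 𝔥)⁻¹ * y⁻¹) * (a : 𝔥) * (a : 𝔥)⁻¹ *
              ((a : 𝔥) * y * (a : 𝔥)⁻¹ * y⁻¹) := by rw [hcomm]
        _ = _ := by group
    show Λ _ = Λ _ * Λ _
    rw [e, map_mul, mul_comm]
  apply orbit_prod_eq_one A (T.isPGroup'.to_le hAT) hAc v _ l ?_ ?_ hne
  · intro a
    have h1 : ((a : 𝔥) • ((t : 𝔥) : 𝔥 ⧸ M)) = (((a : 𝔥) * t : 𝔥) : 𝔥 ⧸ M) := rfl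
    rw [h1, hvmk, hvmk, hl, mul_comm, ← map_mul]
    congr 1
    apply Subtype.ext
    simp only [Subgroup.coe_mul]
    rw [hy]; group
  · have hstab : ∀ S : Subgroup A,
        (∀ a : A, a ∈ S ↔ (a : 𝔥) • ((t : 𝔥) : 𝔥 ⧸ M) = ((t : 𝔥) : 𝔥 ⧸ M)) → S.index ≠ 2 := by
      intro S hS
      have hSeq : S = (A ⊓ centralizer {t * u * t⁻¹}).subgroupOf A := by
        ext a
        rw [hS, mem_subgroupOf, Subgroup.mem_inf, mem_centralizer_singleton_iff,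
          smul_mk_eq_iff', c.hM, mem_centralizer_singleton_iff]
        constructor
        · intro h
          refine ⟨a.2, ?_⟩
          calc (a : 𝔥) * (t * u * t⁻¹) = t * ((t⁻¹ * a * t) * u) * t⁻¹ := by group
            _ = t * (u * (t⁻¹ * a * t)) * t⁻¹ := by rw [h]
            _ = t * u * t⁻¹ * a := by group
        · rintro ⟨_, h⟩
          calc t⁻¹ * (a : 𝔥) * t * u = t⁻¹ * ((a : 𝔥) * (t * u * t⁻¹)) * t := by group
            _ = t⁻¹ * ((t * u * t⁻¹) * a) * t := by rw [h]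
            _ = u * (t⁻¹ * a * t) := by group
      rw [hSeq]
      exact c.fam_index_ne_two hA t
    apply hstab
    intro a
    exact MulAction.mem_stabilizer_iff

/-- The configuration does not exist. -/
theorem elim [Finite 𝔥] (c : Cfg T u V K₀ M) : False := by
  classical
  haveI := c.hVn
  have huV : u ∈ V := by
    have := c.hVu 1
    simpa using this
  have hmemM : ∀ m : 𝔥, m ∈ M ↔ m * u = u * m := by
    intro m; rw [c.hM, Subgroup.mem_centralizer_singleton_iff]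
  obtain ⟨Y, hYdef⟩ : ∃ Y : Subgroup 𝔥, Y = closure {y | ∃ t : 𝔥, y = t * u * t⁻¹ * u⁻¹} :=
    ⟨_, rfl⟩
  have hδ : ∀ t : 𝔥, t * u * t⁻¹ * u⁻¹ ∈ Y := by
    intro t; rw [hYdef]; exact subset_closure ⟨t, rfl⟩
  have hYV : Y ≤ V := by
    rw [hYdef, closure_le]
    rintro _ ⟨t, rfl⟩
    exact V.mul_mem (c.hVu t) (V.inv_mem huV)
  haveI hYn : Y.Normal := by
    constructor
    intro y hy h
    rw [hYdef] at hy
    induction hy using closure_induction with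
    | mem x hx =>
      obtain ⟨t, rfl⟩ := hx
      have h1 := Y.mul_mem (hδ (h * t)) (Y.inv_mem (hδ h))
      have e : h * t * u * (h * t)⁻¹ * u⁻¹ * (h * u * h⁻¹ * u⁻¹)⁻¹ =
          h * (t * u * t⁻¹ * u⁻¹) * h⁻¹ := by group
      rwa [e] at h1
    | one => simp
    | mul a b _ _ ha hb =>
      have e : h * (a * b) * h⁻¹ = (h * a * h⁻¹) * (h * b * h⁻¹) := by group
      rw [e]; exact Y.mul_mem ha hb
    | inv a _ ha =>
      have e : h * a⁻¹ * h⁻¹ = (h * a * h⁻¹)⁻¹ := by group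
      rw [e]; exact Y.inv_mem ha
  have hY2 : IsPGroup 2 Y := T.isPGroup'.to_le (hYV.trans c.hVT)
  have hδM : ∀ t m : 𝔥, m ∈ M → (t * m) * u * (t * m)⁻¹ * u⁻¹ = t * u * t⁻¹ * u⁻¹ := by
    intro t m hm
    have h1 := (hmemM m).mp hm
    have h2 : m * u * m⁻¹ = u := by rw [h1]; group
    calc (t * m) * u * (t * m)⁻¹ * u⁻¹ = t * (m * u * m⁻¹) * t⁻¹ * u⁻¹ := by group
      _ = t * u * t⁻¹ * u⁻¹ := by rw [h2]
  haveI : Fintype (𝔥 ⧸ M) := Fintype.ofFinite _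
  have hout : ∀ (Λ : Y →* C2) (t : 𝔥),
      Λ ⟨(t : 𝔥 ⧸ M).out * u * ((t : 𝔥 ⧸ M).out)⁻¹ * u⁻¹, hδ _⟩ = Λ ⟨t * u * t⁻¹ * u⁻¹, hδ t⟩ := by
    intro Λ t
    obtain ⟨m, hm⟩ := QuotientGroup.mk_out_eq_mul M t
    congr 1
    apply Subtype.ext
    simp only
    rw [hm]
    exact hδM t m m.2
  have key : ∀ Λ : Y →* C2,
      ∏ ω : 𝔥 ⧸ M, Λ ⟨ω.out * u * ω.out⁻¹ * u⁻¹, hδ ω.out⟩ = 1 := by
    intro Λ
    obtain ⟨v, hv⟩ : ∃ v : 𝔥 ⧸ M → C2,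
        v = fun ω => Λ ⟨ω.out * u * ω.out⁻¹ * u⁻¹, hδ ω.out⟩ := ⟨_, rfl⟩
    have hvmk : ∀ t : 𝔥, v (t : 𝔥 ⧸ M) = Λ ⟨t * u * t⁻¹ * u⁻¹, hδ t⟩ := by
      intro t; rw [hv]; exact hout Λ t
    have hclimb := climbS_bot (p := 2) v (T : Subgroup 𝔥) T.isPGroup' (fam T V K₀)
      (fun A hA => fam_le hA)
      (fun A hA t ht => c.fam_cj hA t (by
        have h1 : cj t A ≤ cj t (T : Subgroup 𝔥) := cj_mono (fam_le hA)
        rwa [cj_eq_self_of_mem ht] at h1))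
      (fun A hA ω hne => c.orbit_prod Y hδ Λ v hvmk hA ω hne)
    rw [c.fixP_sSup_fam, Finset.prod_singleton, hvmk] at hclimb
    have e : ∏ ω : 𝔥 ⧸ M, Λ ⟨ω.out * u * ω.out⁻¹ * u⁻¹, hδ ω.out⟩ = ∏ ω : 𝔥 ⧸ M, v ω := by
      rw [hv]
    rw [e, hclimb]
    have : (⟨(1 : 𝔥) * u * (1 : 𝔥)⁻¹ * u⁻¹, hδ 1⟩ : Y) = 1 := by
      apply Subtype.ext
      simp
    rw [this, map_one]
  -- every homomorphism to `C₂` kills the generators
  have hgen : ∀ (Λ : Y →* C2) (h : 𝔥), Λ ⟨h * u * h⁻¹ * u⁻¹, hδ h⟩ = 1 := by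
    intro Λ h
    have hk1 := key Λ
    have hk2 := key (Λ.comp (cjN Y h))
    have hterm : ∀ ω : 𝔥 ⧸ M, (Λ.comp (cjN Y h)) ⟨ω.out * u * ω.out⁻¹ * u⁻¹, hδ ω.out⟩ =
        Λ ⟨(h • ω).out * u * ((h • ω).out)⁻¹ * u⁻¹, hδ _⟩ * (Λ ⟨h * u * h⁻¹ * u⁻¹, hδ h⟩)⁻¹ := by
      intro ω
      have h1 : h • ω = ((h * ω.out : 𝔥) : 𝔥 ⧸ M) := by
        conv_lhs => rw [← QuotientGroup.out_eq' ω]
        rfl
      have h2 := hout Λ (h * ω.out)
      rw [← h1] at h2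
      rw [h2, ← map_inv, ← map_mul, MonoidHom.comp_apply]
      congr 1
      apply Subtype.ext
      rw [coe_cjN]
      simp only [Subgroup.coe_mul, Subgroup.coe_inv]
      group
    rw [Finset.prod_congr rfl (fun ω _ => hterm ω), Finset.prod_mul_distrib, Finset.prod_const,
      Finset.card_univ] at hk2
    have hre : ∏ ω : 𝔥 ⧸ M, Λ ⟨(h • ω).out * u * ((h • ω).out)⁻¹ * u⁻¹, hδ _⟩ = 1 := by
      rw [← hk1]
      exact Fintype.prod_equiv (MulAction.toPerm h) _ _ (fun ω => rfl)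
    rw [hre, one_mul, inv_pow, inv_eq_one] at hk2
    by_contra hne
    have hcop : Nat.Coprime (Fintype.card (𝔥 ⧸ M)) 2 := by
      rw [Nat.coprime_comm, Nat.Prime.coprime_iff_not_dvd Nat.prime_two]
      intro hdvd
      apply T.not_dvd_index
      have h1 : M.index ∣ (T : Subgroup 𝔥).index := Subgroup.index_dvd_of_le c.hTM
      have h2 : Fintype.card (𝔥 ⧸ M) = M.index := by
        rw [Subgroup.index_eq_card, Nat.card_eq_fintype_card]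
      rw [h2] at hdvd
      exact dvd_trans hdvd h1
    exact Cfsg.Agent.Lib.Helper2.pow_ne_one_Fp hne hcop hk2
  -- hence `Y` is trivial
  have hYbot : Y = ⊥ := by
    by_contra hne
    haveI : Nontrivial Y := (Subgroup.nontrivial_iff_ne_bot Y).mpr hne
    obtain ⟨Λ, hΛ⟩ := Cfsg.Agent.Lib.Helper2.exists_hom_ne_one_of_isPGroup hY2
    apply hΛ
    have hle : Y ≤ Λ.ker.map Y.subtype := by
      conv_lhs => rw [hYdef]
      rw [closure_le]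
      rintro _ ⟨t, rfl⟩
      exact ⟨⟨_, hδ t⟩, MonoidHom.mem_ker.mpr (hgen Λ t), rfl⟩
    ext y
    obtain ⟨y', hy', hyy⟩ := hle y.2
    have : y' = y := Subtype.ext hyy
    rw [← this]
    exact MonoidHom.mem_ker.mp hy'
  apply c.hMtop
  rw [eq_top_iff]
  intro h _
  rw [hmemM]
  have h1 := hδ h
  rw [hYbot, Subgroup.mem_bot] at h1
  calc h * u = (h * u * h⁻¹ * u⁻¹) * u * h := by group
    _ = u * h := by rw [h1, one_mul]

end Cfg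

end Cfsg.Agent.Lib.Helper51.Wc
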