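import Mathlib
import Cfsg.Agent.Lib.Helper51.WcG
import Cfsg.Agent.Lib.Helper51.InvolvesT
import Cfsg.Agent.Lib.Helper54.WCElemRel
import Cfsg.Agent.Lib.Helper33.WellPlaced

set_option autoImplicit false
set_option maxHeartbeats 1600000

/-!
# The local theorem at the prime `2` for `S₄`-free groups, and the induction

`main2`: in a finite group not involving `S₄`, for every subgroup `H` and every Sylow `2`-subgroup
`T` of `H`, the elements of `T` central in `N_H(J(T))` are weakly closed in `T` with respect to `H`.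
-/

universe u

namespace Cfsg.Agent.Lib.Helper51.Wc

open Subgroup Cfsg
open Cfsg.Agent.Lib.Helper33 Cfsg.Agent.Lib.Helper51

section functor

variable {G : Type*} [Group G]

/-- `Z(P) ≤ J(P)`. -/
theorem zIn_le_thompsonAOf [Finite G] (P : Subgroup G) :
    P ⊓ centralizer (P : Set G) ≤ thompsonSubgroupAOf P := by
  obtain ⟨A, hA⟩ := exists_maxAbIn P
  refine le_trans ?_ (le_thompsonAOf hA)
  obtain ⟨hAP, hAc, hAmax⟩ := hA
  have hcomm : IsMulCommutative (A ⊔ (P ⊓ centralizer (P : Set G)) : Subgroup G) := by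
    apply Cfsg.Agent.Lib.Helper11.isMulCommutative_sup_of_commute A _ ((isMulComm_iff A).mp hAc)
    · intro x hx y hy
      exact (mem_centralizer_iff.mp hy.2 x hx.1)
    · intro a ha z hz
      exact (mem_centralizer_iff.mp hz.2 a (hAP ha))
  have h1 := hAmax _ (sup_le hAP inf_le_left) hcomm
  have h2 : A ⊔ (P ⊓ centralizer (P : Set G)) = A :=
    (Subgroup.eq_of_le_of_card_ge le_sup_left h1).symm
  rw [← h2]
  exact le_sup_right

theorem isConjugacyFunctor_thompsonAOf [Finite G] (p : ℕ) :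
    IsConjugacyFunctor p (thompsonSubgroupAOf : Subgroup G → Subgroup G) := by
  intro P _
  refine ⟨thompsonAOf_le P, thompsonAOf_ne_bot, ?_⟩
  intro g
  exact thompsonAOf_cj g P

end functor

variable {𝔥 : Type u} [Group 𝔥]

/-- **The local theorem.** -/
theorem local2 [Finite 𝔥] (hS4 : ¬ Involves (Equiv.Perm (Fin 4)) 𝔥) (T : Sylow 2 𝔥) (u : 𝔥)
    (huZ : ∀ t ∈ (T : Subgroup 𝔥), t * u = u * t)
    (T₀ : Subgroup 𝔥) (hT₀n : T₀.Normal) (hT₀T : T₀ ≤ (T : Subgroup 𝔥)) (huT₀ : u ∈ T₀)
    (h3 : ∀ K : Subgroup 𝔥, (T : Subgroup 𝔥) ≤ K → K ≠ ⊤ → K ≤ centralizer {u})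
    (hJ : normalizer (thompsonSubgroupAOf (T : Subgroup 𝔥) : Set 𝔥) ≤ centralizer {u}) :
    ∀ h : 𝔥, h * u * h⁻¹ = u := by
  by_contra hcon
  push Not at hcon
  obtain ⟨h₀, hh₀⟩ := hcon
  haveI := hT₀n
  obtain ⟨V, hV⟩ : ∃ V : Subgroup 𝔥, V = normalClosure {u} := ⟨_, rfl⟩
  haveI hVn : V.Normal := hV ▸ normalClosure_normal
  have huV : u ∈ V := hV ▸ subset_normalClosure (Set.mem_singleton u)
  have huZ₀ : u ∈ zIn T₀ := by
    rw [mem_zIn]
    exact ⟨huT₀, fun y hy => huZ y (hT₀T hy)⟩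
  haveI hZn : (zIn T₀).Normal := TNPC.zIn_normal T₀
  have hVZ : V ≤ zIn T₀ := by
    rw [hV]
    apply normalClosure_le_normal
    rw [Set.singleton_subset_iff]
    exact huZ₀
  refine Cfg.elim (T := T) (u := u) (V := V) (K₀ := centralizer (V : Set 𝔥))
    (M := centralizer {u}) ⟨hS4, rfl, ?_, ?_, h3, hJ, hVn, ?_, ?_, ?_, rfl, ?_⟩
  · intro htop
    apply hh₀
    have h1 : h₀ ∈ centralizer {u} := htop ▸ mem_top h₀
    rw [mem_centralizer_singleton_iff] at h1
    rw [h1]; group
  · intro t ht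
    rw [mem_centralizer_singleton_iff]
    exact huZ t ht
  · exact hVZ.trans ((zIn_le T₀).trans hT₀T)
  · intro x hx y hy
    exact (isMulComm_iff _).mp (zIn_isMulComm T₀) x (hVZ hx) y (hVZ hy)
  · intro g
    exact hVn.conj_mem u huV g
  · intro N hNn hNM
    haveI := hNn
    rw [le_centralizer_iff, hV]
    apply normalClosure_le_normal
    rw [Set.singleton_subset_iff, SetLike.mem_coe, mem_centralizer_iff]
    intro n hn
    have := hNM hn
    rw [mem_centralizer_singleton_iff] at this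
    exact this

open Cfsg.Agent.Lib.Helper54.WCElem in
/-- **The induction.** -/
theorem main2 {G : Type u} [Group G] [Finite G] (hS4 : ¬ Involves (Equiv.Perm (Fin 4)) G) :
    ∀ (n : ℕ) (H : Subgroup G), Nat.card H = n → ∀ T : Subgroup G, T ≤ H → IsPGroup 2 T →
      ¬ 2 ∣ T.relIndex H →
      ∀ x ∈ T ⊓ Subgroup.centralizer
        ((H ⊓ Subgroup.normalizer ((thompsonSubgroupAOf T : Subgroup G) : Set G) : Subgroup G) :
          Set G),
      ∀ h ∈ H, h * x * h⁻¹ ∈ T → h * x * h⁻¹ = x := by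
  have hW : IsConjugacyFunctor 2 (thompsonSubgroupAOf : Subgroup G → Subgroup G) :=
    isConjugacyFunctor_thompsonAOf 2
  have hWZ : ∀ P : Subgroup G, IsPGroup 2 ↥P →
      P ⊓ Subgroup.centralizer ((P : Subgroup G) : Set G) ≤ thompsonSubgroupAOf P :=
    fun P _ => zIn_le_thompsonAOf P
  intro n
  induction n using Nat.strong_induction_on with
  | _ n ih =>
  intro H hn T hTH hTp hTi x hx h hh hhT
  by_contra hhx
  obtain ⟨hxT, hxC0⟩ := hx
  have hTN : T ≤ H ⊓ Subgroup.normalizer ((thompsonSubgroupAOf T : Subgroup G) : Set G) :=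
    le_inf hTH (le_trans Subgroup.le_normalizer (normalizer_le_normalizer_thompsonAOf T))
  have hxC : x ∈ Subgroup.centralizer (T : Set G) :=
    Subgroup.centralizer_le (by exact_mod_cast hTN) hxC0
  have hxN : H ⊓ Subgroup.normalizer ((thompsonSubgroupAOf T : Subgroup G) : Set G) ≤
      Subgroup.centralizer {x} := by
    intro y hy
    rw [Subgroup.mem_centralizer_singleton_iff]
    exact Subgroup.mem_centralizer_iff.mp hxC0 y hy
  obtain ⟨T₀, hT₀T, hxT₀, hN, hidx, k, hk, hkx⟩ :=
    witness_rel thompsonSubgroupAOf hW hWZ H T hTH hTp hTi x hxT hxC hxN h hh hhT hhx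
  obtain ⟨R, hR⟩ : ∃ R, R = T ⊓ Subgroup.normalizer (T₀ : Set G) := ⟨_, rfl⟩
  obtain ⟨L, hL⟩ : ∃ L, L = H ⊓ Subgroup.normalizer (T₀ : Set G) := ⟨_, rfl⟩
  rw [← hR] at hN hidx
  rw [← hL] at hidx hk
  have hLH : L ≤ H := hL ▸ inf_le_left
  have hRL : R ≤ L := by rw [hR, hL]; exact inf_le_inf_right _ hTH
  have hconjT₀ : ∀ y ∈ Subgroup.normalizer (T₀ : Set G), y * x * y⁻¹ ∈ T₀ :=
    fun y hy => (Subgroup.mem_normalizer_iff.mp hy x).mp hxT₀
  by_cases hLeq : L = H
  swap
  · -- `N_H(T₀)` is proper: induction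
    have hlt : Nat.card L < n := by
      rw [← hn]
      have hlt' : L < H := lt_of_le_of_ne hLH hLeq
      exact Set.Finite.card_lt_card (Set.toFinite _) hlt'
    apply hkx
    apply ih (Nat.card L) hlt L rfl R hRL (hTp.to_le (hR ▸ inf_le_left)) hidx x ?_ k hk ?_
    · refine ⟨hR ▸ ⟨hxT, Subgroup.le_normalizer hxT₀⟩, ?_⟩
      refine Subgroup.mem_centralizer_iff.mpr ?_
      intro y hy
      have h1 : y ∈ Subgroup.centralizer {x} := hN ⟨hLH hy.1, hy.2⟩
      exact Subgroup.mem_centralizer_singleton_iff.mp h1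
    · have h1 : k * x * k⁻¹ ∈ T₀ := hconjT₀ k (hL ▸ hk).2
      rw [hR]
      exact ⟨hT₀T h1, Subgroup.le_normalizer h1⟩
  · -- `T₀` is normal in `H`: the local theorem
    have hHN : H ≤ Subgroup.normalizer (T₀ : Set G) := by
      rw [← hLeq, hL]; exact inf_le_right
    have hkH : k ∈ H := hLH hk
    have hxH : x ∈ H := hTH hxT
    -- Sylow subgroup of `↥H`
    have hTp' : IsPGroup 2 (T.subgroupOf H) := hTp.comap_subtype
    obtain ⟨S, hS⟩ : ∃ S : Sylow 2 H, (S : Subgroup H) = T.subgroupOf H :=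
      ⟨hTp'.toSylow hTi, rfl⟩
    have hmemS : ∀ z : H, z ∈ (S : Subgroup H) ↔ (z : G) ∈ T := by
      intro z; rw [hS]; exact Subgroup.mem_subgroupOf
    have hSmap : (S : Subgroup H).map H.subtype = T := by
      rw [hS]; exact Subgroup.map_subgroupOf_eq_of_le hTH
    -- proper overgroups of `T` centralize `x`
    have h3 : ∀ K : Subgroup H, (S : Subgroup H) ≤ K → K ≠ ⊤ →
        K ≤ Subgroup.centralizer {(⟨x, hxH⟩ : H)} := by
      intro K hSK hKtop
      obtain ⟨K', hK'⟩ : ∃ K' : Subgroup G, K' = K.map H.subtype := ⟨_, rfl⟩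
      have hK'H : K' ≤ H := hK' ▸ Subgroup.map_subtype_le K
      have hTK' : T ≤ K' := by
        intro t ht
        rw [hK']
        exact ⟨⟨t, hTH ht⟩, hSK ((hmemS _).mpr ht), rfl⟩
      have hK'ne : K' ≠ H := by
        intro heq
        apply hKtop
        rw [eq_top_iff]
        intro y _
        have : (y : G) ∈ K' := heq ▸ y.2
        rw [hK'] at this
        exact (coe_mem_map_subtype K y).mp this
      have hlt : Nat.card K' < n := by
        rw [← hn]
        have hlt' : K' < H := lt_of_le_of_ne hK'H hK'ne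
        exact Set.Finite.card_lt_card (Set.toFinite _) hlt'
      have hidx' : ¬ 2 ∣ T.relIndex K' := by
        intro hdvd
        apply hTi
        rw [← Subgroup.relIndex_mul_relIndex T K' H hTK' hK'H]
        exact Dvd.dvd.mul_right hdvd _
      intro y hy
      have hyK' : (y : G) ∈ K' := by rw [hK']; exact Subgroup.mem_map_of_mem _ hy
      have hxK' : x ∈ T ⊓ Subgroup.centralizer
          ((K' ⊓ Subgroup.normalizer ((thompsonSubgroupAOf T : Subgroup G) : Set G) :
            Subgroup G) : Set G) := by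
        refine ⟨hxT, ?_⟩
        refine Subgroup.mem_centralizer_iff.mpr ?_
        intro z hz
        have h1 : z ∈ Subgroup.centralizer {x} := hxN ⟨hK'H hz.1, hz.2⟩
        exact Subgroup.mem_centralizer_singleton_iff.mp h1
      have h4 := ih (Nat.card K') hlt K' rfl T hTK' hTp hidx' x hxK' (y : G) hyK'
        (hT₀T (hconjT₀ _ (hHN y.2)))
      rw [Subgroup.mem_centralizer_singleton_iff]
      apply Subtype.ext
      simp only [Subgroup.coe_mul]
      calc (y : G) * x = ((y : G) * x * (y : G)⁻¹) * (y : G) := by group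
        _ = x * (y : G) := by rw [h4]
    -- the hypotheses of the local theorem
    have hS4' : ¬ Involves (Equiv.Perm (Fin 4)) ↥H := fun hinv =>
      hS4 (involves_of_injective H.subtype H.subtype_injective hinv)
    have huZ : ∀ t ∈ (S : Subgroup H), t * (⟨x, hxH⟩ : H) = ⟨x, hxH⟩ * t := by
      intro t ht
      apply Subtype.ext
      simp only [Subgroup.coe_mul]
      exact (Subgroup.mem_centralizer_iff.mp hxC (t : G) ((hmemS t).mp ht))
    have hT₀n : (T₀.subgroupOf H).Normal :=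
      (Subgroup.normal_subgroupOf_iff_le_normalizer (le_trans hT₀T hTH)).mpr hHN
    have hT₀S : T₀.subgroupOf H ≤ (S : Subgroup H) := by
      intro z hz
      rw [hmemS]
      exact hT₀T (Subgroup.mem_subgroupOf.mp hz)
    have hJ' : normalizer ((thompsonSubgroupAOf (S : Subgroup H) : Subgroup H) : Set H) ≤
        centralizer {(⟨x, hxH⟩ : H)} := by
      intro y hy
      have h1 : (y : G) ∈ normalizer ((thompsonSubgroupAOf T : Subgroup G) : Set G) := by
        rw [← hSmap, ← TNPC.thompsonAOf_map_subtype]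
        apply Cfsg.Agent.Lib.Helper11.mem_normalizer_of_conj_mem
        rintro _ ⟨w, hw, rfl⟩
        refine ⟨y * w * y⁻¹, ?_, by simp⟩
        exact (Subgroup.mem_normalizer_iff.mp hy w).mp hw
      have h2 := hxN ⟨y.2, h1⟩
      rw [Subgroup.mem_centralizer_singleton_iff] at h2 ⊢
      apply Subtype.ext
      simp only [Subgroup.coe_mul]
      exact h2
    have hfinal := local2 hS4' S ⟨x, hxH⟩ huZ (T₀.subgroupOf H) hT₀n hT₀S
      (Subgroup.mem_subgroupOf.mpr hxT₀) h3 hJ' ⟨k, hkH⟩
    apply hkx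
    have := congrArg Subtype.val hfinal
    simpa using this

end Cfsg.Agent.Lib.Helper51.Wc
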