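import Mathlib
import Cfsg.Agent.S1974
import Cfsg.Agent.Lib.Helper51.AgC
import Cfsg.Agent.Lib.Helper54.EngelLocal

set_option autoImplicit false
set_option maxHeartbeats 800000

/-!
# The quadratic element for the Thompson subgroup

If `J(T)` is not normal in `H` (with `T` a Sylow `p`-subgroup of `H`), some element of `T` outside
`O_p(H)` acts quadratically on `Z(O_p(H))`.
-/

namespace Cfsg.Agent.Lib.Helper51.Wc

open Subgroup Cfsg
open Cfsg.Agent.Lib.Helper33 Cfsg.Agent.Lib.Helper51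
open scoped commutatorElement

variable {G : Type*} [Group G]

theorem pCoreOf_le_sylow [Finite G] {p : ℕ} [Fact p.Prime] {H T : Subgroup G} (hTH : T ≤ H)
    (hTp : IsPGroup p T) (hTi : ¬ p ∣ T.relIndex H) : pCoreOf p H ≤ T := by
  have hTp' : IsPGroup p (T.subgroupOf H) := hTp.comap_subtype
  obtain ⟨S, hS⟩ : ∃ S : Sylow p H, (S : Subgroup H) = T.subgroupOf H :=
    ⟨hTp'.toSylow hTi, rfl⟩
  have h1 : Cfsg.pCore p H ≤ (S : Subgroup H) := Cfsg.Agent.Lib.Helper11.pCore_le_sylow S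
  rintro _ ⟨q, hq, rfl⟩
  have := h1 hq
  rw [hS] at this
  exact Subgroup.mem_subgroupOf.mp this

theorem quad_hloc [Finite G] {p : ℕ} [Fact p.Prime] (H T : Subgroup G) (hTH : T ≤ H)
    (hTp : IsPGroup p T) (hTi : ¬ p ∣ T.relIndex H)
    (hnot : ¬ H ≤ normalizer ((thompsonSubgroupAOf T : Subgroup G) : Set G)) :
    ∃ g : G, g ∈ T ∧ g ∉ pCoreOf p H ∧
      ⁅⁅pCoreOf p H ⊓ centralizer ((pCoreOf p H : Subgroup G) : Set G), zpowers g⁆, zpowers g⁆ =
        ⊥ := by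
  obtain ⟨Q, hQ⟩ : ∃ Q, Q = pCoreOf p H := ⟨_, rfl⟩
  rw [← hQ]
  have hQT : Q ≤ T := hQ ▸ pCoreOf_le_sylow hTH hTp hTi
  have hHQ : H ≤ normalizer (Q : Set G) := hQ ▸ Cfsg.Agent.S1974.le_normalizer_pCoreOf' p H
  have hex : ∃ A ∈ maxAbIn T, ¬ A ≤ Q := by
    by_contra hcon
    push Not at hcon
    apply hnot
    have hJQ : thompsonSubgroupAOf T ≤ Q := by
      rw [thompsonAOf_eq_sSup]
      exact sSup_le hcon
    rw [← thompsonAOf_eq_of_le hQT hJQ]
    exact hHQ.trans (normalizer_le_normalizer_thompsonAOf Q)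
  have hZT : zIn Q ≤ T := (zIn_le Q).trans hQT
  have hZc : ∀ z ∈ zIn Q, ∀ z' ∈ zIn Q, z * z' = z' * z := (isMulComm_iff _).mp (zIn_isMulComm Q)
  have hTZ : T ≤ normalizer (zIn Q : Set G) :=
    (hTH.trans hHQ).trans (normalizer_le_normalizer_zIn Q)
  have hQZ : ∀ h ∈ Q, ∀ z ∈ zIn Q, h * z = z * h := fun h hh z hz => (mem_zIn.mp hz).2 h hh
  obtain ⟨A, hA, hAQ, hquad⟩ := exists_maxAb_normalized_in hTp hZT hZc hTZ hQZ hex
  have hAc : ∀ a ∈ A, ∀ b ∈ A, a * b = b * a := (isMulComm_iff A).mp hA.2.1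
  obtain ⟨g, hgA, hgQ⟩ := SetLike.not_le_iff_exists.mp hAQ
  refine ⟨g, hA.1 hgA, hgQ, ?_⟩
  have h1 : ⁅zIn Q, zpowers g⁆ ≤ A := by
    rw [Subgroup.commutator_le]
    intro z hz a ha
    have haA : a ∈ A := (zpowers_le.mpr hgA) ha
    have := hquad z⁻¹ ((zIn Q).inv_mem hz) a⁻¹ (A.inv_mem haA)
    have e : ⁅z, a⁆ = cm z⁻¹ a⁻¹ := by
      rw [commutatorElement_def]; unfold cm; group
    rw [e]; exact this
  rw [eq_bot_iff]
  refine le_trans (Subgroup.commutator_mono h1 (zpowers_le.mpr hgA)) ?_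
  rw [Subgroup.commutator_le]
  intro a ha b hb
  rw [Subgroup.mem_bot, commutatorElement_def, hAc a ha b hb]
  group

/-- The iterated-commutator form, for odd `p`. -/
theorem iter_of_quad {p : ℕ} (hp3 : 3 ≤ p) {U Z K : Subgroup G} (hUZ : U ≤ Z)
    (hquad : ⁅⁅Z, K⁆, K⁆ = ⊥) : iterCommutator U K (p - 1) = ⊥ := by
  have hall : ∀ m : ℕ, iterCommutator U K (m + 2) = ⊥ := by
    intro m
    induction m with
    | zero =>
      rw [eq_bot_iff, ← hquad]
      exact Subgroup.commutator_mono (Subgroup.commutator_mono hUZ le_rfl) le_rfl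
    | succ m ih =>
      show ⁅iterCommutator U K (m + 2), K⁆ = ⊥
      rw [ih]
      exact Subgroup.commutator_bot_left K
  obtain ⟨m, hm⟩ : ∃ m, p - 1 = m + 2 := ⟨p - 3, by omega⟩
  rw [hm]
  exact hall m

end Cfsg.Agent.Lib.Helper51.Wc
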