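import Cfsg.Agent.Lib.Helper54.FusWC
import Cfsg.Agent.Lib.Helper88.SectionFreeNormalizer

set_option autoImplicit false

/-!
# Control of the centre by the normalizer system of `W(S)`, for `H`-free fusion systems

The chain `constrained_fix`, `LocalHyp`, `local_fix`, `global_fix`, `le_center_of_localHyp`,
`localHyp_of_weaklyClosed` of `Cfsg.Agent.Lib.Helper54`, with the local hypothesis asked only in the
finite groups that do not involve `H`, for fusion systems that are `H`-free.
-/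

universe u

namespace Cfsg.Agent.Lib.Helper51.WcFus

open Cfsg Cfsg.FusionSystem Cfsg.Agent.Lib.Helper87 Cfsg.Agent.Lib.Helper54.FusWP
  Cfsg.Agent.Lib.Helper54.FusFix Cfsg.Agent.Lib.Helper54.FusLocal
  Cfsg.Agent.Lib.Helper54.FusGlobal Cfsg.Agent.Lib.Helper54.FusCenter
open Cfsg.Agent.Lib.Helper88 (liftConj liftConj_mem ι_liftConj ι_eq)

variable {Ω : Type u} [Group Ω] {p : ℕ}

/-- The constrained step: `F₁` saturated over `R` with `U` normal in `F₁`; an element `c` of `Z(R)`
fixed by the automorphisms of `W(R)` and satisfying the local condition in the models is fixed by the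
maps of `F₁` defined on `U C_R(U)`. -/
theorem constrained_fix' {R : Subgroup Ω} [Finite R] [Fact p.Prime] (hR : IsPGroup p R)
    (W : ∀ (Q : Type u) [Group Q], Subgroup Q)
    (hWZ : ∀ (Q : Type u) [Group Q] [Finite Q], IsPGroup p Q → Subgroup.center Q ≤ W Q)
    (F₁ : FusionSystem R) (hF₁ : F₁.IsSaturated p) {U : Subgroup Ω} (hU : F₁.IsNormal U)
    (H : Type*) [Group H] (hfree : F₁.IsSectionFree p H)
    {c : Ω} (hcR : c ∈ R) (hcZ : c ∈ Subgroup.centralizer (R : Set Ω))
    (hV : ∀ β ∈ F₁.Hom (inducedFunctor W R), β.range = inducedFunctor W R →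
      ∀ hc : c ∈ inducedFunctor W R, β ⟨c, hc⟩ = c)
    (hloc : ∀ (G : Type u) [Group G] [Finite G]
      (ι : ↥(normalizerIn R (U ⊔ centralizerIn R U)) →* G),
      Function.Injective ι → (∃ P : Sylow p G, (P : Subgroup G) = ι.range) → ¬ Involves H G →
      ∀ hc : c ∈ normalizerIn R (U ⊔ centralizerIn R U), ι ⟨c, hc⟩ ∈ pCore p G →
        (∀ n ∈ Subgroup.normalizer
          ((((W ↥(normalizerIn R (U ⊔ centralizerIn R U))).map ι : Subgroup G)) : Set G),
          n * ι ⟨c, hc⟩ = ι ⟨c, hc⟩ * n) →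
        ι ⟨c, hc⟩ ∈ Subgroup.center G) :
    ∀ ψ ∈ F₁.Hom (U ⊔ centralizerIn R U), ∀ hc : c ∈ U ⊔ centralizerIn R U, ψ ⟨c, hc⟩ = c := by
  have hUR : U ≤ R := hU.1
  have hUsc : F₁.StronglyClosed U := stronglyClosed_of_isNormal F₁ hU
  have hR₀sc : F₁.StronglyClosed (U ⊔ centralizerIn R U) :=
    Cfsg.Agent.S5255.result p hR F₁ hF₁ U hUsc
  have hR₀R : U ⊔ centralizerIn R U ≤ R := hR₀sc.1
  have hcen : centralizerIn R (U ⊔ centralizerIn R U) ≤ U ⊔ centralizerIn R U := by
    intro x hx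
    refine (le_sup_right : centralizerIn R U ≤ U ⊔ centralizerIn R U) ⟨hx.1, ?_⟩
    intro u hu
    exact hx.2 u ((le_sup_left : U ≤ U ⊔ centralizerIn R U) hu)
  have hR₀c : F₁.IsCentric (U ⊔ centralizerIn R U) := isCentric_of_stronglyClosed F₁ hR₀sc hcen
  have hR₀fn : F₁.IsFullyNormalized (U ⊔ centralizerIn R U) :=
    fullyNormalized_of_stronglyClosed F₁ hR₀sc
  have hRN : R ≤ Subgroup.normalizer ((U ⊔ centralizerIn R U : Subgroup Ω) : Set Ω) :=
    stronglyClosed_le_normalizer F₁ hR₀sc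
  have hTR : normalizerIn R (U ⊔ centralizerIn R U) = R :=
    le_antisymm inf_le_left (le_inf le_rfl hRN)
  have hTle : normalizerIn R (U ⊔ centralizerIn R U) ≤ R := inf_le_left
  haveI : Finite (normalizerIn R (U ⊔ centralizerIn R U)) := finite_of_le hTle
  haveI : Finite (U ⊔ centralizerIn R U : Subgroup Ω) := finite_of_le hR₀R
  have hTp : IsPGroup p (normalizerIn R (U ⊔ centralizerIn R U)) := hR.to_le hTle
  -- the normalizer system of `R₀`
  have hE := isNormalizerSystem_normalizerSystem F₁ (U ⊔ centralizerIn R U) hR₀R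
  have hEsat := Cfsg.Agent.S5098.result p hR F₁ hF₁ _ hR₀fn _ hE
  have hR₀n := normalizerSystem_isNormal F₁ hR₀R hE
  have hR₀Ec := normalizerSystem_isCentric F₁ hR₀c hE
  obtain ⟨G, hGrp, ι, hM⟩ := Cfsg.Agent.S5090.result p hTp
    (normalizerSystem F₁ (U ⊔ centralizerIn R U) hR₀R) ⟨hEsat, _, hR₀n, hR₀Ec⟩
  haveI : Finite G := hM.1
  have hcR₀ : c ∈ U ⊔ centralizerIn R U :=
    (le_sup_right : centralizerIn R U ≤ U ⊔ centralizerIn R U)
      ⟨hcR, Subgroup.centralizer_le (show (U : Set Ω) ⊆ R from hUR) hcZ⟩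
  have hcT : c ∈ normalizerIn R (U ⊔ centralizerIn R U) := hR₀n.1 hcR₀
  have hcW : c ∈ inducedFunctor W (normalizerIn R (U ⊔ centralizerIn R U)) := by
    refine (mem_induced W).mpr ⟨⟨c, hcT⟩, hWZ _ hTp ?_, rfl⟩
    rw [Subgroup.mem_center_iff]
    intro t
    apply Subtype.ext
    exact hcZ t (hTle t.2)
  have hfix : ∀ β ∈ (normalizerSystem F₁ (U ⊔ centralizerIn R U) hR₀R).Hom
      (inducedFunctor W (normalizerIn R (U ⊔ centralizerIn R U))),
      β.range = inducedFunctor W (normalizerIn R (U ⊔ centralizerIn R U)) → β ⟨c, hcW⟩ = c := by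
    intro β hβ hβr
    have hβF : β ∈ F₁.Hom _ := by
      rw [hE _] at hβ
      exact hβ.1
    have e : inducedFunctor W (normalizerIn R (U ⊔ centralizerIn R U)) = inducedFunctor W R := by
      rw [hTR]
    have hβ' := cast_mem F₁ e hβF
    have hr' : (β.comp (Subgroup.inclusion e.ge)).range = inducedFunctor W R := by
      apply le_antisymm
      · rintro _ ⟨x, rfl⟩
        have : β (Subgroup.inclusion e.ge x) ∈ β.range := ⟨_, rfl⟩
        rw [hβr] at this
        exact e.le this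
      · intro y hy
        have hy' : y ∈ β.range := by rw [hβr]; exact e.ge hy
        obtain ⟨x, rfl⟩ := hy'
        exact ⟨⟨x, e.le x.2⟩, rfl⟩
    exact hV _ hβ' hr' (e.le hcW)
  have hmain := model_fix hTp W _ hM hR₀n hcR₀ hcW hfix
    (fun h1 h2 => hloc G ι hM.2.1.1 hM.2.2.1 (hfree _ hR₀fn hR₀c _ hE G ι hM) hcT h1 h2)
  intro ψ hψ hc
  have hr : ψ.range = U ⊔ centralizerIn R U := (weaklyClosed_of_stronglyClosed F₁ hR₀sc).2 ψ hψ
  exact hmain _ ψ (mem_normalizerSystem_of_range_eq F₁ hR₀R hE hψ hr) hc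



/-- The local hypothesis for the elements of `C`: in every finite group `G` into which a subgroup `T`
of `S` containing `Z(S)` embeds as a Sylow `p`-subgroup, an element of `C` lying in `O_p(G)` and
commuting with the normalizer of `W(T)` is central. -/
def LocalHyp' (p : ℕ) (W : ∀ (Q : Type u) [Group Q], Subgroup Q) (S : Subgroup Ω) (C : Set Ω)
    (H : Type*) [Group H] : Prop :=
  ∀ (T : Subgroup Ω), T ≤ S → S ⊓ Subgroup.centralizer (S : Set Ω) ≤ T →
    ∀ (G : Type u) [Group G] [Finite G] (ι : T →* G), Function.Injective ι →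
      (∃ P : Sylow p G, (P : Subgroup G) = ι.range) → ¬ Involves H G →
      ∀ c ∈ C, ∀ hc : c ∈ T, ι ⟨c, hc⟩ ∈ pCore p G →
        (∀ n ∈ Subgroup.normalizer ((((W ↥T).map ι : Subgroup G)) : Set G),
          n * ι ⟨c, hc⟩ = ι ⟨c, hc⟩ * n) →
        ι ⟨c, hc⟩ ∈ Subgroup.center G


variable {S : Subgroup Ω}

/-- The local step: for `U` fully normalized, if the automorphisms of `W(N_S(U))` fix the elements of
`C ⊆ Z(S)`, so do the automorphisms of `U`. -/
theorem local_fix' [Finite S] [Fact p.Prime] (hS : IsPGroup p S)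
    (W : ∀ (Q : Type u) [Group Q], Subgroup Q)
    (hWZ : ∀ (Q : Type u) [Group Q] [Finite Q], IsPGroup p Q → Subgroup.center Q ≤ W Q)
    (F : FusionSystem S) (hF : F.IsSaturated p) (C : Set Ω)
    (hCZ : ∀ c ∈ C, c ∈ S ⊓ Subgroup.centralizer (S : Set Ω))
    (H : Type*) [Group H] (hfree : F.IsSectionFree p H)
    (hLoc : LocalHyp' p W S C H)
    {U : Subgroup Ω} (hU : F.IsFullyNormalized U)
    (hV : ∀ β ∈ F.Hom (inducedFunctor W (normalizerIn S U)),
      β.range = inducedFunctor W (normalizerIn S U) →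
      ∀ c ∈ C, ∀ hc : c ∈ inducedFunctor W (normalizerIn S U), β ⟨c, hc⟩ = c) :
    ∀ α ∈ F.Hom U, α.range = U → ∀ c ∈ C, ∀ hc : c ∈ U, α ⟨c, hc⟩ = c := by
  intro α hα hαr c hcC hcU
  have hUS : U ≤ S := hU.1
  have hRS : normalizerIn S U ≤ S := normalizerIn_le S U
  haveI : Finite (normalizerIn S U) := finite_of_le hRS
  have hRp : IsPGroup p (normalizerIn S U) := hS.to_le hRS
  have hF₁ := isNormalizerSystem_normalizerSystem F U hUS
  have hF₁sat := Cfsg.Agent.S5098.result p hS F hF U hU _ hF₁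
  have hUn := normalizerSystem_isNormal F hUS hF₁
  have hcS : c ∈ S := (hCZ c hcC).1
  have hcZS : c ∈ Subgroup.centralizer (S : Set Ω) := (hCZ c hcC).2
  have hZR : S ⊓ Subgroup.centralizer (S : Set Ω) ≤ normalizerIn S U := by
    intro z hz
    exact ⟨hz.1, Subgroup.centralizer_le_normalizer _
      (Subgroup.centralizer_le (show (U : Set Ω) ⊆ S from hUS) hz.2)⟩
  have hcR : c ∈ normalizerIn S U := hZR (hCZ c hcC)
  have hcZ : c ∈ Subgroup.centralizer ((normalizerIn S U : Subgroup Ω) : Set Ω) :=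
    Subgroup.centralizer_le (show ((normalizerIn S U : Subgroup Ω) : Set Ω) ⊆ S from hRS) hcZS
  have hR₀R : U ⊔ centralizerIn (normalizerIn S U) U ≤ normalizerIn S U :=
    sup_le (le_normalizerIn hUS) inf_le_left
  have hTS : normalizerIn (normalizerIn S U) (U ⊔ centralizerIn (normalizerIn S U) U) ≤ S :=
    inf_le_left.trans hRS
  have hZT : S ⊓ Subgroup.centralizer (S : Set Ω) ≤
      normalizerIn (normalizerIn S U) (U ⊔ centralizerIn (normalizerIn S U) U) := by
    intro z hz
    refine ⟨hZR hz, Subgroup.centralizer_le_normalizer _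
      (Subgroup.centralizer_le ?_ hz.2)⟩
    exact hR₀R.trans hRS
  have hfree₁ : (normalizerSystem F U hUS).IsSectionFree p H :=
    Cfsg.Agent.Lib.Helper88.isSectionFree_normalizerSystem hS F hF H hfree hU _ hF₁
  have hmain := constrained_fix' hRp W hWZ (normalizerSystem F U hUS) hF₁sat hUn H hfree₁ hcR hcZ
    (fun β hβ hβr hc => by
      have hβF : β ∈ F.Hom _ := by
        rw [hF₁ _] at hβ
        exact hβ.1
      exact hV β hβF hβr c hcC hc)
    (fun G _ _ ι hinj hSyl hG hc h1 h2 => hLoc _ hTS hZT G ι hinj hSyl hG c hcC hc h1 h2)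
  -- extend `α` to `U C_S(U)`
  have hrec : F.IsReceptive U := receptive_of_fullyNormalized hS F hF hU
  have hM : U ⊔ centralizerIn (normalizerIn S U) U ≤ extender S U α := by
    refine sup_le (self_le_extender F hα) (le_trans ?_ (centralizerIn_le_extender' U α))
    intro x hx
    exact ⟨hx.1.1, hx.2⟩
  obtain ⟨ψ, hψ, hψe⟩ := extend_to_sub F hα hαr hrec hM
  have hcR₀ : c ∈ U ⊔ centralizerIn (normalizerIn S U) U :=
    (le_sup_left : U ≤ U ⊔ centralizerIn (normalizerIn S U) U) hcU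
  -- `ψ` maps `U` onto `U`
  have hψU : ∀ (u : Ω) (hu : u ∈ U), ψ ⟨u, (le_sup_left : U ≤ _) hu⟩ ∈ U := by
    intro u hu
    rw [hψe u hu]
    have : α ⟨u, hu⟩ ∈ α.range := ⟨_, rfl⟩
    rwa [hαr] at this
  have hψUsurj : ∀ u ∈ U, ∃ (u' : Ω) (hu' : u' ∈ U), ψ ⟨u', (le_sup_left : U ≤ _) hu'⟩ = u := by
    intro u hu
    have : u ∈ α.range := by rw [hαr]; exact hu
    obtain ⟨u', hu'⟩ := this
    exact ⟨u', u'.2, by rw [hψe (u' : Ω) u'.2]; exact hu'⟩
  -- `ψ` is a map of the normalizer system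
  have hψN : ψ ∈ (normalizerSystem F U hUS).Hom (U ⊔ centralizerIn (normalizerIn S U) U) := by
    rw [hF₁ _]
    have hval : ∀ x : ↥(U ⊔ centralizerIn (normalizerIn S U) U), ψ x ∈ normalizerIn S U := by
      have key : ∀ x : ↥(U ⊔ centralizerIn (normalizerIn S U) U), ∀ u ∈ U,
          ψ x * u * (ψ x)⁻¹ ∈ U := by
        intro x u hu
        obtain ⟨u', hu', rfl⟩ := hψUsurj u hu
        have hxN : (x : Ω) ∈ Subgroup.normalizer (U : Set Ω) := (hR₀R x.2).2
        have h1 : (x : Ω) * u' * (x : Ω)⁻¹ ∈ U := (Subgroup.mem_normalizer_iff.mp hxN u').mp hu'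
        have h2 := hψU _ h1
        have e : (⟨(x : Ω) * u' * (x : Ω)⁻¹, (le_sup_left : U ≤ _) h1⟩ :
            ↥(U ⊔ centralizerIn (normalizerIn S U) U)) = x * ⟨u', (le_sup_left : U ≤ _) hu'⟩ * x⁻¹ :=
          Subtype.ext rfl
        rw [e, map_mul, map_mul, map_inv] at h2
        exact h2
      intro x
      refine ⟨hom_mem_S F hψ x, ?_⟩
      refine Subgroup.mem_normalizer_iff.mpr ?_
      intro y
      constructor
      · exact key x y
      · intro h
        have := key x⁻¹ _ h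
        rw [map_inv] at this
        have e : (ψ x)⁻¹ * (ψ x * y * (ψ x)⁻¹) * (ψ x)⁻¹⁻¹ = y := by group
        rwa [e] at this
    have e : U ⊔ centralizerIn (normalizerIn S U) U =
        (U ⊔ centralizerIn (normalizerIn S U) U) ⊔ U := by
      rw [sup_assoc, sup_comm (centralizerIn (normalizerIn S U) U) U, ← sup_assoc, sup_idem]
    refine ⟨hψ, hR₀R, hval, ψ.comp (Subgroup.inclusion e.ge), cast_mem F e hψ, fun x => rfl, ?_⟩
    rw [map_subgroupOf_eq_iff]
    refine ⟨fun y hy => ?_, fun q hq => ?_⟩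
    · exact hψU _ hy
    · obtain ⟨u', hu', hq'⟩ := hψUsurj q hq
      exact ⟨⟨u', (le_sup_right : U ≤ (U ⊔ centralizerIn (normalizerIn S U) U) ⊔ U) hu'⟩, hu', hq'⟩
  have h := hmain ψ hψN hcR₀
  rw [← hψe c hcU hcR₀]
  exact h


theorem global_fix' [Finite S] [Fact p.Prime] (hS : IsPGroup p S)
    (W : ∀ (Q : Type u) [Group Q], Subgroup Q)
    (hW2 : ∀ (Q R : Type u) [Group Q] [Group R] [Finite Q], IsPGroup p Q → ∀ φ : Q ≃* R,
      (W Q).map φ.toMonoidHom = W R)
    (hWZ : ∀ (Q : Type u) [Group Q] [Finite Q], IsPGroup p Q → Subgroup.center Q ≤ W Q)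
    (F : FusionSystem S) (hF : F.IsSaturated p) (C : Set Ω)
    (hCZ : ∀ c ∈ C, c ∈ S ⊓ Subgroup.centralizer (S : Set Ω))
    (H : Type*) [Group H] (hfree : F.IsSectionFree p H)
    (hLoc : LocalHyp' p W S C H)
    (hTop : ∀ β ∈ F.Hom (inducedFunctor W S), β.range = inducedFunctor W S →
      ∀ c ∈ C, ∀ hc : c ∈ inducedFunctor W S, β ⟨c, hc⟩ = c) :
    ∀ c ∈ C, FixedBy F c := by
  have hTop' : ∀ R : Subgroup Ω, R = S → ∀ β ∈ F.Hom (inducedFunctor W R),
      β.range = inducedFunctor W R → ∀ c ∈ C, ∀ hc : c ∈ inducedFunctor W R, β ⟨c, hc⟩ = c := by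
    rintro R rfl
    exact hTop
  have claim : ∀ n : ℕ, ∀ U : Subgroup Ω, IsWP W F U →
      Nat.card S - Nat.card (normalizerIn S U) = n → ∀ ψ ∈ F.Hom U, ψ.range = U →
      ∀ c ∈ C, ∀ hc : c ∈ U, ψ ⟨c, hc⟩ = c := by
    intro n
    induction n using Nat.strong_induction_on with
    | _ n ih =>
    intro U hWP hn
    obtain ⟨hUfn, hVWP⟩ := (isWP_iff F U).mp hWP
    have hUS : U ≤ S := hUfn.1
    apply local_fix' hS W hWZ F hF C hCZ H hfree hLoc hUfn
    by_cases hRS : normalizerIn S U = S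
    · exact hTop' _ hRS
    · have hRS' : normalizerIn S U ≤ S := normalizerIn_le S U
      have hNRNV : normalizerIn S (normalizerIn S U) ≤
          normalizerIn S (inducedFunctor W (normalizerIn S U)) :=
        normalizerIn_le_normalizerIn_induced hS hW2 hRS'
      have hc1 : Nat.card (normalizerIn S U) < Nat.card (normalizerIn S (normalizerIn S U)) :=
        card_lt_card_normalizerIn hS hRS' hRS
      haveI : Finite (normalizerIn S (inducedFunctor W (normalizerIn S U))) :=
        finite_of_le (normalizerIn_le S _)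
      have hc2 : Nat.card (normalizerIn S (normalizerIn S U)) ≤
          Nat.card (normalizerIn S (inducedFunctor W (normalizerIn S U))) :=
        Subgroup.card_le_of_le hNRNV
      have hc3 : Nat.card (normalizerIn S (inducedFunctor W (normalizerIn S U))) ≤ Nat.card S :=
        Subgroup.card_le_of_le (normalizerIn_le S _)
      exact ih (Nat.card S - Nat.card (normalizerIn S (inducedFunctor W (normalizerIn S U))))
        (by omega) _ hVWP rfl
  apply fix_propagation hS F {U | IsWP W F U}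
  · intro P hP
    obtain ⟨U, hc, hWP⟩ := exists_wp_conj hS hW2 F hF hP
    have hUfn : F.IsFullyNormalized U := ((isWP_iff F U).mp hWP).1
    exact ⟨U, hWP, hc, (fc_fa_of_fullyNormalized hS F hF hUfn).2,
      receptive_of_fullyNormalized hS F hF hUfn⟩
  · intro U hU ψ hψ hr x hx hxU
    exact claim _ U hU rfl ψ hψ hr x hx hxU


/-- A subgroup `C` of the centre of the normalizer system of `W(S)` for whose elements the local
hypothesis holds lies in the centre of `F`. -/
theorem le_center_of_localHyp' [Finite S] [Fact p.Prime] (hS : IsPGroup p S)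
    (W : ∀ (Q : Type u) [Group Q], Subgroup Q)
    (hW2 : ∀ (Q R : Type u) [Group Q] [Group R] [Finite Q], IsPGroup p Q → ∀ φ : Q ≃* R,
      (W Q).map φ.toMonoidHom = W R)
    (hWZ : ∀ (Q : Type u) [Group Q] [Finite Q], IsPGroup p Q → Subgroup.center Q ≤ W Q)
    (F : FusionSystem S) (hF : F.IsSaturated p)
    (N : FusionSystem (normalizerIn S (inducedFunctor W S)))
    (hN : F.IsNormalizerSystem (inducedFunctor W S) N)
    (C : Subgroup Ω) (hCN : C ≤ N.center) (H : Type*) [Group H] (hfree : F.IsSectionFree p H)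
    (hLoc : LocalHyp' p W S (C : Set Ω) H) :
    C ≤ F.center := by
  have hTS : normalizerIn S (inducedFunctor W S) = S := normalizerIn_induced_top hS hW2
  have hTle : normalizerIn S (inducedFunctor W S) ≤ S := normalizerIn_le S _
  haveI : Finite (normalizerIn S (inducedFunctor W S)) := finite_of_le hTle
  have hWS : inducedFunctor W S ≤ S := induced_le W S
  haveI : Finite (inducedFunctor W S) := finite_of_le hWS
  have hNc : N.IsCentral N.center := Cfsg.Agent.S5144.result N
  have hCS : C ≤ S := hCN.trans (hNc.1.trans hTle)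
  have hCZ : ∀ c ∈ (C : Set Ω), c ∈ S ⊓ Subgroup.centralizer (S : Set Ω) := by
    intro c hc
    refine ⟨hCS hc, ?_⟩
    refine Subgroup.mem_centralizer_iff.mpr ?_
    intro s hs
    have hsT : s ∈ normalizerIn S (inducedFunctor W S) := by rw [hTS]; exact hs
    have hφ : conjHom C s ∈ N.Hom C := N.conj_mem (hCN.trans hNc.1) hsT
    have h := central_fixed N hNc hφ (hCN hc) hc
    have h' : s * c * s⁻¹ = c := h
    calc s * c = s * c * s⁻¹ * s := by group
      _ = c * s := by rw [h']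
  have hTop : ∀ β ∈ F.Hom (inducedFunctor W S), β.range = inducedFunctor W S →
      ∀ c ∈ (C : Set Ω), ∀ hc : c ∈ inducedFunctor W S, β ⟨c, hc⟩ = c := by
    intro β hβ hr c hcC hc
    have hβN : β ∈ N.Hom (inducedFunctor W S) := mem_normalizerSystem_of_range_eq F hWS hN hβ hr
    exact central_fixed N hNc hβN (hCN hcC) hc
  have hfix := global_fix' hS W hW2 hWZ F hF (C : Set Ω) hCZ H hfree hLoc hTop
  exact le_sSup (isCentral_of_fixedBy hS F hF hCS hfix)


/-- If, in every finite group `G` in which `T` embeds as a Sylow `p`-subgroup `P`, the images of the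
elements of `C` commuting with `N_G(W(P))` are weakly closed in `P`, the local hypothesis holds. -/
theorem localHyp_of_weaklyClosed' [Fact p.Prime] (W : ∀ (Q : Type u) [Group Q], Subgroup Q)
    (hW2 : ∀ (Q R : Type u) [Group Q] [Group R] [Finite Q], IsPGroup p Q → ∀ φ : Q ≃* R,
      (W Q).map φ.toMonoidHom = W R)
    (S : Subgroup Ω) [Finite S] (C : Set Ω) (H : Type*) [Group H]
    (h : ∀ (T : Subgroup Ω), T ≤ S → S ⊓ Subgroup.centralizer (S : Set Ω) ≤ T →
      ∀ (G : Type u) [Group G] [Finite G] (ι : T →* G), Function.Injective ι → ¬ Involves H G →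
      ∀ P : Sylow p G, (P : Subgroup G) = ι.range → ∀ c ∈ C, ∀ hc : c ∈ T,
      (∀ n ∈ Subgroup.normalizer ((inducedFunctor W (P : Subgroup G) : Subgroup G) : Set G),
        n * ι ⟨c, hc⟩ = ι ⟨c, hc⟩ * n) →
      ∀ g : G, g * ι ⟨c, hc⟩ * g⁻¹ ∈ (P : Subgroup G) → g * ι ⟨c, hc⟩ * g⁻¹ = ι ⟨c, hc⟩) :
    LocalHyp' p W S C H := by
  intro T hTS hZT G _ _ ι hinj hSyl hG c hcC hc h1 h2
  obtain ⟨P, hP⟩ := hSyl
  haveI : Finite T := finite_of_le hTS
  have hTp : IsPGroup p T := by
    have : IsPGroup p ι.range := hP ▸ P.isPGroup'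
    exact this.of_injective (MonoidHom.ofInjective hinj).toMonoidHom
      (MonoidHom.ofInjective hinj).injective
  have e : inducedFunctor W (P : Subgroup G) = (W ↥T).map ι := by
    have h := induced_range' hW2 hTp ι hinj
    rw [← hP] at h
    exact h
  have h3 := h T hTS hZT G ι hinj hG P hP c hcC hc (by rw [e]; exact h2)
  refine Subgroup.mem_center_iff.mpr ?_
  intro g
  have h4 : g * ι ⟨c, hc⟩ * g⁻¹ ∈ (P : Subgroup G) :=
    Cfsg.Agent.Lib.Helper84.pCore_le_sylow P
      ((Cfsg.Agent.Lib.Helper84.pCore_normal p G).conj_mem _ h1 g)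
  have h5 := h3 g h4
  calc g * ι ⟨c, hc⟩ = g * ι ⟨c, hc⟩ * g⁻¹ * g := by group
    _ = ι ⟨c, hc⟩ * g := by rw [h5]


end Cfsg.Agent.Lib.Helper51.WcFus
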