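import Mathlib
import Cfsg.Agent.Lib.Helper51.WcH
import Cfsg.Agent.Lib.Helper51.WcI
import Cfsg.Agent.Lib.Helper51.AgH
import Cfsg.Agent.Lib.Helper55.Cores

set_option autoImplicit false
set_option maxHeartbeats 800000

/-!
# The Thompson subgroup as a functor on groups: the hypotheses of the fusion system theorems
-/

universe u

namespace Cfsg.Agent.Lib.Helper51.Wc

open Subgroup Cfsg
open Cfsg.Agent.Lib.Helper33 Cfsg.Agent.Lib.Helper51
open scoped commutatorElement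

theorem thompsonAOf_top (Q : Type*) [Group Q] :
    thompsonSubgroupAOf (⊤ : Subgroup Q) = thompsonSubgroupA Q := by
  unfold thompsonSubgroupAOf
  exact thompsonA_map_equiv (Subgroup.topEquiv (G := Q))

theorem WJ_ne_bot {p : ℕ} : ∀ (Q : Type u) [Group Q] [Finite Q], IsPGroup p Q → Nontrivial Q →
    WJ Q ≠ ⊥ := by
  intro Q _ _ _ hnt
  haveI := hnt
  show thompsonSubgroupA Q ≠ ⊥
  rw [← thompsonAOf_top]
  exact thompsonAOf_ne_bot top_ne_bot

theorem center_le_WJ {p : ℕ} : ∀ (Q : Type u) [Group Q] [Finite Q], IsPGroup p Q →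
    Subgroup.center Q ≤ WJ Q := by
  intro Q _ _ _ x hx
  show x ∈ thompsonSubgroupA Q
  rw [← thompsonAOf_top]
  apply zIn_le_thompsonAOf (⊤ : Subgroup Q)
  refine ⟨mem_top x, ?_⟩
  show x ∈ centralizer ((⊤ : Subgroup Q) : Set Q)
  rw [mem_centralizer_iff]
  intro y _
  exact (mem_center_iff.mp hx y)

variable {G : Type*} [Group G]

/-- The quadratic element, in a general position. -/
theorem quad_core [Finite G] {p : ℕ} [Fact p.Prime] {T Q : Subgroup G} (hTp : IsPGroup p T)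
    (hQT : Q ≤ T) (hTQ : T ≤ normalizer (Q : Set G)) (hJ : ¬ thompsonSubgroupAOf T ≤ Q) :
    ∃ g : G, g ∈ T ∧ g ∉ Q ∧
      ⁅⁅Q ⊓ centralizer (Q : Set G), zpowers g⁆, zpowers g⁆ = ⊥ := by
  have hex : ∃ A ∈ maxAbIn T, ¬ A ≤ Q := by
    by_contra hcon
    push Not at hcon
    apply hJ
    rw [thompsonAOf_eq_sSup]
    exact sSup_le hcon
  have hZT : zIn Q ≤ T := (zIn_le Q).trans hQT
  have hZc : ∀ z ∈ zIn Q, ∀ z' ∈ zIn Q, z * z' = z' * z := (isMulComm_iff _).mp (zIn_isMulComm Q)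
  have hTZ : T ≤ normalizer (zIn Q : Set G) := hTQ.trans (normalizer_le_normalizer_zIn Q)
  have hQZ : ∀ h ∈ Q, ∀ z ∈ zIn Q, h * z = z * h := fun h hh z hz => (mem_zIn.mp hz).2 h hh
  obtain ⟨A, hA, hAQ, hquad⟩ := exists_maxAb_normalized_in hTp hZT hZc hTZ hQZ hex
  have hAc : ∀ a ∈ A, ∀ b ∈ A, a * b = b * a := (isMulComm_iff A).mp hA.2.1
  obtain ⟨g, hgA, hgQ⟩ := SetLike.not_le_iff_exists.mp hAQ
  refine ⟨g, hA.1 hgA, hgQ, ?_⟩
  have h1 : ⁅zIn Q, zpowers g⁆ ≤ A := by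
    rw [Subgroup.commutator_le]
    intro z hz a ha
    have haA : a ∈ A := (zpowers_le.mpr hgA) ha
    have := hquad z⁻¹ ((zIn Q).inv_mem hz) a⁻¹ (A.inv_mem haA)
    have e : ⁅z, a⁆ = cm z⁻¹ a⁻¹ := by
      rw [commutatorElement_def]; unfold cm; group
    rw [e]; exact this
  rw [eq_bot_iff]
  refine le_trans (Subgroup.commutator_mono h1 (zpowers_le.mpr hgA)) ?_
  rw [Subgroup.commutator_le]
  intro a ha b hb
  rw [Subgroup.mem_bot, commutatorElement_def, hAc a ha b hb]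
  group

theorem center_map_subtype' (Q : Subgroup G) :
    (Subgroup.center ↥Q).map Q.subtype = Q ⊓ Subgroup.centralizer (Q : Set G) := by
  ext x
  constructor
  · rintro ⟨y, hy, rfl⟩
    refine ⟨y.2, ?_⟩
    refine Subgroup.mem_centralizer_iff.mpr ?_
    intro q hq
    have := Subgroup.mem_center_iff.mp hy ⟨q, hq⟩
    exact congrArg Subtype.val this
  · rintro ⟨hxQ, hxC⟩
    refine ⟨⟨x, hxQ⟩, ?_, rfl⟩
    refine Subgroup.mem_center_iff.mpr ?_
    intro q
    apply Subtype.ext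
    exact Subgroup.mem_centralizer_iff.mp hxC q q.2

end Cfsg.Agent.Lib.Helper51.Wc

namespace Cfsg.Agent.Lib.Helper51.Wc

open Subgroup Cfsg
open Cfsg.Agent.Lib.Helper33 Cfsg.Agent.Lib.Helper51
open scoped commutatorElement

/-- The quadratic element condition for the functor `J`. -/
theorem quad_type {p : ℕ} [Fact p.Prime] : ∀ (G : Type u) [Group G] [Finite G] (P : Sylow p G),
    ¬ (((WJ ↥(P : Subgroup G)).map (P : Subgroup G).subtype : Subgroup G)).Normal →
    ∃ g : G, g ∈ (P : Subgroup G) ∧ g ∉ Cfsg.pCore p G ∧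
      ⁅⁅Subgroup.center ↥(Cfsg.pCore p G) |>.map (Cfsg.pCore p G).subtype, Subgroup.zpowers g⁆,
        Subgroup.zpowers g⁆ = ⊥ := by
  intro G _ _ P hn
  have hQn : (Cfsg.pCore p G).Normal := Cfsg.Agent.Lib.Helper55.pCore_normal' p
  have hQP : Cfsg.pCore p G ≤ (P : Subgroup G) := Cfsg.Agent.Lib.Helper11.pCore_le_sylow P
  have hNQ : normalizer ((Cfsg.pCore p G : Subgroup G) : Set G) = ⊤ := normalizer_eq_top_iff.mpr hQn
  have hJ : ¬ thompsonSubgroupAOf (P : Subgroup G) ≤ Cfsg.pCore p G := by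
    intro hle
    apply hn
    show (thompsonSubgroupAOf (P : Subgroup G)).Normal
    rw [← normalizer_eq_top_iff, eq_top_iff, ← thompsonAOf_eq_of_le hQP hle, ← hNQ]
    exact normalizer_le_normalizer_thompsonAOf _
  obtain ⟨g, hgP, hgQ, hq⟩ := quad_core P.isPGroup' hQP (hNQ ▸ le_top) hJ
  refine ⟨g, hgP, hgQ, ?_⟩
  rw [center_map_subtype']
  exact hq

end Cfsg.Agent.Lib.Helper51.Wc
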